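import Mathlib

/-!
The finite searches for degrees and involution values in the principal blocks for `p = 7`.
-/

set_option autoImplicit false
set_option maxRecDepth 100000

namespace Cfsg.Agent.Compute.G22

/-- The possible values of a character of degree `F.natAbs` at an involution. -/
def vals (F : ℤ) : List ℤ :=
  ((List.range (2 * F.natAbs + 1)).map fun i : ℕ => (i : ℤ) - F.natAbs).filter fun a =>
    decide ((4 : ℤ) ∣ F.natAbs - a) && decide (a * a < F * F) && decide (a * a ≤ 1728)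

/-- The sign of a signed degree. -/
def sgn (F : ℤ) : ℤ := if F < 0 then -1 else 1

/-- Signed degrees in a group of order `12096`. -/
def degs : List ℤ := [-48, -27, -6, 8, 36, 64]

theorem degs_spec : ∀ d ∈ List.range 110, 2 ≤ d → d ∣ 12096 →
    (d % 7 = 1 → ((d : ℕ) : ℤ) ∈ degs) ∧ (d % 7 = 6 → -((d : ℕ) : ℤ) ∈ degs) := by
  decide +kernel

/-- The options of signed degrees. -/
def options : List (List ℤ) :=
  [[-27, -6, -6, -6, 8, 36], [-27, -6, 8, 8, 8, 8], [-48, -27, -6, 8, 8, 64],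
    [-48, -27, -6, 8, 36, 36], [-27, -27, -27, 8, 8, 64], [-27, -27, -27, 8, 36, 36]]

theorem options_spec : ∀ a ∈ degs, ∀ b ∈ degs, a ≤ b → ∀ c ∈ degs, b ≤ c → ∀ d ∈ degs, c ≤ d →
    ∀ e ∈ degs, d ≤ e → ∀ f ∈ degs, e ≤ f → 1 + (a + b + c + d + e + f) = 0 →
      1 + (a * a + b * b + c * c + d * d + e * e + f * f) ≤ 12096 →
        [a, b, c, d, e, f] ∈ options := by
  decide +kernel

/-- The divisors of `1728` up to `864` that are divisible by `6`. -/
def centOrders : List ℤ :=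
  [6, 12, 18, 24, 36, 48, 54, 72, 96, 108, 144, 192, 216, 288, 432, 576, 864]

/-- The surviving value pattern. -/
def surv : List (ℤ × ℤ) := [(-27, -1), (-27, -1), (-27, -1), (8, 0), (36, -4), (36, 0)]

/-- The value lists, tabulated. -/
def tbl (F : ℤ) : List ℤ :=
  if F = -48 then [-40, -36, -32, -28, -24, -20, -16, -12, -8, -4, 0, 4, 8, 12, 16, 20, 24, 28, 32, 36, 40] else
  if F = -27 then [-25, -21, -17, -13, -9, -5, -1, 3, 7, 11, 15, 19, 23] else
  if F = -6 then [-2, 2] else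
  if F = 8 then [-4, 0, 4] else
  if F = 36 then [-32, -28, -24, -20, -16, -12, -8, -4, 0, 4, 8, 12, 16, 20, 24, 28, 32] else
  if F = 64 then [-40, -36, -32, -28, -24, -20, -16, -12, -8, -4, 0, 4, 8, 12, 16, 20, 24, 28, 32, 36, 40] else []

theorem tbl_eq : ∀ F ∈ degs, tbl F = vals F := by
  decide +kernel

/-- The final test. -/
def leaf (sq T : ℤ) (acc : List (ℤ × ℤ)) : Bool :=
  decide (864 < sq) || (centOrders.all fun k => decide (k * k ≠ T) || decide (k < sq)) ||
    decide (acc.reverse = surv)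

/-- Search for the value patterns. -/
def go : List ℤ → ℤ → ℤ → ℤ → ℤ → ℤ → List (ℤ × ℤ) → Bool
  | [], _, _, lin, sq, T, acc => decide (lin ≠ 0) || leaf sq T acc
  | [F], pF, pa, lin, sq, T, acc =>
    let a := -(lin * sgn F)
    (decide (F = pF) && decide (a < pa)) || decide (¬ (4 : ℤ) ∣ F.natAbs - a) ||
      decide (F * F ≤ a * a) || leaf (sq + a * a) (T + a * a * (1728 / F)) ((F, a) :: acc)
  | F :: rest, pF, pa, lin, sq, T, acc =>
    (tbl F).all fun a =>
      (decide (F = pF) && decide (a < pa)) || decide (864 < sq + a * a) ||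
        go rest F a (lin + sgn F * a) (sq + a * a) (T + a * a * (1728 / F)) ((F, a) :: acc)

theorem go_0 : go [-27, -6, -6, -6, 8, 36] 0 0 1 1 1728 [] = true := by
  decide +kernel

theorem go_1 : go [-27, -6, 8, 8, 8, 8] 0 0 1 1 1728 [] = true := by
  decide +kernel

theorem go_2 : go [-48, -27, -6, 8, 8, 64] 0 0 1 1 1728 [] = true := by
  decide +kernel

theorem go_3 : go [-48, -27, -6, 8, 36, 36] 0 0 1 1 1728 [] = true := by
  decide +kernel

theorem go_4 : go [-27, -27, -27, 8, 8, 64] 0 0 1 1 1728 [] = true := by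
  decide +kernel

theorem go_5 : go [-27, -27, -27, 8, 36, 36] 0 0 1 1 1728 [] = true := by
  decide +kernel

theorem options_go : ∀ L ∈ options, go L 0 0 1 1 1728 [] = true := by
  simp only [options, List.mem_cons, List.not_mem_nil, or_false, forall_eq_or_imp, forall_eq]
  exact ⟨go_0, go_1, go_2, go_3, go_4, go_5⟩

theorem surv_second : ∀ b₁ ∈ vals 8, ∀ b₂ ∈ vals (-27), ∀ b₃ ∈ vals (-27), ∀ b₅ ∈ vals 36,
    let b₄ := 3 * b₅ - 27 - b₂ - b₃
    let b₆ := 2 * b₅ - 28 - b₁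
    b₄ ∈ vals (-27) → b₆ ∈ vals 36 →
      1728 + 216 * b₁ * b₁ - 64 * (b₂ * b₂ + b₃ * b₃ + b₄ * b₄) + 48 * (b₅ * b₅ + b₆ * b₆) ≠ 0 := by
  decide +kernel

/-- Signed degree candidates in orders `4032` and `6048`. -/
def cand (N : ℕ) : List ℤ :=
  ((List.range 78).filter fun d => decide (2 ≤ d) && decide (d ∣ N) &&
    (decide (d % 7 = 1) || decide (d % 7 = 6))).map fun d : ℕ => if d % 7 = 1 then (d : ℤ) else -(d : ℤ)

/-- Exceptional signed degree candidates. -/
def candExc (N r : ℕ) : List ℤ :=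
  ((List.range 78).filter fun d => decide (2 ≤ d) && decide (d ∣ N) &&
    (decide (d % 7 = r) || decide (d % 7 = 7 - r))).map fun d : ℕ =>
      if d % 7 = r then (d : ℤ) else -(d : ℤ)

theorem opts_small : ∀ F ∈ cand 4032, ∀ T ∈ candExc 4032 2,
    1 + F = T → 1 + F * F + 3 * T * T ≤ 4032 → F = 8 ∧ T = 9 := by
  decide +kernel

theorem opts_mid : ∀ F ∈ cand 6048, ∀ F' ∈ cand 6048, ∀ T ∈ candExc 6048 3,
    1 + F + F' = T → 1 + F * F + F' * F' + 2 * T * T ≤ 6048 →
      (F = -6 ∧ F' = 8 ∧ T = 3) ∨ (F = 8 ∧ F' = -6 ∧ T = 3) ∨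
      (F = 8 ∧ F' = -27 ∧ T = -18) ∨ (F = -27 ∧ F' = 8 ∧ T = -18) ∨
      (F = -6 ∧ F' = -27 ∧ T = -32) ∨ (F = -27 ∧ F' = -6 ∧ T = -32) := by
  decide +kernel

theorem mid_eighteen : ∀ a ∈ vals 8, ∀ c ∈ vals 18,
    216 + 27 * a * a - 8 * (1 + a + c) * (1 + a + c) + 12 * c * c ≠ 0 := by
  decide +kernel

theorem mid_thirtytwo : ∀ a ∈ vals (-6), ∀ c ∈ vals (-32),
    864 - 144 * a * a - 32 * (1 - a + c) * (1 - a + c) + 27 * c * c = 0 →
      (a = -2 ∧ c = 0) ∨ (a = 2 ∧ c = 16) := by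
  decide +kernel

end Cfsg.Agent.Compute.G22
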