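import Cfsg.Agent.Compute.G22.Coord
import Cfsg.Agent.Compute.G22.Data

/-!
The possible two-point stabilisers.
-/

set_option autoImplicit false
set_option maxRecDepth 100000
set_option maxHeartbeats 1000000

namespace Cfsg.Agent.Compute.G22

/-- Compatibility with the involution. -/
def eigB (m i x : ℕ) : Bool :=
  let k := mk' m
  getT (tmT m) x == if getT (tmT m) i == i then x else invC k x

/-- The kernel is trivial. -/
def kerB (k x y w : ℕ) : Bool := (List.range 26).all fun i => endC k x y w (i + 1) != 0

/-- The images respect the products with the generators. -/
def homB (k x y w : ℕ) : Bool :=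
  (List.range 27).all fun i => [9, 3, 1].all fun g =>
    endC k x y w (mulC k i g) == mulC k (endC k x y w i) (endC k x y w g)

/-- Check of the list of automorphisms. -/
def ctB (m : ℕ) : Bool :=
  let k := mk' m
  (List.range 27).all fun x => !(eigB m 9 x) || (List.range 27).all fun y => !(eigB m 3 y) ||
    (List.range 27).all fun w => !(eigB m 1 w) || !(kerB k x y w) || !(homB k x y w) ||
      (ctList.getD m []).contains (endT k x y w)

theorem ct_check_zero : ctB 0 = true := by decide +kernel
theorem ct_check_one : ctB 1 = true := by decide +kernel
theorem ct_check_two : ctB 2 = true := by decide +kernel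

/-- The eight elements. -/
def els (a b : ℕ) : List ℕ :=
  let a2 := compT a a
  let a3 := compT a a2
  [idT, a, a2, a3, compT idT b, compT a b, compT a2 b, compT a3 b]

/-- The number of fixed codes. -/
def fixN (T : ℕ) : ℕ := ((List.range 27).filter fun i => getT T i == i).length

/-- All entries differ. -/
def distinctB : List ℕ → Bool
  | [] => true
  | x :: xs => !(xs.contains x) && distinctB xs

/-- The conditions on a two-point stabiliser. -/
def validH (m a b : ℕ) : Bool :=
  let a2 := compT a a
  (a2 != idT && compT a2 a2 == idT) &&
    ((els a b).take 4).contains (compT b b) && ((els a b).drop 4).contains (compT b a) &&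
      distinctB (els a b) && (els a b).contains (tmT m) &&
      (els a b).all fun x => x == idT || compT x x != idT || fixN x == 3

/-- The parameter of a representative. -/
def repK (r : ℕ) : ℕ := if r < 5 then 0 else 1

/-- A relabelling by an automorphism takes the representative into the given set. -/
def witB (m : ℕ) (el : List ℕ) (e : ℕ × ℕ × ℕ × ℕ × ℕ) : Bool :=
  let k := mk' m
  let (key, r, x, y, w) := e
  key == el.sum && decide (r < 8) && repK r == k && decide (x < 27) && decide (y < 27) &&
    decide (w < 27) && kerB k x y w &&
    mulC k x w == mulC k w x && mulC k y w == mulC k w y &&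
    mulC k x y == mulC k (mulC k y x) (powC k w k) &&
    (let al := endT k x y w
     (reps.getD r []).all fun R => el.any fun T => compT al R == compT T al)

/-- Every admissible pair leads to a representative. -/
def hB (m : ℕ) : Bool :=
  (ctList.getD m []).all fun a => compT a a == idT || (compT (compT a a) (compT a a) != idT) ||
    (ctList.getD m []).all fun b => !(validH m a b) ||
      (conjList.getD m []).any fun e => witB m (els a b) e

theorem h_check_zero : hB 0 = true := by decide +kernel
theorem h_check_one : hB 1 = true := by decide +kernel
theorem h_check_two : hB 2 = true := by decide +kernel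

end Cfsg.Agent.Compute.G22
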