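import Cfsg.Agent.Compute.G22.WDefs
import Cfsg.Agent.Compute.G22.HCheck

/-!
The automorphisms fixing two points.
-/

set_option autoImplicit false
set_option maxRecDepth 100000

namespace Cfsg.Agent.Compute.G22

/-- The commutator code. -/
def commC (x y : ℕ) : ℕ :=
  mulC 1 (mulC 1 (mulC 1 (invC 1 x) (invC 1 y)) x) y

/-- The conditions on the restriction to the Sylow subgroup. -/
def autB (x y : ℕ) : Bool :=
  let A := endT 1 x y (commC x y)
  let L := reps.getD 7 []
  kerB 1 x y (commC x y) && (L.all fun T => L.any fun T' => compT A T == compT T' A) &&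
    L.any fun T => (List.range 26).all fun i =>
      getT A (getT wA (i + 1)) == getT wA (getT T (getT A (i + 1)))

/-- The pairs of images. -/
def autList : List (ℕ × ℕ) :=
  ((List.range 27).flatMap fun x => (List.range 27).map fun y => (x, y)).filter fun p => autB p.1 p.2

theorem autList_length : autList.length ≤ 16 := by decide +kernel

theorem gens_check : (wA ≠ 0 ∧ ∃ T ∈ reps.getD 7 [], ∀ x ∈ List.range 28,
    getT wB x = getT wA (if x = 27 then 27 else getT T x)) := by decide +kernel

end Cfsg.Agent.Compute.G22
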