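import Cfsg.Agent.H36.BlockDegree
import Cfsg.Agent.H83.ClassConst
import Cfsg.Agent.H80.TwoBlocks
import Cfsg.Agent.H81.SimpleDegree

/-!
Identities between the nonexceptional and one exceptional character of the principal block for a
Sylow subgroup of order `p`: a class function vanishing on the `p`-singular elements has equal
weighted inner products with both sides.
-/

set_option autoImplicit false

namespace Cfsg.Agent.Compute.G22

open Cfsg Subgroup Cfsg.Agent.BlockBasic Cfsg.Agent.CharBasic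
open scoped ComplexConjugate

variable {G : Type*} [Group G] [Fintype G]

/-- The part of the principal block that is used: `∑ s χ = ε θ` on regular elements. -/
structure PBlock (G : Type*) [Group G] [Fintype G] (p r : ℕ) where
  X : Finset (IrrCharacter G)
  Y : Finset (IrrCharacter G)
  θ : IrrCharacter G
  s : IrrCharacter G → ℤ
  ε : ℤ
  mem : θ ∈ Y
  disj : Disjoint X Y
  cardX : X.card = r
  cardY : Y.card = (p - 1) / r
  triv : trivialIrr ∈ X
  s_triv : s trivialIrr = 1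
  s_sign : ∀ χ ∈ X, s χ = 1 ∨ s χ = -1
  s_mod : ∀ χ ∈ X, (charDegree (χ : G → ℂ) : ℤ) ≡ s χ [ZMOD p]
  ε_sign : ε = 1 ∨ ε = -1
  ε_mod : (charDegree (θ : G → ℂ) : ℤ) ≡ ε * r [ZMOD p]
  same : ∀ η ∈ Y, ∀ g : G, ¬ p ∣ orderOf g → (η : G → ℂ) g = (θ : G → ℂ) g
  rel : ∀ g : G, ¬ p ∣ orderOf g →
    (ε : ℂ) * (θ : G → ℂ) g = ∑ χ ∈ X, (s χ : ℂ) * (χ : G → ℂ) g
  real : ∀ χ ∈ X ∪ Y, H80.conjIrr χ ∈ X ∪ Y

theorem exists_pblock {p : ℕ} [Fact p.Prime] (P : Sylow p G) (hP : Nat.card (P : Subgroup G) = p)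
    {r : ℕ} (hr : (centralizer ((P : Subgroup G) : Set G)).relIndex
      (normalizer ((P : Subgroup G) : Set G)) = r) : Nonempty (PBlock G p r) := by
  classical
  have hp : p.Prime := Fact.out
  obtain ⟨M, hM⟩ := exists_isPModular hp
  obtain ⟨X, Y, εX, ε, hB, hXY, hXc, hYc, hX, hε, hY, hYeq, hrel, htriv, -⟩ :=
    H86.Abelian.exists_structure_full P hP hM
  rw [show (centralizer ((P : Subgroup G) : Set G)).relIndex (normalizer (P : Set G)) = r from hr]
    at hXc hY hYc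
  have hrdvd : r ∣ p - 1 := hr ▸ H36.relIndex_centralizer_dvd_of_prime hp _ hP
  have hr0 : r ≠ 0 := hr ▸ FiniteIndex.index_ne_zero
  obtain ⟨θ, hθ⟩ : Y.Nonempty := by
    rw [← Finset.card_pos, hYc]
    exact Nat.div_pos (Nat.le_of_dvd (by have := hp.two_le; omega) hrdvd) (by omega)
  have hεX1 : εX trivialIrr = 1 := by
    obtain ⟨h1, h2, h3⟩ := hX _ htriv
    obtain ⟨x, hx⟩ := exists_prime_orderOf_dvd_card' (G := (P : Subgroup G)) p (by rw [hP])
    have h4 := h3 x x.2 (fun h => by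
      rw [← orderOf_coe, h, orderOf_one] at hx; exact hp.ne_one hx.symm) 1 (one_mem _)
        (by rw [orderOf_one, Nat.dvd_one]; exact hp.ne_one)
    have h5 : ((1 : ℤ) : ℂ) = (εX trivialIrr : ℂ) := by rw [← h4, Int.cast_one]; rfl
    exact_mod_cast h5.symm
  refine ⟨⟨X, Y, θ, εX, ε, hθ, hXY, hXc, hYc, htriv, hεX1, fun χ h => (hX χ h).1,
    fun χ h => (hX χ h).2.1, hε, hY θ hθ, fun η h g hg => hYeq η h θ hθ g hg,
    fun g hg => hrel θ hθ g hg, fun χ h => ?_⟩⟩
  have hmem : χ ∈ principalBlock M G := (hB χ).2 (Finset.mem_union.1 h)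
  have hreal : H80.conjIrr (trivialIrr : IrrCharacter G) = trivialIrr :=
    Subtype.ext (funext fun g => by simp [H80.conjIrr_apply, trivialIrr])
  exact Finset.mem_union.2 ((hB _).1 (H80.conjIrr_mem_blockOf hreal hmem))

namespace PBlock

variable {p r : ℕ} (B : PBlock G p r)

/-- Pairing of a function with a character. -/
noncomputable def pair (F : G → ℂ) (χ : IrrCharacter G) : ℂ :=
  ∑ g : G, F g * conj ((χ : G → ℂ) g)

theorem pair_rel {F : G → ℂ} (hF : ∀ g : G, p ∣ orderOf g → F g = 0) :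
    ∑ χ ∈ B.X, (B.s χ : ℂ) * pair F χ = (B.ε : ℂ) * pair F B.θ := by
  simp only [pair, Finset.mul_sum]
  rw [Finset.sum_comm]
  refine Finset.sum_congr rfl fun g _ => ?_
  by_cases hg : p ∣ orderOf g
  · simp [hF g hg]
  · have h := congrArg conj (B.rel g hg)
    simp only [map_mul, map_intCast, map_sum] at h
    rw [mul_left_comm _ (F g), h, Finset.mul_sum]
    exact Finset.sum_congr rfl fun χ _ => by ring

/-- The class pair count. -/
noncomputable def cnt (s t g : G) : ℂ :=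
  (Nat.card {a : G // IsConj s a ∧ IsConj t (a⁻¹ * g)} : ℂ)

theorem pair_cnt (s t : G) (χ : IrrCharacter G) :
    pair (cnt s t) χ = ((centralizer ({s} : Set G)).index : ℂ) *
      ((centralizer ({t} : Set G)).index : ℂ) *
        (conj ((χ : G → ℂ) s) * conj ((χ : G → ℂ) t) / (χ : G → ℂ) 1) := by
  have hG : (Nat.card G : ℂ) ≠ 0 := Nat.cast_ne_zero.2 Nat.card_pos.ne'
  apply mul_left_cancel₀ hG
  rw [pair, Finset.mul_sum]
  simp only [cnt, ← mul_assoc, H83.card_pairs_mul_card, Finset.mul_sum, Finset.sum_mul]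
  rw [Finset.sum_comm, Finset.sum_eq_single χ]
  · have h := classInner_irr_self χ.2
    rw [classInner_def, inv_mul_eq_iff_eq_mul₀ hG, mul_one] at h
    simp only [div_eq_mul_inv, mul_assoc]
    rw [← Finset.mul_sum, ← Finset.mul_sum, ← Finset.mul_sum, ← Finset.mul_sum]
    rw [Finset.sum_congr rfl (g := fun g => ((χ : G → ℂ) 1)⁻¹ * ((χ : G → ℂ) g * conj ((χ : G → ℂ) g)))
      (fun g _ => by ring), ← Finset.mul_sum, h]
    ring
  · intro ψ _ hψ
    have h := classInner_irr_of_ne ψ.2 χ.2 (fun e => hψ (Subtype.ext e))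
    rw [classInner_def, inv_mul_eq_iff_eq_mul₀ hG, mul_zero] at h
    simp only [div_eq_mul_inv, mul_assoc]
    rw [← Finset.mul_sum, ← Finset.mul_sum, ← Finset.mul_sum, ← Finset.mul_sum]
    rw [Finset.sum_congr rfl (g := fun g => ((ψ : G → ℂ) 1)⁻¹ * ((ψ : G → ℂ) g * conj ((χ : G → ℂ) g)))
      (fun g _ => by ring), ← Finset.mul_sum, h]
    simp
  · exact fun h => absurd (Finset.mem_univ χ) h

theorem pair_one (χ : IrrCharacter G) :
    pair (fun _ : G => (1 : ℂ)) χ = if χ = trivialIrr then (Nat.card G : ℂ) else 0 := by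
  have hG : (Nat.card G : ℂ) ≠ 0 := Nat.cast_ne_zero.2 Nat.card_pos.ne'
  have h := classInner_irr (isIrrCharacter_one (G := G)) χ.2
  rw [classInner_def, inv_mul_eq_iff_eq_mul₀ hG] at h
  rw [pair, h]
  by_cases e : χ = trivialIrr
  · subst e
    rw [if_pos rfl, if_pos (show (fun _ : G => (1 : ℂ)) = (trivialIrr : IrrCharacter G).1 from rfl),
      mul_one]
  · rw [if_neg e, if_neg (fun h' => e (Subtype.ext h'.symm)), mul_zero]

theorem θ_ne_triv : B.θ ≠ trivialIrr := fun h =>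
  Finset.disjoint_left.1 B.disj B.triv (h ▸ B.mem)

/-- The structure constant identity. -/
theorem cnt_eq (s t : G) (c : ℕ) (hc : ∀ g : G, p ∣ orderOf g → cnt s t g = c) :
    ((centralizer ({s} : Set G)).index : ℂ) * ((centralizer ({t} : Set G)).index : ℂ) *
      (∑ χ ∈ B.X, (B.s χ : ℂ) * (conj ((χ : G → ℂ) s) * conj ((χ : G → ℂ) t) / (χ : G → ℂ) 1) -
        (B.ε : ℂ) * (conj ((B.θ : G → ℂ) s) * conj ((B.θ : G → ℂ) t) / (B.θ : G → ℂ) 1)) =
      (c : ℂ) * Nat.card G := by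
  classical
  have h := B.pair_rel (F := fun g => cnt s t g - c) fun g hg => by rw [hc g hg, sub_self]
  have hsub : ∀ χ : IrrCharacter G, pair (fun g => cnt s t g - (c : ℂ)) χ =
      pair (cnt s t) χ - (c : ℂ) * pair (fun _ : G => (1 : ℂ)) χ := fun χ => by
    simp only [pair, sub_mul, Finset.sum_sub_distrib, Finset.mul_sum, one_mul]
  simp only [hsub, pair_cnt, pair_one, mul_sub, Finset.sum_sub_distrib, mul_ite, mul_zero,
    Finset.sum_ite_eq', if_pos B.triv, if_neg B.θ_ne_triv, B.s_triv, Int.cast_one, one_mul,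
    sub_zero] at h
  rw [mul_sub, Finset.mul_sum]
  rw [Finset.sum_congr rfl (g := fun χ => (B.s χ : ℂ) *
    (((centralizer ({s} : Set G)).index : ℂ) * ((centralizer ({t} : Set G)).index : ℂ) *
      (conj ((χ : G → ℂ) s) * conj ((χ : G → ℂ) t) / (χ : G → ℂ) 1))) (fun χ _ => by ring)]
  linear_combination h

theorem centralizer_ge (g : G) (hg : ¬ p ∣ orderOf g) :
    ∑ χ ∈ B.X, ‖(χ : G → ℂ) g‖ ^ 2 + ((p - 1) / r : ℕ) * ‖(B.θ : G → ℂ) g‖ ^ 2 ≤
      (Nat.card (centralizer ({g} : Set G)) : ℝ) := by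
  classical
  have h : (∑ χ : IrrCharacter G, ‖(χ : G → ℂ) g‖ ^ 2 : ℝ) =
      (Nat.card (centralizer ({g} : Set G)) : ℝ) := by
    apply Complex.ofReal_injective
    push_cast
    rw [← second_orthogonality_self g]
    exact Finset.sum_congr rfl fun χ _ => (Complex.mul_conj' _).symm
  have hle := Finset.sum_le_sum_of_subset_of_nonneg (Finset.subset_univ (B.X ∪ B.Y))
    (f := fun χ : IrrCharacter G => ‖(χ : G → ℂ) g‖ ^ 2) (fun χ _ _ => sq_nonneg _)
  rw [h, Finset.sum_union B.disj,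
    Finset.sum_congr rfl (g := fun _ => ‖(B.θ : G → ℂ) g‖ ^ 2)
      (fun η hη => by rw [B.same η hη g hg] : ∀ η ∈ B.Y, ‖(η : G → ℂ) g‖ ^ 2 = ‖(B.θ : G → ℂ) g‖ ^ 2),
    Finset.sum_const, nsmul_eq_mul, B.cardY] at hle
  exact hle

/-- Degrees as signed numbers. -/
theorem deg_le (hp1 : p ≠ 1) :
    ∑ χ ∈ B.X, (charDegree (χ : G → ℂ) : ℤ) ^ 2 +
      ((p - 1) / r : ℕ) * (charDegree (B.θ : G → ℂ) : ℤ) ^ 2 ≤ Nat.card G := by
  classical
  have h : (∑ χ : IrrCharacter G, (charDegree (χ : G → ℂ) : ℤ) ^ 2) = Nat.card G := by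
    have h' : ∑ χ : IrrCharacter G, ((charDegree (χ : G → ℂ) : ℂ)) ^ 2 = (Nat.card G : ℂ) := by
      rw [← sum_sq_degree]
      exact Finset.sum_congr rfl fun χ _ => by rw [(H83.charDegree_eq χ.2).1]
    exact_mod_cast h'
  have hle := Finset.sum_le_sum_of_subset_of_nonneg (Finset.subset_univ (B.X ∪ B.Y))
    (f := fun χ : IrrCharacter G => (charDegree (χ : G → ℂ) : ℤ) ^ 2) (fun χ _ _ => sq_nonneg _)
  have hY : ∀ η ∈ B.Y, (charDegree (η : G → ℂ) : ℤ) ^ 2 = (charDegree (B.θ : G → ℂ) : ℤ) ^ 2 := by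
    intro η hη
    have := B.same η hη 1 (by rw [orderOf_one, Nat.dvd_one]; exact hp1)
    rw [(H83.charDegree_eq η.2).1, (H83.charDegree_eq B.θ.2).1] at this
    rw [show charDegree (η : G → ℂ) = charDegree (B.θ : G → ℂ) by exact_mod_cast this]
  rw [h, Finset.sum_union B.disj, Finset.sum_congr rfl hY, Finset.sum_const, nsmul_eq_mul,
    B.cardY] at hle
  exact hle

end PBlock

end Cfsg.Agent.Compute.G22
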