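import Cfsg.Agent.H81.SimpleDegree
import Mathlib

/-!
Values of characters of simple groups at elements of order two and three, and fixed dimensions.
-/

set_option autoImplicit false

namespace Cfsg.Agent.Compute.G22

open Cfsg Subgroup Cfsg.Agent.CharBasic Cfsg.Agent.H81.SimpleDegree
open scoped ComplexConjugate

variable {G : Type*} [Group G] [Finite G]

section Simple

variable [IsSimpleGroup G] (hna : ∃ x y : G, x * y ≠ y * x) {χ : IrrCharacter G}
  (hne : (χ : G → ℂ) ≠ fun _ => 1)

include hna hne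

theorem invol_value {n : ℕ} (hn : charDegree (χ : G → ℂ) = n) {J : G} (hJ : orderOf J = 2) :
    ∃ a : ℤ, (χ : G → ℂ) J = (a : ℂ) ∧ (4 : ℤ) ∣ n - a ∧ -(n : ℤ) < a ∧ a < n := by
  classical
  cases nonempty_fintype G
  obtain ⟨μ, hμ, hdet, hval⟩ := exists_eigenvalues hna χ n hn J
  have hv := hval 1
  simp only [pow_one] at hv
  have hsq : ∀ i, μ i = 1 ∨ μ i = -1 := fun i => by
    have := hμ i; rw [hJ] at this; exact sq_eq_one_iff.1 this
  set S := Finset.univ.filter fun i => μ i = -1 with hS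
  have he : ∀ i, μ i = if i ∈ S then -1 else 1 := fun i => by
    rcases hsq i with h | h
    · rw [if_neg (by simp [hS, h]; norm_num), h]
    · rw [if_pos (by simp [hS, h]), h]
  have hcard : S.card ≤ n := by simpa using S.card_le_univ
  have hsum : ∑ i, μ i = ((n : ℤ) - 2 * S.card : ℤ) := by
    rw [Finset.sum_congr rfl fun i _ => he i, Finset.sum_ite, Finset.sum_const, Finset.sum_const,
      Finset.filter_univ_mem, nsmul_eq_mul, nsmul_eq_mul]
    have : (Finset.univ.filter fun i => i ∉ S).card = n - S.card := by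
      rw [show (Finset.univ.filter fun i => i ∉ S) = Finset.univ \ S by ext; simp,
        Finset.card_univ_diff, Fintype.card_fin]
    rw [this, Nat.cast_sub hcard]
    push_cast; ring
  have heven : Even S.card := by
    rw [Finset.prod_congr rfl fun i _ => he i, Finset.prod_ite, Finset.prod_const,
      Finset.filter_univ_mem, Finset.prod_const_one, mul_one] at hdet
    exact (neg_one_pow_eq_one_iff_even (by norm_num)).1 hdet
  have hJ1 : J ≠ 1 := by rintro rfl; simp at hJ
  have hlt : 0 < S.card ∧ S.card < n := by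
    have hnorm : ‖(χ : G → ℂ) J‖ ≠ ‖(χ : G → ℂ) 1‖ := fun h => hJ1 (eq_one_of_norm hna hne h)
    rw [hv, hsum, (H83.charDegree_eq χ.2).1, hn, Complex.norm_natCast] at hnorm
    constructor
    · rcases Nat.eq_zero_or_pos S.card with h | h
      · simp [h] at hnorm
      · exact h
    · rcases eq_or_lt_of_le hcard with h | h
      · refine absurd ?_ hnorm
        rw [h, Complex.norm_intCast]
        push_cast
        rw [show (n : ℝ) - 2 * n = -n by ring, abs_neg, Nat.abs_cast]
      · exact h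
  refine ⟨(n : ℤ) - 2 * S.card, by rw [hv, hsum], ?_, by omega, by omega⟩
  obtain ⟨k, hk⟩ := heven
  exact ⟨k, by omega⟩

theorem three_value (h3 : charDegree (χ : G → ℂ) = 3) {g : G} (hg : orderOf g = 3) :
    (χ : G → ℂ) g = 0 := by
  cases nonempty_fintype G
  obtain ⟨μ, hμ, hdet, hval⟩ := exists_eigenvalues hna χ 3 h3 g
  have hv := hval 1
  simp only [pow_one] at hv
  have hc : ∀ i, μ i ^ 3 = 1 := fun i => by have := hμ i; rwa [hg] at this
  rw [Fin.sum_univ_three] at hv
  rw [Fin.prod_univ_three] at hdet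
  rw [hv]
  have hg1 : g ≠ 1 := by rintro rfl; simp at hg
  have hne3 : ∀ z : ℂ, z ^ 3 = 1 → μ 0 = z → μ 1 = z → μ 2 = z → False := by
    intro z hz h0 h1 h2
    apply hg1
    refine eq_one_of_norm hna hne ?_
    rw [hv, h0, h1, h2, (H83.charDegree_eq χ.2).1, h3, show z + z + z = 3 * z by ring, norm_mul,
      Complex.norm_natCast, Complex.norm_eq_one_of_pow_eq_one hz (by norm_num)]
    simp
  have key : ∀ a b c : ℂ, a ^ 3 = 1 → a * b * c = 1 → a = b → c = a := by
    intro a b c ha h hab
    subst hab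
    have h0 : a ≠ 0 := by rintro rfl; norm_num at ha
    apply mul_left_cancel₀ (mul_ne_zero h0 h0)
    linear_combination h - ha
  have hd01 : μ 0 ≠ μ 1 := fun h => hne3 _ (hc 0) rfl h.symm (key _ _ _ (hc 0) hdet h)
  have hd02 : μ 0 ≠ μ 2 := fun h =>
    hne3 _ (hc 0) rfl (key _ _ _ (hc 0) (by linear_combination hdet) h) h.symm
  have hd12 : μ 1 ≠ μ 2 := fun h =>
    hne3 _ (hc 1) (key _ _ _ (hc 1) (by linear_combination hdet) h) rfl h.symm
  have e1 : μ 0 ^ 2 + μ 0 * μ 1 + μ 1 ^ 2 = 0 := mul_left_cancel₀ (sub_ne_zero.2 hd01)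
    (by linear_combination hc 0 - hc 1)
  have e2 : μ 0 ^ 2 + μ 0 * μ 2 + μ 2 ^ 2 = 0 := mul_left_cancel₀ (sub_ne_zero.2 hd02)
    (by linear_combination hc 0 - hc 2)
  exact mul_left_cancel₀ (sub_ne_zero.2 hd12) (by linear_combination e1 - e2)

theorem real_three_value {n : ℕ} (hn : charDegree (χ : G → ℂ) = n) {g : G} (hg : orderOf g = 3)
    (hreal : conj ((χ : G → ℂ) g) = (χ : G → ℂ) g) :
    ∃ k : ℕ, 1 ≤ k ∧ 2 * k ≤ n ∧ (χ : G → ℂ) g = ((n : ℤ) - 3 * k : ℤ) := by
  classical
  cases nonempty_fintype G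
  obtain ⟨μ, hμ, -, hval⟩ := exists_eigenvalues hna χ n hn g
  have hv := hval 1
  simp only [pow_one] at hv
  have hc : ∀ i, μ i ^ 3 = 1 := fun i => by have := hμ i; rwa [hg] at this
  set S := Finset.univ.filter fun i => μ i ≠ 1 with hS
  have hcard : S.card ≤ n := by simpa using S.card_le_univ
  have hre : ∀ i, μ i + conj (μ i) = if i ∈ S then -1 else 2 := by
    intro i
    by_cases h : μ i = 1
    · rw [if_neg (by simp [hS, h]), h, map_one]; norm_num
    · rw [if_pos (by simp [hS, h])]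
      have hz : μ i ^ 2 + μ i + 1 = 0 := mul_left_cancel₀ (sub_ne_zero.2 h)
        (by linear_combination hc i)
      have hconj : conj (μ i) = μ i ^ 2 := by
        have h1 : conj (μ i) * μ i = 1 := by
          rw [Complex.conj_mul', Complex.norm_eq_one_of_pow_eq_one (hc i) (by norm_num)]; simp
        have h0 : μ i ≠ 0 := fun e => by simp [e] at hz
        exact mul_right_cancel₀ h0 (by linear_combination h1 - hc i)
      rw [hconj]
      linear_combination hz
  have h2 : 2 * (χ : G → ℂ) g = ((2 * n : ℤ) - 3 * S.card : ℤ) := by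
    rw [two_mul]
    nth_rewrite 2 [← hreal]
    rw [hv, map_sum, ← Finset.sum_add_distrib, Finset.sum_congr rfl fun i _ => hre i,
      Finset.sum_ite, Finset.sum_const, Finset.sum_const, Finset.filter_univ_mem, nsmul_eq_mul,
      nsmul_eq_mul, show (Finset.univ.filter fun i => i ∉ S) = Finset.univ \ S by ext; simp,
      Finset.card_univ_diff, Fintype.card_fin, Nat.cast_sub hcard]
    push_cast; ring
  have heven : Even S.card := by
    have hint := CharBasic.IsChar.isIntegral (IsIrr.isCharacter χ.2) g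
    have he : (χ : G → ℂ) g = algebraMap ℚ ℂ ((((2 * n : ℤ) - 3 * S.card : ℤ) : ℚ) / 2) := by
      rw [map_div₀, map_intCast, map_ofNat, ← h2]
      ring
    rw [he] at hint
    obtain ⟨z, hz⟩ := IsIntegrallyClosed.isIntegral_iff.1
      ((isIntegral_algebraMap_iff (algebraMap ℚ ℂ).injective).1 hint)
    have hz' : (z : ℚ) * 2 = ((2 * n : ℤ) - 3 * S.card : ℤ) := by
      rw [show (z : ℚ) = algebraMap ℤ ℚ z from rfl, hz]; ring
    have hz'' : z * 2 = (2 * n : ℤ) - 3 * S.card := by exact_mod_cast hz'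
    rw [Nat.even_iff]
    omega
  obtain ⟨k, hk⟩ := heven
  refine ⟨k, ?_, by omega, mul_left_cancel₀ two_ne_zero (h2.trans ?_)⟩
  · rcases Nat.eq_zero_or_pos k with rfl | h
    · exfalso
      have hg1 : g = 1 := by
        refine faithful hne g ?_
        rw [(H83.charDegree_eq χ.2).1, hn]
        refine mul_left_cancel₀ (two_ne_zero (α := ℂ)) (h2.trans ?_)
        rw [hk]; push_cast; ring
      simp [hg1] at hg
    · exact h
  · rw [hk]; push_cast; ring

end Simple

/-- The dimension of the fixed space of a subgroup. -/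
noncomputable def fixDim (χ : G → ℂ) (K : Subgroup G) : ℂ :=
  (Nat.card K : ℂ)⁻¹ * ∑ᶠ k : K, χ k

theorem fixDim_eq (χ : G → ℂ) (K : Subgroup G) [Fintype K] :
    fixDim χ K = (Nat.card K : ℂ)⁻¹ * ∑ k : K, χ k := by
  rw [fixDim, finsum_eq_sum_of_fintype]

theorem exists_fixDim {χ : G → ℂ} (hχ : IsCharacter G χ) :
    ∃ f : Subgroup G → ℕ, (∀ K, fixDim χ K = f K) ∧ ∀ H K, H ≤ K → f K ≤ f H := by
  classical
  cases nonempty_fintype G
  obtain ⟨n, ρ, rfl⟩ := hχ
  refine ⟨fun K => Module.finrank ℂ (Representation.invariants (ρ.comp K.subtype)),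
    fun K => ?_, fun H K hHK => ?_⟩
  · haveI : Invertible (Nat.card K : ℂ) :=
      invertibleOfNonzero (Nat.cast_ne_zero.2 Nat.card_pos.ne')
    have h := FDRep.average_char_eq_finrank_invariants
      (FDRep.of (ρ.comp K.subtype : Representation ℂ K (Fin n → ℂ)))
    rw [fixDim_eq]
    exact h
  · exact Submodule.finrank_mono fun v hv k => hv ⟨k.1, hHK k.2⟩

theorem fixDim_nat {χ : G → ℂ} (hχ : IsCharacter G χ) (K : Subgroup G) :
    ∃ m : ℕ, fixDim χ K = m := by
  obtain ⟨f, hf, -⟩ := exists_fixDim hχ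
  exact ⟨_, hf K⟩

end Cfsg.Agent.Compute.G22
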