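import Cfsg.Agent.Compute.G22.Model

/-!
Coordinates for a group of order `27` and exponent three with an involution fixing three elements.
-/

set_option autoImplicit false
set_option maxHeartbeats 1000000

namespace Cfsg.Agent.Compute.G22

open Subgroup

/-- The commutation parameter of the three models. -/
def mk' (m : ℕ) : ℕ := if m = 0 then 0 else 1

/-- The involution of the three models. -/
def tmT (m : ℕ) : ℕ := if m = 1 then endT 1 18 6 1 else endT (mk' m) 9 6 2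

variable {G : Type*} [Group G]

/-- A coordinate map. -/
structure IsCoord (P : Subgroup G) (k : ℕ) (φ : ℕ → G) : Prop where
  mem : ∀ i, φ i ∈ P
  one : φ 0 = 1
  mul : ∀ i j, φ (mulC k i j) = φ i * φ j
  inj : ∀ i j, i < 27 → j < 27 → φ i = φ j → i = j
  surj : ∀ p ∈ P, ∃ i, i < 27 ∧ φ i = p
  eq_elem : ∀ i, φ i = elem (φ 9) (φ 3) (φ 1) i

namespace IsCoord

variable {P : Subgroup G} {k : ℕ} {φ : ℕ → G} (h : IsCoord P k φ)

include h

theorem map_powC (i : ℕ) : ∀ n, φ (powC k i n) = φ i ^ n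
  | 0 => by rw [powC, h.one, pow_zero]
  | n + 1 => by rw [powC, h.mul, map_powC i n, pow_succ]

theorem cube (i : ℕ) (hP : ∀ p ∈ P, p ^ 3 = 1) : φ i ^ 3 = 1 := hP _ (h.mem i)

theorem map_endC (hP : ∀ p ∈ P, p ^ 3 = 1) (x y w i : ℕ) :
    φ (endC k x y w i) = elem (φ x) (φ y) (φ w) i := by
  rw [endC, h.mul, h.mul, h.map_powC, h.map_powC, h.map_powC, pow_three_mod (h.cube y hP),
    pow_three_mod (h.cube x hP), pow_three_mod (h.cube w hP), elem]

/-- An automorphism of `P` is given by an endomorphism code. -/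
theorem exists_endC (hP : ∀ p ∈ P, p ^ 3 = 1) (ψ : G →* G) (hψ : ∀ p ∈ P, ψ p ∈ P) :
    ∃ x y w, x < 27 ∧ y < 27 ∧ w < 27 ∧ φ x = ψ (φ 9) ∧ φ y = ψ (φ 3) ∧ φ w = ψ (φ 1) ∧
      ∀ i, ψ (φ i) = φ (endC k x y w i) := by
  obtain ⟨x, hx, ex⟩ := h.surj _ (hψ _ (h.mem 9))
  obtain ⟨y, hy, ey⟩ := h.surj _ (hψ _ (h.mem 3))
  obtain ⟨w, hw, ew⟩ := h.surj _ (hψ _ (h.mem 1))
  refine ⟨x, y, w, hx, hy, hw, ex, ey, ew, fun i => ?_⟩
  rw [h.map_endC hP, ex, ey, ew, h.eq_elem i, elem, elem, map_mul, map_mul, map_pow, map_pow, map_pow]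

end IsCoord

theorem isCoord_elem [Finite G] {P : Subgroup G} (hc : Nat.card P = 27) {X Y W : G} {k : ℕ}
    (hXP : X ∈ P) (hYP : Y ∈ P) (hWP : W ∈ P) (hX : X ^ 3 = 1) (hY : Y ^ 3 = 1) (hW : W ^ 3 = 1)
    (hXW : Commute X W) (hYW : Commute Y W) (hXY : X * Y = Y * X * W ^ k)
    (hker : ∀ a b c : ℕ, a < 3 → b < 3 → c < 3 → Y ^ b * X ^ a * W ^ c = 1 → a = 0 ∧ b = 0 ∧ c = 0)
    (hk : k ∈ List.range 2) :
    IsCoord P k (elem X Y W) ∧ elem X Y W 9 = X ∧ elem X Y W 3 = Y ∧ elem X Y W 1 = W := by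
  have hmem : ∀ i, elem X Y W i ∈ P := fun i =>
    mul_mem (mul_mem (pow_mem hYP _) (pow_mem hXP _)) (pow_mem hWP _)
  have hmul := elem_mul hX hY hW hXW hYW hXY
  have h0 : elem X Y W 0 = 1 := elem_zero
  have h9 : elem X Y W 9 = X := by
    simp only [elem]
    rw [show (9 : ℕ) / 3 = 3 from rfl, hY, one_mul, show (9 : ℕ) / 9 = 1 from rfl, pow_one,
      show (9 : ℕ) = 3 * 3 from rfl, pow_mul, hW, one_pow, mul_one]
  have h3 : elem X Y W 3 = Y := by
    simp only [elem]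
    rw [show (3 : ℕ) / 3 = 1 from rfl, pow_one, show (3 : ℕ) / 9 = 0 from rfl, pow_zero, mul_one, hW,
      mul_one]
  have h1 : elem X Y W 1 = W := by simp [elem]
  have hinj : ∀ i j, i < 27 → j < 27 → elem X Y W i = elem X Y W j → i = j := by
    intro i j hi hj e
    have hd : elem X Y W (mulC k (invC k j) i) = 1 := by
      rw [hmul, e, ← hmul, (invC_spec k hk j (List.mem_range.2 hj)).1, h0]
    have hz : mulC k (invC k j) i = 0 := by
      have hlt := mulC_lt k (invC k j) i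
      generalize mulC k (invC k j) i = n at hd hlt
      have e' : Y ^ (n / 3 % 3) * X ^ (n / 9 % 3) * W ^ (n % 3) = 1 := by
        rw [pow_three_mod hY, pow_three_mod hX, pow_three_mod hW]; exact hd
      obtain ⟨a0, b0, c0⟩ := hker _ _ _ (Nat.mod_lt _ (by norm_num)) (Nat.mod_lt _ (by norm_num))
        (Nat.mod_lt _ (by norm_num)) e'
      omega
    have hassoc : ∀ k ∈ List.range 2, ∀ i ∈ List.range 27, ∀ j ∈ List.range 27,
        mulC k (invC k j) i = 0 → i = j := by decide +kernel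
    exact hassoc k hk i (List.mem_range.2 hi) j (List.mem_range.2 hj) hz
  refine ⟨⟨hmem, h0, hmul, hinj, fun p hp => ?_, fun i => by rw [h9, h3, h1]⟩, h9, h3, h1⟩
  have hb : Function.Bijective (fun i : Fin 27 => (⟨elem X Y W i, hmem i⟩ : P)) := by
    rw [Nat.bijective_iff_injective_and_card, Nat.card_fin, hc]
    exact ⟨fun i j e => Fin.ext (hinj _ _ i.2 j.2 (congrArg Subtype.val e)), rfl⟩
  obtain ⟨i, hi⟩ := hb.2 ⟨p, hp⟩
  exact ⟨i, i.2, congrArg Subtype.val hi⟩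

theorem elem_conj (t X Y W : G) (i : ℕ) :
    t * elem X Y W i * t⁻¹ = elem (t * X * t⁻¹) (t * Y * t⁻¹) (t * W * t⁻¹) i := by
  simp only [elem, conj_pow]
  group

theorem sq_of_cube {z : G} (hz : z ^ 3 = 1) : z ^ 2 = z⁻¹ :=
  eq_inv_of_mul_eq_one_left (by rw [← pow_succ, hz])

theorem eq_one_of_sq {z : G} (hz : z ^ 3 = 1) (h : z * z = 1) : z = 1 := by
  rwa [pow_succ, pow_two, h, one_mul] at hz

variable [Finite G] (P : Subgroup G) (hc : Nat.card P = 27) (h3 : ∀ p ∈ P, p ^ 3 = 1) (t : G)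
  (ht : t * t = 1) (hN : ∀ p ∈ P, t * p * t⁻¹ ∈ P)
  (hfix : Nat.card {p : G // p ∈ P ∧ t * p * t⁻¹ = p} = 3)

include hc h3 ht hN hfix

/-- There are nine inverted elements. -/
theorem card_inverted : Nat.card {p : G // p ∈ P ∧ t * p * t⁻¹ = p⁻¹} = 9 := by
  have hti : t⁻¹ = t := inv_eq_of_mul_eq_one_right ht
  let f : {p : G // p ∈ P ∧ t * p * t⁻¹ = p⁻¹} × {p : G // p ∈ P ∧ t * p * t⁻¹ = p} → P :=
    fun u => ⟨u.1.1 * u.2.1, mul_mem u.1.2.1 u.2.2.1⟩
  have hb : Function.Bijective f := by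
    constructor
    · rintro ⟨⟨i, hi, hti'⟩, ⟨f, hf, htf⟩⟩ ⟨⟨i', hi', hti''⟩, ⟨f', hf', htf'⟩⟩ e
      have e1 : i * f = i' * f' := congrArg Subtype.val e
      have e2 : i⁻¹ * f = i'⁻¹ * f' := by
        calc i⁻¹ * f = t * i * t⁻¹ * (t * f * t⁻¹) := by rw [hti', htf]
          _ = t * (i * f) * t⁻¹ := by group
          _ = t * (i' * f') * t⁻¹ := by rw [e1]
          _ = t * i' * t⁻¹ * (t * f' * t⁻¹) := by group
          _ = i'⁻¹ * f' := by rw [hti'', htf']
      have e3 : i ^ 2 = i' ^ 2 := by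
        rw [pow_two, pow_two]
        calc i * i = (i * f) * (i⁻¹ * f)⁻¹ := by group
          _ = (i' * f') * (i'⁻¹ * f')⁻¹ := by rw [e1, e2]
          _ = i' * i' := by group
      have hii : i = i' := by
        rw [sq_of_cube (h3 i hi), sq_of_cube (h3 i' hi')] at e3
        exact inv_injective e3
      subst hii
      simp [mul_left_cancel e1]
    · rintro ⟨p, hp⟩
      set m := p * (t * p * t⁻¹)⁻¹ with hm
      have hmP : m ∈ P := mul_mem hp (inv_mem (hN p hp))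
      have hmt : t * m * t⁻¹ = m⁻¹ := by
        calc t * m * t⁻¹ = t * p * t⁻¹ * ((t * t) * p * (t⁻¹ * t⁻¹))⁻¹ := by rw [hm]; group
          _ = t * p * t⁻¹ * p⁻¹ := by rw [ht, one_mul, ← mul_inv_rev, ht, inv_one, mul_one]
          _ = m⁻¹ := by rw [hm]; group
      have hm3 := h3 m hmP
      have hi : t * m ^ 2 * t⁻¹ = (m ^ 2)⁻¹ := by rw [← conj_pow, hmt, inv_pow]
      have hf : t * (m * p) * t⁻¹ = m * p := by
        have hmm : m⁻¹ * m⁻¹ = m := by
          calc m⁻¹ * m⁻¹ = m⁻¹ * m⁻¹ * m ^ 3 := by rw [hm3, mul_one]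
            _ = m := by group
        have hq : t * p * t⁻¹ = m⁻¹ * p := by rw [hm]; group
        calc t * (m * p) * t⁻¹ = (t * m * t⁻¹) * (t * p * t⁻¹) := by group
          _ = m⁻¹ * (m⁻¹ * p) := by rw [hmt, hq]
          _ = m * p := by rw [← mul_assoc, hmm]
      refine ⟨⟨⟨m ^ 2, pow_mem hmP 2, hi⟩, ⟨m * p, mul_mem hmP hp, hf⟩⟩, Subtype.ext ?_⟩
      show m ^ 2 * (m * p) = p
      rw [← mul_assoc, ← pow_succ, hm3, one_mul]
  have := Nat.card_congr (Equiv.ofBijective f hb)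
  rw [Nat.card_prod, hfix, hc] at this
  omega

/-- Some inverted element lies outside a given set of three. -/
theorem exists_inverted (A : Set G) (hA : A.ncard ≤ 3) :
    ∃ y ∈ P, t * y * t⁻¹ = y⁻¹ ∧ y ∉ A := by
  by_contra h
  push Not at h
  have h9 := card_inverted P hc h3 t ht hN hfix
  have hle : Nat.card {p : G // p ∈ P ∧ t * p * t⁻¹ = p⁻¹} ≤ Nat.card A :=
    Nat.card_le_card_of_injective (fun p => ⟨p.1, h p.1 p.2.1 p.2.2⟩) fun a b e =>
      Subtype.ext (congrArg Subtype.val e :)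
  rw [Nat.card_coe_set_eq] at hle
  omega

end Cfsg.Agent.Compute.G22
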