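import Cfsg.Agent.Compute.G22.Coord

/-!
The three models for a group of order `27` and exponent three with an involution fixing three
elements.
-/

set_option autoImplicit false
set_option maxHeartbeats 1000000

namespace Cfsg.Agent.Compute.G22

open Subgroup

variable {G : Type*} [Group G] [Finite G]

theorem coord_of {P : Subgroup G} {k m : ℕ} {φ : ℕ → G} (h : IsCoord P k φ)
    (hP : ∀ p ∈ P, p ^ 3 = 1) (t : G) {x y w : ℕ} (hm : tmT m = endT k x y w)
    (hx : t * φ 9 * t⁻¹ = φ x) (hy : t * φ 3 * t⁻¹ = φ y) (hw : t * φ 1 * t⁻¹ = φ w) :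
    ∀ i, i < 27 → t * φ i * t⁻¹ = φ (getT (tmT m) i) := by
  intro i hi
  rw [hm, getT_endT hi, h.map_endC hP, h.eq_elem i, elem_conj, hx, hy, hw]

theorem powC_two : ∀ k ∈ List.range 2, powC k 9 2 = 18 ∧ powC k 3 2 = 6 ∧ powC k 1 2 = 2 := by
  decide +kernel

theorem inv_codes {P : Subgroup G} {k : ℕ} {φ : ℕ → G} (h : IsCoord P k φ) (hk : k ∈ List.range 2)
    (hP : ∀ p ∈ P, p ^ 3 = 1) :
    φ 18 = (φ 9)⁻¹ ∧ φ 6 = (φ 3)⁻¹ ∧ φ 2 = (φ 1)⁻¹ := by
  obtain ⟨h9, h3, h1⟩ := powC_two k hk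
  refine ⟨?_, ?_, ?_⟩
  · rw [← h9, h.map_powC, sq_of_cube (h.cube 9 hP)]
  · rw [← h3, h.map_powC, sq_of_cube (h.cube 3 hP)]
  · rw [← h1, h.map_powC, sq_of_cube (h.cube 1 hP)]

theorem commutator_mem_central {P : Subgroup G} (hc : Nat.card P = 27) {z : G}
    (hzP : z ∈ P) (hzo : orderOf z = 3)
    (hcen : ∀ g ∈ P, (∀ h ∈ P, g * h = h * g) ↔ g ∈ zpowers z) {a b : G} (ha : a ∈ P) (hb : b ∈ P) :
    a * b * a⁻¹ * b⁻¹ ∈ zpowers z := by
  haveI := Fact.mk Nat.prime_three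
  have hz0 : zpowers (⟨z, hzP⟩ : P) = center P := by
    apply le_antisymm
    · exact zpowers_le.2 (mem_center_iff.2 fun x =>
        Subtype.ext ((hcen z hzP).2 (mem_zpowers z) x x.2).symm)
    · intro x hx
      obtain ⟨k, hk⟩ := mem_zpowers_iff.1 ((hcen x x.2).1 fun h hh =>
        (congrArg Subtype.val (mem_center_iff.1 hx ⟨h, hh⟩)).symm)
      exact mem_zpowers_iff.2 ⟨k, Subtype.ext hk⟩
  have hcard : Nat.card (P ⧸ center P) = 3 ^ 2 := by
    have h := card_eq_card_quotient_mul_card_subgroup (center P)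
    rw [hc, ← hz0, Nat.card_zpowers, Subgroup.orderOf_mk, hzo] at h
    rw [← hz0]; omega
  refine (hcen _ (mul_mem (mul_mem (mul_mem ha hb) (inv_mem ha)) (inv_mem hb))).1 fun x hx => ?_
  have hm : (⟨a, ha⟩ * ⟨b, hb⟩ * (⟨a, ha⟩ : P)⁻¹ * ⟨b, hb⟩⁻¹) ∈ center P := by
    rw [← QuotientGroup.eq_one_iff (N := center P)]
    have hq := IsPGroup.commutative_of_card_eq_prime_sq hcard
    simp only [QuotientGroup.mk_mul, QuotientGroup.mk_inv]
    rw [hq ((⟨a, ha⟩ : P) : P ⧸ center P)]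
    group
  exact (congrArg Subtype.val (mem_center_iff.1 hm ⟨x, hx⟩)).symm

theorem zpow_three {z : G} (hz : z ^ 3 = 1) {u : G} (hu : u ∈ zpowers z) :
    ∃ j, j < 3 ∧ u = z ^ j := by
  obtain ⟨k, rfl⟩ := mem_zpowers_iff.1 hu
  refine ⟨(k % 3).toNat, by omega, ?_⟩
  have h := zpow_natCast z 3
  rw [hz] at h
  rw [← zpow_natCast z ((k % 3).toNat), Int.toNat_of_nonneg (by omega)]
  conv_lhs => rw [← Int.emod_add_mul_ediv k 3, zpow_add, zpow_mul,
    show z ^ (3 : ℤ) = 1 from h, one_zpow, mul_one]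

theorem conj_z {P : Subgroup G} {z t : G} (hzP : z ∈ P) (hzo : orderOf z = 3)
    (hcen : ∀ g ∈ P, (∀ h ∈ P, g * h = h * g) ↔ g ∈ zpowers z) (ht : t * t = 1)
    (hN : ∀ p ∈ P, t * p * t⁻¹ ∈ P) : t * z * t⁻¹ = z ∨ t * z * t⁻¹ = z⁻¹ := by
  have hti : t⁻¹ = t := inv_eq_of_mul_eq_one_right ht
  have hmem : t * z * t⁻¹ ∈ zpowers z := by
    refine (hcen _ (hN z hzP)).1 fun h hh => ?_
    have h' := (hcen z hzP).2 (mem_zpowers z) _ (hN h hh)
    have hh2 : h = t * (t * h * t⁻¹) * t⁻¹ := by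
      calc h = t * t * h * (t * t)⁻¹ := by rw [ht]; group
        _ = _ := by group
    generalize t * h * t⁻¹ = h₀ at h' hh2
    rw [hh2]
    calc t * z * t⁻¹ * (t * h₀ * t⁻¹) = t * (z * h₀) * t⁻¹ := by group
      _ = t * (h₀ * z) * t⁻¹ := by rw [h']
      _ = _ := by group
  obtain ⟨j, hj, hj'⟩ := zpow_three (hzo ▸ pow_orderOf_eq_one z : z ^ 3 = 1) hmem
  interval_cases j
  · rw [pow_zero, conj_eq_one_iff] at hj'
    rw [hj', orderOf_one] at hzo
    norm_num at hzo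
  · left; rw [hj', pow_one]
  · right; rw [hj', sq_of_cube (hzo ▸ pow_orderOf_eq_one z : z ^ 3 = 1)]

/-- Coordinates adapted to `t`. -/
theorem exists_coord (P : Subgroup G) (hc : Nat.card P = 27) (h3 : ∀ p ∈ P, p ^ 3 = 1) (t : G)
    (ht : t * t = 1) (hN : ∀ p ∈ P, t * p * t⁻¹ ∈ P)
    (hfix : Nat.card {p : G // p ∈ P ∧ t * p * t⁻¹ = p} = 3)
    (hPz : (∀ a ∈ P, ∀ b ∈ P, a * b = b * a) ∨ ∃ z ∈ P, orderOf z = 3 ∧
      ∀ g ∈ P, (∀ h ∈ P, g * h = h * g) ↔ g ∈ zpowers z) :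
    ∃ m, m < 3 ∧ ∃ φ : ℕ → G, IsCoord P (mk' m) φ ∧
      ∀ i, i < 27 → t * φ i * t⁻¹ = φ (getT (tmT m) i) := by
  classical
  obtain ⟨u, huP, hut, hu1⟩ : ∃ u ∈ P, t * u * t⁻¹ = u ∧ u ≠ 1 := by
    by_contra h
    push Not at h
    haveI : Subsingleton {p : G // p ∈ P ∧ t * p * t⁻¹ = p} :=
      ⟨fun a b => Subtype.ext ((h a.1 a.2.1 a.2.2).trans (h b.1 b.2.1 b.2.2).symm)⟩
    have := Finite.card_le_one_iff_subsingleton.2
      (inferInstance : Subsingleton {p : G // p ∈ P ∧ t * p * t⁻¹ = p})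
    omega
  have hsmall : ∀ v : G, v ^ 3 = 1 → ({1, v, v⁻¹} : Set G).ncard ≤ 3 := fun v _ =>
    le_trans (Set.ncard_insert_le _ _) (Nat.succ_le_succ
      (le_trans (Set.ncard_insert_le _ _) (by simp)))
  have hpow : ∀ v : G, v ^ 3 = 1 → ∀ j, j < 3 → v ^ j ∈ ({1, v, v⁻¹} : Set G) := fun v hv j hj => by
    interval_cases j
    · simp
    · simp
    · simp [sq_of_cube hv]
  rcases hPz with hab | ⟨z, hzP, hzo, hcen⟩
  · obtain ⟨Y, hYP, hYt, hY1⟩ := exists_inverted P hc h3 t ht hN hfix {1} (by simp)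
    obtain ⟨W, hWP, hWt, hWY⟩ :=
      exists_inverted P hc h3 t ht hN hfix {1, Y, Y⁻¹} (hsmall Y (h3 Y hYP))
    simp only [Set.mem_singleton_iff] at hY1
    obtain ⟨hφ, h9, h3', h1⟩ := isCoord_elem (k := 0) hc huP hYP hWP (h3 u huP) (h3 Y hYP) (h3 W hWP)
      (hab u huP W hWP) (hab Y hYP W hWP) (by rw [pow_zero, mul_one]; exact hab u huP Y hYP) (by
        intro a b c ha hb hc' e
        have e' : t * (Y ^ b * u ^ a * W ^ c) * t⁻¹ = 1 := by rw [e]; group
        rw [← conj_mul, ← conj_mul, ← conj_pow, ← conj_pow, ← conj_pow, hut, hYt, hWt] at e'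
        have e1 : u ^ a * (Y ^ b * W ^ c) = 1 := by
          rw [← mul_assoc, hab _ (pow_mem huP a) _ (pow_mem hYP b)]; exact e
        have e2 : u ^ a * (Y ^ b * W ^ c)⁻¹ = 1 := by
          rw [hab _ (pow_mem hYP b) _ (pow_mem hWP c), mul_inv_rev, ← mul_assoc, ← inv_pow, ← inv_pow,
            hab _ (pow_mem huP a) _ (pow_mem (inv_mem hYP) b)]
          exact e'
        have ha0 : u ^ a * u ^ a = 1 := by
          have f1 := eq_inv_of_mul_eq_one_left e1
          have f2 := mul_inv_eq_one.1 e2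
          nth_rewrite 1 [f2]
          rw [f1, mul_inv_cancel]
        have hu0 := eq_one_of_sq (h3 _ (pow_mem huP a)) ha0
        have ha' : a = 0 := by
          interval_cases a
          · rfl
          · rw [pow_one] at hu0; exact absurd hu0 hu1
          · exfalso; rw [sq_of_cube (h3 u huP), inv_eq_one] at hu0; exact hu1 hu0
        subst ha'
        rw [pow_zero, mul_one] at e
        interval_cases c
        · rw [pow_zero, mul_one] at e
          interval_cases b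
          · simp
          · rw [pow_one] at e; exact absurd e hY1
          · rw [sq_of_cube (h3 Y hYP), inv_eq_one] at e; exact absurd e hY1
        · rw [pow_one] at e
          exfalso; apply hWY
          rw [eq_inv_of_mul_eq_one_right e]
          interval_cases b
          · simp
          · simp
          · simp [sq_of_cube (h3 Y hYP)]
        · rw [sq_of_cube (h3 W hWP), mul_inv_eq_one] at e
          exfalso; apply hWY; rw [← e]; exact hpow Y (h3 Y hYP) b hb)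
      (by decide)
    refine ⟨0, by norm_num, _, hφ, ?_⟩
    obtain ⟨-, e6, e2⟩ := inv_codes hφ (by decide) h3
    exact coord_of hφ h3 t (show tmT 0 = endT 0 9 6 2 by simp [tmT, mk'])
      (by rw [h9, hut]) (by rw [e6, h3', hYt]) (by rw [e2, h1, hWt])
  have hz3 : z ^ 3 = 1 := hzo ▸ pow_orderOf_eq_one z
  have hzc : ∀ h ∈ P, z * h = h * z := (hcen z hzP).2 (mem_zpowers z)
  have hz1 : z ≠ 1 := fun e => by rw [e, orderOf_one] at hzo; norm_num at hzo
  -- the generic construction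
  have main : ∀ X ∈ P, ∀ Y ∈ P, X ∉ zpowers z →
      (∀ a c : ℕ, a < 3 → c < 3 → Y ≠ X ^ a * z ^ c) →
      ∃ φ : ℕ → G, IsCoord P 1 φ ∧ φ 9 = X ∧ φ 3 = Y ∧ φ 1 = X⁻¹ * Y⁻¹ * X * Y ∧
        φ 1 ∈ zpowers z := by
    intro X hX Y hY hXz hYne
    set W := X⁻¹ * Y⁻¹ * X * Y with hWdef
    have hWz : W ∈ zpowers z := by
      have h := commutator_mem_central hc hzP hzo hcen (inv_mem hX) (inv_mem hY)
      rwa [inv_inv, inv_inv] at h
    have hWP : W ∈ P := (zpowers_le.2 hzP) hWz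
    have hWc : ∀ h ∈ P, W * h = h * W := (hcen W hWP).2 hWz
    have hkerz : ∀ a b c : ℕ, a < 3 → b < 3 → c < 3 → Y ^ b * X ^ a * z ^ c = 1 →
        a = 0 ∧ b = 0 ∧ c = 0 := by
      intro a b c ha hb hc' e
      have hb0 : b = 0 := by
        have e2 : Y ^ b = (z ^ c)⁻¹ * (X ^ a)⁻¹ := by
          rw [mul_assoc] at e
          rw [eq_inv_of_mul_eq_one_left e, mul_inv_rev]
        interval_cases b
        · rfl
        · exfalso
          rw [pow_one] at e2
          obtain ⟨a', ha', ea⟩ := zpow_three (h3 X hX) (inv_mem (pow_mem (mem_zpowers X) a))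
          obtain ⟨c', hc'', ec⟩ := zpow_three hz3 (inv_mem (pow_mem (mem_zpowers z) c))
          refine hYne a' c' ha' hc'' ?_
          rw [e2, ea, ec]
          exact ((show Commute z X from hzc X hX).pow_pow c' a').eq
        · exfalso
          rw [sq_of_cube (h3 Y hY), inv_eq_iff_eq_inv, mul_inv_rev, inv_inv, inv_inv] at e2
          exact hYne a c ha hc' e2
      subst hb0
      rw [pow_zero, one_mul] at e
      have ha0 : a = 0 := by
        have hm : X ^ a ∈ zpowers z := by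
          rw [eq_inv_of_mul_eq_one_left e]; exact inv_mem (pow_mem (mem_zpowers z) c)
        interval_cases a
        · rfl
        · rw [pow_one] at hm; exact absurd hm hXz
        · rw [sq_of_cube (h3 X hX), inv_mem_iff] at hm; exact absurd hm hXz
      subst ha0
      rw [pow_zero, one_mul] at e
      refine ⟨rfl, rfl, ?_⟩
      interval_cases c
      · rfl
      · rw [pow_one] at e; exact absurd e hz1
      · rw [sq_of_cube hz3, inv_eq_one] at e; exact absurd e hz1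
    have hXY : X * Y = Y * X * W ^ 1 := by rw [pow_one, hWdef]; group
    have hW1 : W ≠ 1 := by
      intro hW
      rw [hW, one_pow, mul_one] at hXY
      obtain ⟨hφ, h9, h3', h1⟩ := isCoord_elem (k := 0) hc hX hY hzP (h3 X hX) (h3 Y hY) hz3
        (hzc X hX).symm (hzc Y hY).symm (by rw [pow_zero, mul_one]; exact hXY) hkerz (by decide)
      refine hXz ((hcen X hX).1 fun h hh => ?_)
      obtain ⟨i, -, rfl⟩ := hφ.surj h hh
      have e1 := hφ.mul 9 i
      have e2 := hφ.mul i 9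
      rw [h9] at e1 e2
      rw [← e1, ← e2]
      congr 1
      simp only [mulC, zero_mul, add_zero]
      rw [add_comm (9 / 9) (i / 9), add_comm (9 / 3) (i / 3), add_comm 9 i]
    obtain ⟨hφ, h9, h3', h1⟩ := isCoord_elem (k := 1) hc hX hY hWP (h3 X hX) (h3 Y hY) (h3 W hWP)
      (hWc X hX).symm (hWc Y hY).symm hXY (by
        intro a b c ha hb hc' e
        obtain ⟨j, hj, hj'⟩ := zpow_three hz3 hWz
        rw [hj', ← pow_mul, ← pow_three_mod hz3 (j * c)] at e
        obtain ⟨e1, e2, e3⟩ := hkerz a b _ ha hb (Nat.mod_lt _ (by norm_num)) e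
        refine ⟨e1, e2, ?_⟩
        have : j ≠ 0 := fun h => hW1 (by rw [hj', h, pow_zero])
        interval_cases j <;> interval_cases c <;> omega) (by decide)
    exact ⟨_, hφ, h9, h3', h1, h1.symm ▸ hWz⟩
  have hcomm_inv : ∀ X ∈ P, ∀ Y ∈ P, X * Y * X⁻¹ * Y⁻¹ = X⁻¹ * Y⁻¹ * X * Y := by
    intro X hX Y hY
    have h := (hcen _ (mul_mem (mul_mem (mul_mem hX hY) (inv_mem hX)) (inv_mem hY))).2
      (commutator_mem_central hc hzP hzo hcen hX hY) (X⁻¹ * Y⁻¹)
      (mul_mem (inv_mem hX) (inv_mem hY))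
    calc X * Y * X⁻¹ * Y⁻¹ = (X * Y * X⁻¹ * Y⁻¹) * (X⁻¹ * Y⁻¹) * (Y * X) := by group
      _ = X⁻¹ * Y⁻¹ * X * Y := by rw [h]; group
  rcases conj_z hzP hzo hcen ht hN with hzt | hzt
  · obtain ⟨X, hXP, hXt, hX1⟩ := exists_inverted P hc h3 t ht hN hfix {1} (by simp)
    simp only [Set.mem_singleton_iff] at hX1
    have hXz : X ∉ zpowers z := by
      intro h
      obtain ⟨j, -, rfl⟩ := zpow_three hz3 h
      rw [← conj_pow, hzt] at hXt
      exact hX1 (eq_one_of_sq (h3 _ hXP) (by nth_rewrite 2 [hXt]; rw [mul_inv_cancel]))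
    obtain ⟨Y, hYP, hYt, hYX⟩ :=
      exists_inverted P hc h3 t ht hN hfix {1, X, X⁻¹} (hsmall X (h3 X hXP))
    obtain ⟨φ, hφ, h9, h3', h1, h1z⟩ := main X hXP Y hYP hXz (by
      intro a c ha hc' e
      have e1 : t * Y * t⁻¹ = (X ^ a)⁻¹ * z ^ c := by
        rw [e, ← conj_mul, ← conj_pow, ← conj_pow, hXt, hzt, inv_pow]
      have e2 : Y⁻¹ = (X ^ a)⁻¹ * (z ^ c)⁻¹ := by
        rw [e, ← ((show Commute z X from hzc X hXP).pow_pow c a).eq, mul_inv_rev]
      have e3 : z ^ c = (z ^ c)⁻¹ := mul_left_cancel ((e1.symm.trans hYt).trans e2)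
      have e4 := eq_one_of_sq (h3 _ (pow_mem hzP c)) (by nth_rewrite 2 [e3]; rw [mul_inv_cancel])
      apply hYX
      rw [e, e4, mul_one]
      exact hpow X (h3 X hXP) a ha)
    refine ⟨1, by norm_num, φ, hφ, ?_⟩
    obtain ⟨e18, e6, -⟩ := inv_codes hφ (by decide) h3
    refine coord_of hφ h3 t (show tmT 1 = endT 1 18 6 1 by simp [tmT]) (by rw [e18, h9, hXt])
      (by rw [e6, h3', hYt]) ?_
    rw [h1]
    calc t * (X⁻¹ * Y⁻¹ * X * Y) * t⁻¹
        = (t * X * t⁻¹)⁻¹ * (t * Y * t⁻¹)⁻¹ * (t * X * t⁻¹) * (t * Y * t⁻¹) := by group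
      _ = X * Y * X⁻¹ * Y⁻¹ := by rw [hXt, hYt, inv_inv, inv_inv]
      _ = _ := hcomm_inv X hXP Y hYP
  · have huz : u ∉ zpowers z := by
      intro h
      obtain ⟨j, -, rfl⟩ := zpow_three hz3 h
      rw [← conj_pow, hzt, inv_pow] at hut
      exact hu1 (eq_one_of_sq (h3 _ huP) (by nth_rewrite 2 [← hut]; rw [mul_inv_cancel]))
    obtain ⟨Y, hYP, hYt, hYz⟩ := exists_inverted P hc h3 t ht hN hfix {1, z, z⁻¹} (hsmall z hz3)
    obtain ⟨φ, hφ, h9, h3', h1, h1z⟩ := main u huP Y hYP huz (by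
      intro a c ha hc' e
      have e1 : t * Y * t⁻¹ = u ^ a * (z ^ c)⁻¹ := by
        rw [e, ← conj_mul, ← conj_pow, ← conj_pow, hut, hzt, inv_pow]
      have e2 : Y⁻¹ = (u ^ a)⁻¹ * (z ^ c)⁻¹ := by
        rw [e, ← ((show Commute z u from hzc u huP).pow_pow c a).eq, mul_inv_rev]
      have e3 : u ^ a = (u ^ a)⁻¹ := mul_right_cancel ((e1.symm.trans hYt).trans e2)
      have e4 := eq_one_of_sq (h3 _ (pow_mem huP a)) (by nth_rewrite 2 [e3]; rw [mul_inv_cancel])
      apply hYz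
      rw [e, e4, one_mul]
      exact hpow z hz3 c hc')
    refine ⟨2, by norm_num, φ, hφ, ?_⟩
    obtain ⟨-, e6, e2⟩ := inv_codes hφ (by decide) h3
    refine coord_of hφ h3 t (show tmT 2 = endT (mk' 2) 9 6 2 by simp [tmT]) (by rw [h9, hut])
      (by rw [e6, h3', hYt]) ?_
    obtain ⟨j, -, hj⟩ := zpow_three hz3 h1z
    rw [e2, hj, ← conj_pow, hzt, inv_pow]

end Cfsg.Agent.Compute.G22
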