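import Cfsg.Agent.Compute.G22.Simple6048
import Cfsg.Agent.H35.PermChar
import Cfsg.Agent.H83.RegSum

/-!
Permutation characters of subgroups of order prime to `7` in a simple group of order `6048`.
-/

set_option autoImplicit false

namespace Cfsg.Agent.Compute.G22

open Cfsg Subgroup Cfsg.Agent.BlockBasic Cfsg.Agent.CharBasic Cfsg.Agent.H35
open scoped ComplexConjugate

variable {G : Type*} [Group G] [Fintype G]

/-- Fixed dimensions of irreducible characters give the permutation character. -/
theorem permChar_eq_sum (K : Subgroup G) :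
    ∃ m : IrrCharacter G → ℕ, (∀ χ : IrrCharacter G, fixDim (χ : G → ℂ) K = m χ) ∧
      ∀ g : G, (permChar K g : ℂ) = ∑ χ : IrrCharacter G, (m χ : ℂ) * (χ : G → ℂ) g := by
  classical
  choose m hm using fun χ : IrrCharacter G => fixDim_nat (IsIrr.isCharacter χ.2) K
  refine ⟨m, hm, fun g => ?_⟩
  have h := congrFun (classFunction_expansion (CharInduce.isClassFunction_indFun K (fun _ => 1))) g
  rw [indFun_one_eq_permChar] at h
  simp only at h
  rw [h, Finset.sum_apply]
  refine Finset.sum_congr rfl fun χ _ => ?_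
  rw [Pi.smul_apply, smul_eq_mul, ← indFun_one_eq_permChar,
    CharInduce.classInner_indFun_left K _ _ (IsIrr.isClassFunction χ.2)]
  congr 1
  rw [← Complex.conj_natCast (m χ), ← hm χ, fixDim_eq, map_mul, map_inv₀, Complex.conj_natCast,
    map_sum, classInner_def]
  simp

theorem fixDim_triv (K : Subgroup G) :
    fixDim ((trivialIrr : IrrCharacter G) : G → ℂ) K = 1 := by
  classical
  rw [fixDim_eq]
  simp only [triv_apply, Finset.sum_const, Finset.card_univ, nsmul_eq_mul, mul_one,
    ← Nat.card_eq_fintype_card]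
  exact inv_mul_cancel₀ (Nat.cast_ne_zero.2 Nat.card_pos.ne')

namespace Chars

variable (C : Chars G)

theorem ne27 : C.χ27 ≠ trivialIrr := fun h => by
  have := C.d27
  rw [h, deg_triv] at this
  norm_num at this

/-- The relation on subgroups of order prime to `7`. -/
theorem fix_rel {K : Subgroup G} (hK : ¬ 7 ∣ Nat.card K) :
    fixDim (C.χ6 : G → ℂ) K + fixDim (C.χ27 : G → ℂ) K = 1 + fixDim (C.θ : G → ℂ) K := by
  classical
  rw [← fixDim_triv K]
  simp only [fixDim_eq, ← mul_add, ← Finset.sum_add_distrib]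
  congr 1
  refine Finset.sum_congr rfl fun k _ => ?_
  rw [triv_apply]
  exact C.rel k fun h => hK (h.trans (Subgroup.orderOf_dvd_natCard _ k.2))

/-- A subgroup of order prime to `7` fixing no vector of `χ6` has index at least `28`, with equality
only for the doubly transitive permutation character. -/
theorem index_ge {K : Subgroup G} (hK : ¬ 7 ∣ Nat.card K)
    (h6 : fixDim (C.χ6 : G → ℂ) K = 0) :
    28 ≤ K.index ∧ (K.index ≤ 28 → fixDim (C.χ27 : G → ℂ) K = 1 ∧
      ∀ g : G, (permChar K g : ℂ) = 1 + (C.χ27 : G → ℂ) g) := by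
  classical
  obtain ⟨m, hm, hperm⟩ := permChar_eq_sum K
  have h27 : 1 ≤ m C.χ27 := by
    have h := C.fix_rel hK
    rw [h6, zero_add, hm, hm] at h
    have h' : m C.χ27 = 1 + m C.θ := by exact_mod_cast h
    omega
  have ht : m trivialIrr = 1 := by
    have h := fixDim_triv K
    rw [hm] at h
    exact_mod_cast h
  have hidx : (K.index : ℂ) = ((∑ χ : IrrCharacter G, m χ * charDegree (χ : G → ℂ) : ℕ) : ℂ) := by
    have h := hperm 1
    have h1 : permChar K 1 = K.index := by
      rw [permChar, index_eq_card]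
      exact Nat.card_congr (Equiv.subtypeUnivEquiv fun q => one_smul G q)
    rw [h1] at h
    rw [h]
    push_cast
    exact Finset.sum_congr rfl fun χ _ => by rw [(H83.charDegree_eq χ.2).1]
  have hidx' : K.index = ∑ χ : IrrCharacter G, m χ * charDegree (χ : G → ℂ) := by
    exact_mod_cast hidx
  have hsplit : ∀ f : IrrCharacter G → ℕ, ∑ χ, f χ = f trivialIrr + (f C.χ27 +
      ∑ χ ∈ (Finset.univ.erase trivialIrr).erase C.χ27, f χ) := fun f => by
    rw [Finset.add_sum_erase _ _ (Finset.mem_erase.2 ⟨C.ne27, Finset.mem_univ _⟩),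
      Finset.add_sum_erase _ _ (Finset.mem_univ _)]
  rw [hsplit, ht, deg_triv, C.d27] at hidx'
  refine ⟨by omega, fun hle => ?_⟩
  have h1 : m C.χ27 = 1 := by omega
  have h0 : ∀ χ ∈ (Finset.univ.erase trivialIrr).erase C.χ27, m χ = 0 := by
    have hz : ∑ χ ∈ (Finset.univ.erase trivialIrr).erase C.χ27,
        m χ * charDegree (χ : G → ℂ) = 0 := by omega
    intro χ hχ
    have := (Finset.sum_eq_zero_iff.1 hz) χ hχ
    exact (mul_eq_zero.1 this).resolve_right (H83.charDegree_eq χ.2).2.ne'
  refine ⟨by rw [hm, h1, Nat.cast_one], fun g => ?_⟩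
  rw [hperm g, ← Finset.add_sum_erase _ _ (Finset.mem_univ trivialIrr),
    ← Finset.add_sum_erase _ _ (Finset.mem_erase.2 ⟨C.ne27, Finset.mem_univ _⟩),
    Finset.sum_eq_zero (fun χ hχ => by rw [h0 χ hχ, Nat.cast_zero, zero_mul]), ht, h1, triv_apply]
  push_cast
  ring

end Chars

end Cfsg.Agent.Compute.G22
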