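import Cfsg.Agent.Compute.G22.Sylow3

/-!
A nonabelian Sylow `3`-subgroup of a simple group of order `6048`: the values of `χ6` single out
the centre.
-/

set_option autoImplicit false
set_option maxHeartbeats 1000000

namespace Cfsg.Agent.Compute.G22

open Cfsg Subgroup Cfsg.Agent.BlockBasic Cfsg.Agent.CharBasic
open scoped ComplexConjugate

variable {G : Type*} [Group G] [Fintype G] [IsSimpleGroup G] (S : Spec G) (hc : Nat.card G = 6048)

theorem mem_zpowers_three {G : Type*} [Group G] [Finite G] {z : G} (hz : orderOf z = 3) {u : G}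
    (hu : u ∈ zpowers z) : u = 1 ∨ u = z ∨ u = z⁻¹ := by
  classical
  obtain ⟨k, hk⟩ := mem_zpowers_iff.1 hu
  have h3 : z ^ (3 : ℕ) = 1 := by have h := pow_orderOf_eq_one z; rwa [hz] at h
  have e := zpow_mod_orderOf z k
  rw [hz] at e
  rw [← hk, ← e]
  have : k % (3 : ℕ) = 0 ∨ k % (3 : ℕ) = 1 ∨ k % (3 : ℕ) = 2 := by omega
  rcases this with e | e | e <;> rw [e]
  · left; rw [zpow_zero]
  · right; left; rw [zpow_one]
  · right; right
    refine eq_inv_of_mul_eq_one_left ?_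
    rw [show (2 : ℤ) = ((2 : ℕ) : ℤ) from rfl, zpow_natCast, ← pow_succ, h3]

include S hc

/-- The centre of a nonabelian Sylow `3`-subgroup. -/
theorem exists_central (C : Chars G) (P : Sylow 3 G)
    (hP : ∃ a ∈ (P : Subgroup G), ∃ b ∈ (P : Subgroup G), a * b ≠ b * a) :
    ∃ z ∈ (P : Subgroup G), orderOf z = 3 ∧
      (∀ g ∈ (P : Subgroup G), (∀ h ∈ (P : Subgroup G), g * h = h * g) ↔ g ∈ zpowers z) ∧
      (∀ u ∈ zpowers z, u ≠ 1 → (C.χ6 : G → ℂ) u = -3) ∧
      ∀ g ∈ (P : Subgroup G), g ∉ zpowers z → (C.χ6 : G → ℂ) g = 0 := by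
  classical
  haveI := Fact.mk Nat.prime_three
  have hc27 := card_sylow_three hc P
  obtain ⟨a₀, ha₀, b₀, hb₀, hab₀⟩ := hP
  set Z0 := center (P : Subgroup G) with hZ0
  have hnc : ∀ n, n ∣ 3 → Nat.card ((P : Subgroup G) ⧸ Z0) = n → False := by
    intro n hn hq
    haveI : IsCyclic ((P : Subgroup G) ⧸ Z0) := by
      rcases (Nat.dvd_prime Nat.prime_three).1 hn with rfl | rfl
      · haveI := (Nat.card_eq_one_iff_unique.1 hq).1
        exact isCyclic_of_subsingleton
      · exact isCyclic_of_prime_card (p := 3) hq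
    have h := (QuotientGroup.mk' Z0).isMulCommutative_of_isCyclic_of_ker_le_center
      (by rw [QuotientGroup.ker_mk'])
    exact hab₀ (congrArg Subtype.val (h.is_comm.comm ⟨a₀, ha₀⟩ ⟨b₀, hb₀⟩))
  have hquot : Nat.card ((P : Subgroup G) ⧸ Z0) * Nat.card Z0 = 27 := by
    rw [← hc27]; exact (card_eq_card_quotient_mul_card_subgroup Z0).symm
  have hZ3 : Nat.card Z0 = 3 ∧ Nat.card ((P : Subgroup G) ⧸ Z0) = 3 ^ 2 := by
    haveI : Nontrivial (P : Subgroup G) := Finite.one_lt_card_iff_nontrivial.1 (by rw [hc27]; norm_num)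
    haveI := P.2.center_nontrivial
    have h1 : 1 < Nat.card Z0 := Finite.one_lt_card_iff_nontrivial.2 ‹_›
    obtain ⟨k, hk, hk'⟩ := (Nat.dvd_prime_pow Nat.prime_three).1
      (Dvd.intro_left _ hquot : Nat.card Z0 ∣ 3 ^ 3)
    rw [hk'] at hquot h1
    interval_cases k
    · norm_num at h1
    · exact ⟨by rw [hk']; norm_num, by omega⟩
    · exact (hnc 3 dvd_rfl (by omega)).elim
    · exact (hnc 1 (one_dvd _) (by omega)).elim
  obtain ⟨⟨⟨z, hzP⟩, hzc⟩, hzo⟩ := exists_prime_orderOf_dvd_card' (G := Z0) 3 (by rw [hZ3.1])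
  rw [Subgroup.orderOf_mk, Subgroup.orderOf_mk] at hzo
  have hcen : ∀ g ∈ (P : Subgroup G), (∀ h ∈ (P : Subgroup G), g * h = h * g) ↔ g ∈ zpowers z := by
    intro g hg
    constructor
    · intro h
      have hm : (⟨g, hg⟩ : (P : Subgroup G)) ∈ Z0 :=
        mem_center_iff.2 fun x => Subtype.ext (h x x.2).symm
      have hz0 : zpowers (⟨z, hzP⟩ : (P : Subgroup G)) = Z0 := eq_of_le_of_card_ge
        (zpowers_le.2 hzc) (by rw [Nat.card_zpowers, Subgroup.orderOf_mk, hzo, hZ3.1])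
      rw [← hz0] at hm
      obtain ⟨k, hk⟩ := mem_zpowers_iff.1 hm
      exact mem_zpowers_iff.2 ⟨k, congrArg Subtype.val hk⟩
    · intro h x hx
      obtain ⟨k, rfl⟩ := mem_zpowers_iff.1 h
      have hzx : Commute x z := congrArg Subtype.val (mem_center_iff.1 hzc ⟨x, hx⟩)
      exact ((hzx.zpow_right k).eq).symm
  have hconj : ∀ g ∈ (P : Subgroup G), g ∉ zpowers z → ∀ u ∈ zpowers z,
      (C.χ6 : G → ℂ) (u * g) = (C.χ6 : G → ℂ) g := by
    intro g hg hgz u hu
    have hex : ¬ ∀ h ∈ (P : Subgroup G), g * h = h * g := fun h => hgz ((hcen g hg).1 h)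
    push Not at hex
    obtain ⟨h, hh, hgh⟩ := hex
    have hw : h * g * h⁻¹ * g⁻¹ ∈ zpowers z := by
      refine (hcen _ (mul_mem (mul_mem (mul_mem hh hg) (inv_mem hh)) (inv_mem hg))).1 fun x hx => ?_
      have hm : (⟨h, hh⟩ * ⟨g, hg⟩ * (⟨h, hh⟩ : (P : Subgroup G))⁻¹ * ⟨g, hg⟩⁻¹) ∈ Z0 := by
        rw [← QuotientGroup.eq_one_iff (N := Z0)]
        have hq := IsPGroup.commutative_of_card_eq_prime_sq (G := (P : Subgroup G) ⧸ Z0) hZ3.2
        simp only [QuotientGroup.mk_mul, QuotientGroup.mk_inv]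
        rw [hq ((⟨h, hh⟩ : (P : Subgroup G)) : (P : Subgroup G) ⧸ Z0)]
        group
      exact (congrArg Subtype.val (mem_center_iff.1 hm ⟨x, hx⟩)).symm
    have hw1 : h * g * h⁻¹ * g⁻¹ ≠ 1 := fun e => hgh (by
      rw [mul_inv_eq_one] at e
      exact (mul_inv_eq_iff_eq_mul.1 e).symm)
    have hwh : Commute h (h * g * h⁻¹ * g⁻¹) :=
      ((hcen _ (mul_mem (mul_mem (mul_mem hh hg) (inv_mem hh)) (inv_mem hg))).2 hw h hh).symm
    set w := h * g * h⁻¹ * g⁻¹ with hwdef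
    have hiter : ∀ n : ℕ, h ^ n * g * (h ^ n)⁻¹ = w ^ n * g := by
      intro n
      induction n with
      | zero => simp
      | succ n ih =>
        calc h ^ (n + 1) * g * (h ^ (n + 1))⁻¹ = h * (h ^ n * g * (h ^ n)⁻¹) * h⁻¹ := by
              rw [pow_succ']; group
          _ = (h * w ^ n) * g * h⁻¹ := by rw [ih]; group
          _ = w ^ n * (h * g * h⁻¹ * g⁻¹) * g := by rw [(hwh.pow_right n).eq]; group
          _ = w ^ (n + 1) * g := by rw [pow_succ, hwdef]
    have huw : u ∈ zpowers w := by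
      have he : zpowers w = zpowers z := by
        refine eq_of_le_of_card_ge (zpowers_le.2 hw) ?_
        rw [Nat.card_zpowers, Nat.card_zpowers, hzo, orderOf_eq_three S P hc27.dvd
          (mul_mem (mul_mem (mul_mem hh hg) (inv_mem hh)) (inv_mem hg)) hw1]
      rw [he]; exact hu
    obtain ⟨n, -, rfl⟩ := Finset.mem_image.1
      (((isOfFinOrder_of_finite w).mem_zpowers_iff_mem_range_orderOf).1 huw)
    rw [← hiter n]
    exact IsIrr.isClassFunction C.χ6.2 g (h ^ n)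
  obtain ⟨f, hf, hanti⟩ := exists_fixDim (IsIrr.isCharacter C.χ6.2)
  have h6 : (C.χ6 : G → ℂ) 1 = 6 := by rw [(H83.charDegree_eq C.χ6.2).1, C.d6]; norm_num
  have hinv : ∀ g : G, (C.χ6 : G → ℂ) g⁻¹ = (C.χ6 : G → ℂ) g := fun g => by
    rw [IsChar.inv_apply (IsIrr.isCharacter C.χ6.2), C.real6]
  have hsum3 : ∀ (y : G), orderOf y = 3 → ∀ φ : zpowers y → ℂ, ∀ c : ℂ,
      (∀ u : zpowers y, u ≠ 1 → φ u = c) → ∑ u : zpowers y, φ u = φ 1 + 2 * c := by
    intro y hy φ c hφ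
    rw [← Finset.add_sum_erase _ _ (Finset.mem_univ (1 : zpowers y)),
      Finset.sum_congr rfl (fun u hu => hφ u (Finset.mem_erase.1 hu).1), Finset.sum_const,
      Finset.card_erase_of_mem (Finset.mem_univ _), Finset.card_univ, ← Nat.card_eq_fintype_card,
      Nat.card_zpowers, hy, nsmul_eq_mul]
    norm_num
  have hvz : ∀ u ∈ zpowers z, u ≠ 1 → (C.χ6 : G → ℂ) u = (C.χ6 : G → ℂ) z := by
    intro u hu hu1
    rcases mem_zpowers_three hzo hu with e | e | e
    · exact absurd e hu1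
    · rw [e]
    · rw [e, hinv]
  have hfZ : (3 : ℂ) * f (zpowers z) = 6 + 2 * (C.χ6 : G → ℂ) z := by
    rw [← hf, fixDim_eq, Nat.card_zpowers, hzo, hsum3 z hzo _ ((C.χ6 : G → ℂ) z)
      (fun u hu => hvz u u.2 fun e => hu (Subtype.ext e)), OneMemClass.coe_one, h6]
    push_cast
    ring
  have main : ∀ g ∈ (P : Subgroup G), g ∉ zpowers z →
      (C.χ6 : G → ℂ) z = -3 ∧ (C.χ6 : G → ℂ) g = 0 := by
    intro g hg hgz
    have hg1 : g ≠ 1 := fun e => hgz (e ▸ one_mem _)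
    have hgo := orderOf_eq_three S P hc27.dvd hg hg1
    have hcomm : ∀ (a : zpowers z) (b : zpowers g),
        Commute ((zpowers z).subtype a) ((zpowers g).subtype b) := by
      intro a b
      exact ((hcen a ((zpowers_le.2 hzP) a.2)).2 a.2) b ((zpowers_le.2 hg) b.2)
    have hgmem : ∀ b : zpowers g, b ≠ 1 → ((b : G) ∈ (P : Subgroup G) ∧ (b : G) ∉ zpowers z ∧
        (C.χ6 : G → ℂ) b = (C.χ6 : G → ℂ) g) := by
      intro b hb
      rcases mem_zpowers_three hgo b.2 with e | e | e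
      · exact absurd (Subtype.ext e) hb
      · rw [e]; exact ⟨hg, hgz, rfl⟩
      · rw [e]; exact ⟨inv_mem hg, fun h => hgz (by simpa using inv_mem h), hinv g⟩
    let φ : zpowers z × zpowers g →* G :=
      (zpowers z).subtype.noncommCoprod (zpowers g).subtype hcomm
    have hinj : Function.Injective φ := by
      rw [MonoidHom.noncommCoprod_injective]
      refine ⟨subtype_injective _, subtype_injective _, ?_⟩
      rw [range_subtype, range_subtype, disjoint_iff, eq_bot_iff_forall]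
      intro x hx
      obtain ⟨h1, h2⟩ := mem_inf.1 hx
      by_contra hx1
      exact (hgmem ⟨x, h2⟩ fun e => hx1 (congrArg Subtype.val e)).2.1 h1
    have hle : φ.range ≤ (P : Subgroup G) := by
      rintro _ ⟨p, rfl⟩
      exact mul_mem ((zpowers_le.2 hzP) p.1.2) ((zpowers_le.2 hg) p.2.2)
    have hzle : zpowers z ≤ φ.range := fun u hu => ⟨(⟨u, hu⟩, 1), by simp [φ]⟩
    have hA : (9 : ℂ) * f φ.range = 6 + 2 * (C.χ6 : G → ℂ) z + 6 * (C.χ6 : G → ℂ) g := by
      have hcard : Nat.card φ.range = 9 := by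
        rw [← Nat.card_congr (MonoidHom.ofInjective hinj).toEquiv, Nat.card_prod, Nat.card_zpowers,
          Nat.card_zpowers, hzo, hgo]
      rw [← hf, fixDim_eq, hcard, ← (MonoidHom.ofInjective hinj).toEquiv.sum_comp,
        Fintype.sum_prod_type, Finset.sum_comm,
        hsum3 g hgo _ (3 * (C.χ6 : G → ℂ) g) fun b hb => ?_]
      · rw [hsum3 z hzo _ ((C.χ6 : G → ℂ) z) fun u hu => ?_]
        · have h11 : ((MonoidHom.ofInjective hinj).toEquiv ((1 : zpowers z), (1 : zpowers g)) : G) = 1 := by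
            show (1 : G) * 1 = 1
            rw [one_mul]
          rw [h11, h6]; norm_num; ring
        · show (C.χ6 : G → ℂ) ((u : G) * 1) = _
          rw [mul_one, hvz u u.2 fun e => hu (Subtype.ext e)]
      · obtain ⟨hbP, hbz, hbv⟩ := hgmem b hb
        rw [Finset.sum_congr rfl (g := fun _ => (C.χ6 : G → ℂ) g) fun u _ => ?_, Finset.sum_const,
          Finset.card_univ, ← Nat.card_eq_fintype_card, Nat.card_zpowers, hzo, nsmul_eq_mul]
        · norm_num
        · show (C.χ6 : G → ℂ) ((u : G) * b) = _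
          rw [hconj b hbP hbz u u.2, hbv]
    have hm1 := hanti _ _ hzle
    have hint : ∀ y : G, orderOf y = 3 → ∃ n : ℤ, (n = 3 ∨ n = 0 ∨ n = -3) ∧
        (C.χ6 : G → ℂ) y = n := fun y hy => by
      rcases three_values S hc C hy with e | e | e
      · exact ⟨3, Or.inl rfl, by rw [e]; norm_num⟩
      · exact ⟨0, Or.inr (Or.inl rfl), by rw [e]; norm_num⟩
      · exact ⟨-3, Or.inr (Or.inr rfl), by rw [e]; norm_num⟩
    obtain ⟨nz, hnz, ez⟩ := hint z hzo
    obtain ⟨ng, hng, eg⟩ := hint g hgo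
    have i1 : 3 * (f (zpowers z) : ℤ) = 6 + 2 * nz := by rw [ez] at hfZ; exact_mod_cast hfZ
    have i2 : 9 * (f φ.range : ℤ) = 6 + 2 * nz + 6 * ng := by
      rw [ez, eg] at hA; exact_mod_cast hA
    have r : nz = -3 ∧ ng = 0 := by rcases hnz with rfl | rfl | rfl <;> rcases hng with rfl | rfl | rfl <;> omega
    exact ⟨by rw [ez, r.1]; norm_num, by rw [eg, r.2]; norm_num⟩
  obtain ⟨g₀, hg₀, hg₀z⟩ : ∃ g ∈ (P : Subgroup G), g ∉ zpowers z :=
    ⟨a₀, ha₀, fun h => hab₀ ((hcen a₀ ha₀).2 h b₀ hb₀)⟩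
  exact ⟨z, hzP, hzo, hcen, fun u hu hu1 => (hvz u hu hu1).trans (main g₀ hg₀ hg₀z).1,
    fun g hg hgz => (main g hg hgz).2⟩

end Cfsg.Agent.Compute.G22
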