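import Cfsg.Agent.Compute.G22.HCheck

/-!
Soundness of the checks of the two-point stabilisers.
-/

set_option autoImplicit false

namespace Cfsg.Agent.Compute.G22

theorem ct_sound {m x y w : ℕ} (hm : m < 3) (hx : x < 27) (hy : y < 27) (hw : w < 27)
    (h9 : eigB m 9 x = true) (h3 : eigB m 3 y = true) (h1 : eigB m 1 w = true)
    (hker : kerB (mk' m) x y w = true) (hhom : homB (mk' m) x y w = true) :
    endT (mk' m) x y w ∈ ctList.getD m [] := by
  have hall : ctB m = true := by
    interval_cases m
    · exact ct_check_zero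
    · exact ct_check_one
    · exact ct_check_two
  simp only [ctB, List.all_eq_true, Bool.or_eq_true, Bool.not_eq_true', List.mem_range] at hall
  rcases hall x hx with h | h
  · rw [h9] at h; simp at h
  rcases h y hy with h | h
  · rw [h3] at h; simp at h
  rcases h w hw with ((h | h) | h) | h
  · rw [h1] at h; simp at h
  · rw [hker] at h; simp at h
  · rw [hhom] at h; simp at h
  · exact List.contains_iff_mem.1 h

theorem h_sound {m a b : ℕ} (hm : m < 3) (ha : a ∈ ctList.getD m []) (hb : b ∈ ctList.getD m [])
    (hv : validH m a b = true) : ∃ e, witB m (els a b) e = true := by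
  have hall : hB m = true := by
    interval_cases m
    · exact h_check_zero
    · exact h_check_one
    · exact h_check_two
  simp only [hB, List.all_eq_true, Bool.or_eq_true, Bool.not_eq_true'] at hall
  have hv' := hv
  simp only [validH, Bool.and_eq_true, bne_iff_ne, ne_eq, beq_iff_eq] at hv'
  obtain ⟨⟨⟨⟨⟨⟨h2, h4⟩, -⟩, -⟩, -⟩, -⟩, -⟩ := hv'
  rcases hall a ha with (h | h) | h
  · exact absurd (beq_iff_eq.1 h) h2
  · exact absurd h4 (bne_iff_ne.1 h)
  · rcases h b hb with h | h
    · rw [hv] at h; simp at h
    · obtain ⟨e, -, he⟩ := List.any_eq_true.1 h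
      exact ⟨e, he⟩

end Cfsg.Agent.Compute.G22
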