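import Cfsg.Agent.Compute.G22.WDefs
import Cfsg.Agent.Compute.G22.HCheck

/-!
Facts on the representatives of the two-point stabilisers.
-/

set_option autoImplicit false
set_option maxRecDepth 100000

namespace Cfsg.Agent.Compute.G22

/-- Basic properties of the representative lists. -/
def repB (r : ℕ) : Bool :=
  let L := reps.getD r []
  decide (L.length = 8) && L.getD 0 0 == idT &&
    (List.range 8).all (fun i => packT (getT (L.getD i 0)) 27 == L.getD i 0 &&
      getT (L.getD i 0) 0 == 0 && (List.range 27).all fun x => decide (getT (L.getD i 0) x < 27)) &&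
    (List.range 8).all (fun i => (List.range 8).all fun j => decide (hMul L i j < 8) &&
      L.getD (hMul L i j) 0 == compT (L.getD i 0) (L.getD j 0) &&
      (i == j || L.getD i 0 != L.getD j 0)) &&
    hMul L 1 1 == 2 && hMul L 1 2 == 3 && hMul L 0 4 == 4 && hMul L 1 4 == 5 && hMul L 2 4 == 6 &&
      hMul L 3 4 == 7

theorem rep_check : ∀ r ∈ List.range 8, repB r = true := by decide +kernel

theorem tm_eig : ∀ m ∈ List.range 3, ∀ i ∈ [9, 3, 1],
    getT (tmT m) i = i ∨ getT (tmT m) i = invC (mk' m) i := by decide +kernel

theorem mulC_zero_right : ∀ k ∈ List.range 2, ∀ a ∈ List.range 27, mulC k a 0 = a := by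
  decide +kernel

theorem wB_wA : ∃ l ∈ List.range 8, ∀ y ∈ List.range 28,
    getT wB (if y = 27 then 27 else getT ((reps.getD 7 []).getD l 0) y) = getT wA y := by
  decide +kernel

end Cfsg.Agent.Compute.G22
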