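import Cfsg.Agent.Compute.G22.SearchResult
import Cfsg.Agent.Compute.G22.HCheck

/-!
Soundness of the search for the involution exchanging the two points.
-/

set_option autoImplicit false

namespace Cfsg.Agent.Compute.G22

/-- The properties of the point map of the involution. -/
structure WData (k : ℕ) (L s : List ℕ) (W : ℕ → ℕ) : Prop where
  zero : W 0 = 27
  inf : W 27 = 0
  range : ∀ x, 1 ≤ x → x ≤ 26 → 1 ≤ W x ∧ W x ≤ 26
  invol : ∀ x, 1 ≤ x → x ≤ 26 → W (W x) = x
  eqv : ∀ i, i < 8 → ∀ x, 1 ≤ x → x ≤ 26 →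
    (1 ≤ getT (L.getD i 0) x ∧ getT (L.getD i 0) x ≤ 26) ∧
      W (getT (L.getD i 0) x) = getT (L.getD (s.getD i 8) 0) (W x)
  leaf : ∀ u, 1 ≤ u → u ≤ 26 → ∃ H ∈ L, ∀ x, x < 27 →
    prodC k W u x = mulC k (prodC k W u 0) (getT H x)

/-- A partial table compatible with a point map. -/
def Agree (T : ℕ) (W : ℕ → ℕ) : Prop :=
  ∀ i, 1 ≤ i → i ≤ 26 → getT T i = 0 ∨ getT T i = W i + 1

theorem getT_add_pow {T p v i : ℕ} (hp : getT T p = 0) (hv : v < 32) :
    getT (T + v * 32 ^ p) i = if i = p then v else getT T i := by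
  have hdec : T = 32 ^ (p + 1) * (T / 32 ^ (p + 1)) + T % 32 ^ p := by
    unfold getT at hp
    conv_lhs => rw [← Nat.div_add_mod T (32 ^ p), ← Nat.div_add_mod (T / 32 ^ p) 32, hp,
      Nat.div_div_eq_div_mul, ← pow_succ, add_zero]
    rw [pow_succ]
    ring
  rcases Nat.lt_trichotomy i p with h | h | h
  · obtain ⟨d, rfl⟩ : ∃ d, p = i + 1 + d := ⟨p - (i + 1), by omega⟩
    rw [if_neg (by omega), getT, getT,
      show v * 32 ^ (i + 1 + d) = 32 ^ i * (32 * (v * 32 ^ d)) by rw [pow_add, pow_succ]; ring,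
      Nat.add_mul_div_left _ _ (by positivity), Nat.add_mul_mod_self_left]
  · subst h
    rw [if_pos rfl, getT, Nat.add_mul_div_right _ _ (by positivity)]
    unfold getT at hp
    omega
  · obtain ⟨d, rfl⟩ : ∃ d, i = p + 1 + d := ⟨i - (p + 1), by omega⟩
    rw [if_neg (by omega), getT, getT, pow_add 32 (p + 1) d, ← Nat.div_div_eq_div_mul,
      ← Nat.div_div_eq_div_mul]
    have hpos : 0 < 32 ^ (p + 1) := by positivity
    have hlt : T % 32 ^ p + v * 32 ^ p < 32 ^ (p + 1) := by
      have h1 := Nat.mod_lt T (show 32 ^ p > 0 by positivity)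
      have h2 := Nat.mul_le_mul_right (32 ^ p) (show v ≤ 31 by omega)
      rw [pow_succ]
      nlinarith
    have hlt' : T % 32 ^ p < 32 ^ (p + 1) := by omega
    have e : (T + v * 32 ^ p) / 32 ^ (p + 1) = T / 32 ^ (p + 1) := by
      conv_lhs => rw [hdec, add_assoc, Nat.mul_add_div hpos, Nat.div_eq_of_lt hlt, add_zero]
    rw [e]

variable {k : ℕ} {L s : List ℕ} {W : ℕ → ℕ}

theorem setV_sound (hW : WData k L s W) {T p : ℕ} (hT : Agree T W) (h1 : 1 ≤ p) (h2 : p ≤ 26) :
    ∃ T', setV T p (W p) = some T' ∧ Agree T' W := by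
  obtain ⟨hl, hu⟩ := hW.range p h1 h2
  by_cases h : getT T p = 0
  · refine ⟨_, by rw [setV, if_pos (beq_iff_eq.2 h)], fun i hi hi' => ?_⟩
    rw [getT_add_pow h (by omega)]
    rcases eq_or_ne i p with rfl | hne
    · exact Or.inr (if_pos rfl)
    · rw [if_neg hne]; exact hT i hi hi'
  · have h' := (hT p h1 h2).resolve_left h
    exact ⟨T, by rw [setV, if_neg (by simpa using h), if_pos (beq_iff_eq.2 h')], hT⟩

theorem setL_sound (hW : WData k L s W) : ∀ (l : List (ℕ × ℕ)),
    (∀ e ∈ l, 1 ≤ e.1 ∧ e.1 ≤ 26 ∧ W e.1 = e.2) → ∀ T, Agree T W →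
      ∃ T', setL l T = some T' ∧ Agree T' W := by
  intro l
  induction l with
  | nil => exact fun _ T hT => ⟨T, rfl, hT⟩
  | cons e l ih =>
    intro hl T hT
    obtain ⟨h1, h2, h3⟩ := hl e (List.mem_cons_self ..)
    obtain ⟨T', hT', hA⟩ := setV_sound hW hT h1 h2
    rw [h3] at hT'
    obtain ⟨T'', hT'', hA'⟩ := ih (fun e' he' => hl e' (List.mem_cons_of_mem _ he')) T' hA
    exact ⟨T'', by simp [setL, hT', hT''], hA'⟩

theorem forced_mem (hW : WData k L s W) {x : ℕ} (h1 : 1 ≤ x) (h2 : x ≤ 26) :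
    ∀ e ∈ forced L s x (W x), 1 ≤ e.1 ∧ e.1 ≤ 26 ∧ W e.1 = e.2 := by
  intro e he
  simp only [forced, List.mem_flatMap, List.mem_range] at he
  obtain ⟨i, hi, he⟩ := he
  obtain ⟨⟨ha, hb⟩, hc⟩ := hW.eqv i hi x h1 h2
  simp only [List.mem_cons, List.not_mem_nil, or_false] at he
  rcases he with rfl | rfl
  · exact ⟨ha, hb, hc⟩
  · obtain ⟨hd, he⟩ := hW.range _ ha hb
    refine ⟨hc ▸ hd, hc ▸ he, ?_⟩
    show W (getT (L.getD (s.getD i 8) 0) (W x)) = getT (L.getD i 0) x
    rw [← hc]
    exact hW.invol _ ha hb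

theorem actC_le (k g x : ℕ) : actC k g x ≤ 27 := by
  unfold actC
  split
  · omega
  · exact (mulC_lt _ _ _).le

theorem prodC_congr {V V' : ℕ → ℕ} (h : ∀ x, x ≤ 27 → V x = V' x) (u x : ℕ) (hu : u ≤ 27)
    (hx : x ≤ 27) : prodC k V u x = prodC k V' u x := by
  unfold prodC
  rw [h x hx, h u hu, h _ (actC_le k u _), h _ (actC_le k _ _)]

theorem dfs_sound (hW : WData k L s W) (F : List ℕ) : ∀ n T, Agree T W →
    dfsW k L s F n T = true → ∃ w ∈ F, ∀ x, 1 ≤ x → x ≤ 26 → getT w x = W x := by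
  intro n
  induction n with
  | zero => intro T _ h; simp [dfsW] at h
  | succ n ih =>
    intro T hT h
    rw [dfsW] at h
    split at h
    · next hnone =>
      simp only [List.find?_eq_none, List.mem_range, beq_iff_eq] at hnone
      have hval : ∀ x, 1 ≤ x → x ≤ 26 → getT T x = W x + 1 := fun x h1 h2 =>
        (hT x h1 h2).resolve_left (by simpa [Nat.sub_add_cancel h1] using hnone (x - 1) (by omega))
      have hfun : ∀ x, x ≤ 27 → wFun T x = W x := by
        intro x hx
        unfold wFun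
        simp only [beq_iff_eq]
        split_ifs with h1 h2
        · rw [h1, hW.inf]
        · rw [h2, hW.zero]
        · rw [hval x (by omega) (by omega)]; omega
      have hleaf : leafB k L T = true := by
        simp only [leafB, List.all_eq_true, List.mem_range, List.any_eq_true, Bool.and_eq_true,
          beq_iff_eq]
        intro u hu
        obtain ⟨H, hH, hHx⟩ := hW.leaf (u + 1) (by omega) (by omega)
        have key : ∀ x, x < 27 → prodC k (wFun T) (u + 1) x =
            mulC k (prodC k (wFun T) (u + 1) 0) (getT H x) := by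
          intro x hx
          rw [prodC_congr hfun _ _ (by omega) (by omega), prodC_congr hfun _ 0 (by omega) (by omega)]
          exact hHx x hx
        refine ⟨H, hH, fun x hx => key x ?_, fun x hx => key x hx⟩
        simp only [List.mem_cons, List.not_mem_nil, or_false] at hx
        omega
      rw [hleaf] at h
      simp only [Bool.not_true, Bool.false_or, inFound, List.any_eq_true, List.all_eq_true,
        List.mem_range, beq_iff_eq] at h
      obtain ⟨w, hw, hwx⟩ := h
      refine ⟨w, hw, fun x h1 h2 => ?_⟩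
      have := hwx (x - 1) (by omega)
      rw [Nat.sub_add_cancel h1, hval x h1 h2] at this
      omega
    · next x hsome =>
      have hx := List.mem_of_find?_eq_some hsome
      rw [List.mem_range] at hx
      obtain ⟨hl, hu⟩ := hW.range (x + 1) (by omega) (by omega)
      simp only [List.all_eq_true, List.mem_range] at h
      have hy := h (W (x + 1) - 1) (by omega)
      rw [Nat.sub_add_cancel hl] at hy
      obtain ⟨T', hT', hA⟩ := setL_sound hW _ (forced_mem hW (x := x + 1) (by omega) (by omega)) T hT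
      rw [hT'] at hy
      exact ih T' hA hy

/-- Only the representative `7` occurs, with one of two point maps. -/
theorem search_sound {r sa sb : ℕ} {W : ℕ → ℕ} (hr : r < 8) (ha : sa < 8) (hb : sb < 8)
    (hs : sigmaB (reps.getD r []) (sigmaOf (reps.getD r []) sa sb) = true)
    (hW : WData (repK r) (reps.getD r []) (sigmaOf (reps.getD r []) sa sb) W) :
    r = 7 ∧ ((∀ x, x ≤ 27 → W x = getT wA x) ∨ ∀ x, x ≤ 27 → W x = getT wB x) := by
  have h := search_all r hr sa ha
  simp only [searchRow, List.all_eq_true, List.mem_range] at h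
  have h' := h sb hb
  simp only [searchB, hs, Bool.not_true, Bool.false_or] at h'
  have hzero : Agree 0 W := fun i _ _ => Or.inl (by simp [getT])
  obtain ⟨w, hw, hwx⟩ := dfs_sound hW _ 27 0 hzero h'
  have hr7 : r = 7 := by
    by_contra hne
    simp [solutions, hne] at hw
  refine ⟨hr7, ?_⟩
  subst hr7
  simp only [solutions, if_pos, List.mem_cons, List.not_mem_nil, or_false] at hw
  have hext : ∀ v, getT v 0 = 27 → getT v 27 = 0 →
      (∀ x, 1 ≤ x → x ≤ 26 → getT v x = W x) → ∀ x, x ≤ 27 → W x = getT v x := by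
    intro v h0 h27 hv x hx
    rcases Nat.eq_zero_or_pos x with rfl | h1
    · rw [h0, hW.zero]
    rcases eq_or_lt_of_le hx with rfl | h2
    · rw [h27, hW.inf]
    · exact (hv x h1 (by omega)).symm
  have hends : (getT wA 0 = 27 ∧ getT wA 27 = 0) ∧ getT wB 0 = 27 ∧ getT wB 27 = 0 := by
    decide +kernel
  rcases hw with rfl | rfl
  · exact Or.inl (hext _ hends.1.1 hends.1.2 hwx)
  · exact Or.inr (hext _ hends.2.1 hends.2.2 hwx)

end Cfsg.Agent.Compute.G22
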