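import Cfsg.Agent.Compute.G22.Kill112
import Cfsg.Agent.Compute.G22.CoordExists
import Cfsg.Agent.Compute.G22.HSound
import Cfsg.Agent.Compute.G22.WSound
import Cfsg.Agent.Compute.G22.RepFacts

/-!
Coordinates on the `28` points of a simple group of order `6048`.
-/

set_option autoImplicit false
set_option maxHeartbeats 1000000

namespace Cfsg.Agent.Compute.G22

open Cfsg Subgroup Cfsg.Agent.BlockBasic Cfsg.Agent.CharBasic
open scoped ComplexConjugate

variable {G : Type*} [Group G] [Fintype G]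

/-- The point with a given code. -/
def pt (N : Subgroup G) (φ : ℕ → G) (q : G ⧸ N) (x : ℕ) : G ⧸ N :=
  if x = 27 then base N else φ x • q

/-- Coordinates for the action on the `28` points. -/
structure Frame (G : Type*) [Group G] [Fintype G] where
  P : Sylow 3 G
  φ : ℕ → G
  h : ℕ → G
  g : G
  q : G ⧸ normalizer ((P : Subgroup G) : Set G)
  coord : IsCoord (P : Subgroup G) 1 φ
  cardN : Nat.card (normalizer ((P : Subgroup G) : Set G)) = 216
  hmem : ∀ i, i < 8 → h i ∈ normalizer ((P : Subgroup G) : Set G) ∧ h i • q = q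
  hsurj : ∀ x ∈ normalizer ((P : Subgroup G) : Set G), x • q = q → ∃ i, i < 8 ∧ h i = x
  htab : ∀ i, i < 8 → ∀ x, x < 27 →
    h i * φ x * (h i)⁻¹ = φ (getT ((reps.getD 7 []).getD i 0) x)
  ptInj : ∀ x y, x ≤ 27 → y ≤ 27 →
    pt (normalizer ((P : Subgroup G) : Set G)) φ q x =
      pt (normalizer ((P : Subgroup G) : Set G)) φ q y → x = y
  ptSurj : ∀ ω : G ⧸ normalizer ((P : Subgroup G) : Set G),
    ∃ x, x ≤ 27 ∧ pt (normalizer ((P : Subgroup G) : Set G)) φ q x = ω
  gW : ∀ x, x ≤ 27 → g • pt (normalizer ((P : Subgroup G) : Set G)) φ q x =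
    pt (normalizer ((P : Subgroup G) : Set G)) φ q (getT wA x)

variable [IsSimpleGroup G] (S : Spec G) (hc : Nat.card G = 6048)

include S hc

theorem fixDim_normalizer (C : Chars G) (P : Sylow 3 G) :
    fixDim (C.χ6 : G → ℂ) (normalizer ((P : Subgroup G) : Set G)) = 0 := by
  obtain ⟨f, hf, hanti⟩ := exists_fixDim (IsIrr.isCharacter C.χ6.2)
  have h1 := hanti _ _ (le_normalizer : (P : Subgroup G) ≤ _)
  have h2 := hf (P : Subgroup G)
  rw [fixDim_six S hc C P] at h2
  have h2' : f (P : Subgroup G) = 0 := by exact_mod_cast h2.symm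
  rw [hf, show f (normalizer ((P : Subgroup G) : Set G)) = 0 by omega, Nat.cast_zero]

/-- Coordinates exist. -/
theorem exists_frame : Nonempty (Frame G) := by
  classical
  haveI := Fact.mk Nat.prime_three
  haveI := Fact.mk Nat.prime_two
  obtain ⟨C⟩ := exists_chars S hc
  obtain ⟨P⟩ := Sylow.nonempty (p := 3) (G := G)
  obtain ⟨-, hN216⟩ := card_sylow_three_eq S hc C P
  have hc27 := card_sylow_three hc P
  have h6N := fixDim_normalizer S hc C P
  set N := normalizer ((P : Subgroup G) : Set G) with hNdef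
  have hPN : (P : Subgroup G) ≤ N := le_normalizer
  have h7 : ¬ 7 ∣ Nat.card N := by rw [hN216]; norm_num
  have hidx : N.index = 28 := by
    have h := N.card_mul_index
    rw [hN216, hc] at h
    omega
  have hfaith : ∀ x : G, (∀ ω : G ⧸ N, x • ω = ω) → x = 1 := fun x hx => by
    have hne : N ≠ ⊤ := fun h => by rw [h, index_top] at hidx; norm_num at hidx
    exact H36.toPermHom_injective hne ((Equiv.ext hx).trans (map_one _).symm)
  obtain ⟨q, hq⟩ : ∃ q : G ⧸ N, q ≠ base N := by
    by_contra h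
    push Not at h
    haveI : Subsingleton (G ⧸ N) := ⟨fun a b => (h a).trans (h b).symm⟩
    have := Finite.card_le_one_iff_subsingleton.2 (inferInstance : Subsingleton (G ⧸ N))
    rw [← index_eq_card, hidx] at this
    norm_num at this
  set H : Subgroup G := N ⊓ MulAction.stabilizer G q with hH
  have hH8 : Nat.card H = 8 := by
    have h := C.card_stabilizer h7 h6N hidx hq
    rw [hN216] at h
    have e : Nat.card H = Nat.card (MulAction.stabilizer N q) := Nat.card_congr
      { toFun := fun x => ⟨⟨x, (mem_inf.1 x.2).1⟩, (mem_inf.1 x.2).2⟩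
        invFun := fun x => ⟨(x : N), mem_inf.2 ⟨(x : N).2, x.2⟩⟩
        left_inv := fun x => rfl
        right_inv := fun x => rfl }
    omega
  have hHq : ∀ x ∈ H, x • q = q := fun x hx => (mem_inf.1 hx).2
  have hHN : ∀ x ∈ H, x ∈ N := fun x hx => (mem_inf.1 hx).1
  have hcj : ∀ x ∈ H, ∀ p ∈ (P : Subgroup G), x * p * x⁻¹ ∈ (P : Subgroup G) := fun x hx p hp =>
    (mem_normalizer_iff.1 (hHN x hx) p).1 hp
  have hcube : ∀ p ∈ (P : Subgroup G), p ^ 3 = 1 := fun p hp => by
    rcases eq_or_ne p 1 with rfl | h1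
    · simp
    · rw [← orderOf_eq_three S P hc27.dvd hp h1, pow_orderOf_eq_one]
  have hreg : ∀ p ∈ (P : Subgroup G), p • q = q → p = 1 := by
    intro p hp hpq
    have h1 := Subgroup.orderOf_dvd_natCard _ (mem_inf.2 ⟨hPN hp, hpq⟩ : p ∈ H)
    have h2 := Subgroup.orderOf_dvd_natCard _ hp
    rw [hH8] at h1
    rw [hc27] at h2
    exact orderOf_eq_one_iff.1 (Nat.eq_one_of_dvd_coprimes (by norm_num) h1 h2)
  have hpne : ∀ p ∈ (P : Subgroup G), p • q ≠ base N := fun p hp h =>
    hq (MulAction.injective p (h.trans (smul_base_of_mem (⟨p, hPN hp⟩ : N)).symm))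
  have hcard27 : Nat.card {ω : G ⧸ N // ω ≠ base N} = 27 := by
    rw [Nat.card_eq_fintype_card, Fintype.card_subtype_compl, Fintype.card_subtype_eq,
      ← Nat.card_eq_fintype_card, ← index_eq_card, hidx]
  have hbij : Function.Bijective
      (fun p : (P : Subgroup G) => (⟨(p : G) • q, hpne p p.2⟩ : {ω : G ⧸ N // ω ≠ base N})) := by
    rw [Nat.bijective_iff_injective_and_card]
    refine ⟨fun p p' h => ?_, by rw [hc27, hcard27]⟩
    have h' : (p : G) • q = (p' : G) • q := congrArg Subtype.val h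
    have := hreg _ (mul_mem (inv_mem p'.2) p.2) (by rw [mul_smul, h', inv_smul_smul])
    exact Subtype.ext (inv_mul_eq_one.1 this).symm
  have hconjpt : ∀ x ∈ H, ∀ p ∈ (P : Subgroup G), x • (p • q) = (x * p * x⁻¹) • q := by
    intro x hx p _
    rw [mul_smul, mul_smul, inv_smul_eq_iff.2 (hHq x hx).symm]
  have hfix3 : ∀ t ∈ H, orderOf t = 2 →
      Nat.card {p : G // p ∈ (P : Subgroup G) ∧ t * p * t⁻¹ = p} = 3 := by
    intro t ht ht2
    have h4 := C.fixed_invol h7 h6N hidx ht2
    have hbase : t • base N = base N := smul_base_of_mem (⟨t, hHN t ht⟩ : N)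
    have e : Nat.card {p : G // p ∈ (P : Subgroup G) ∧ t * p * t⁻¹ = p} =
        Nat.card {ω : MulAction.fixedBy (G ⧸ N) t // ω ≠ ⟨base N, hbase⟩} := by
      refine Nat.card_congr (Equiv.ofBijective (fun p => ⟨⟨p.1 • q, ?_⟩, ?_⟩) ⟨?_, ?_⟩)
      · show t • (p.1 • q) = p.1 • q
        rw [hconjpt t ht _ p.2.1, p.2.2]
      · intro h
        exact hpne p.1 p.2.1 (congrArg Subtype.val h)
      · intro a b h
        have h' : a.1 • q = b.1 • q := congrArg Subtype.val (congrArg Subtype.val h)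
        have := hbij.1 (a₁ := ⟨a.1, a.2.1⟩) (a₂ := ⟨b.1, b.2.1⟩) (Subtype.ext h')
        exact Subtype.ext (congrArg Subtype.val this :)
      · rintro ⟨⟨ω, hω⟩, hne⟩
        obtain ⟨⟨p, hp⟩, hpω⟩ := hbij.2 ⟨ω, fun h => hne (Subtype.ext h)⟩
        have hpω' : p • q = ω := congrArg Subtype.val hpω
        refine ⟨⟨p, hp, ?_⟩, Subtype.ext (Subtype.ext hpω')⟩
        have h1 : (t * p * t⁻¹) • q = p • q := by
          rw [← hconjpt t ht p hp, hpω']; exact hω
        exact congrArg Subtype.val (hbij.1 (a₁ := ⟨_, hcj t ht p hp⟩) (a₂ := ⟨p, hp⟩)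
          (Subtype.ext h1))
    rw [e, Nat.card_eq_fintype_card, Fintype.card_subtype_compl, Fintype.card_subtype_eq,
      ← Nat.card_eq_fintype_card, h4]
  -- an element of order four
  have hpow8 : ∀ x ∈ H, orderOf x ∣ 8 := fun x hx => hH8 ▸ Subgroup.orderOf_dvd_natCard _ hx
  obtain ⟨a, haH, ha2, ha4⟩ : ∃ a ∈ H, a * a ≠ 1 ∧ a * a * (a * a) = 1 := by
    obtain ⟨x, hx, hxx⟩ : ∃ x ∈ H, x * x ≠ 1 := by
      by_contra h
      push Not at h
      obtain ⟨m, hm⟩ := fixDim_nat (IsIrr.isCharacter C.χ6.2) H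
      have hval : ∀ u ∈ (Finset.univ.erase (1 : H)), (C.χ6 : G → ℂ) (u : G) = -2 := fun u hu =>
        C.val6 _ (orderOf_eq_prime (by rw [pow_two]; exact h u u.2)
          fun e => (Finset.mem_erase.1 hu).1 (Subtype.ext e))
      rw [fixDim_eq, hH8, ← Finset.add_sum_erase _ _ (Finset.mem_univ (1 : H)),
        Finset.sum_congr rfl hval, Finset.sum_const, Finset.card_erase_of_mem (Finset.mem_univ _),
        Finset.card_univ, ← Nat.card_eq_fintype_card, hH8, OneMemClass.coe_one,
        (H83.charDegree_eq C.χ6.2).1, C.d6] at hm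
      norm_num at hm
      have h' : ((-1 : ℤ) : ℂ) = ((m : ℤ) : ℂ) := by push_cast; linear_combination hm
      have h'' : (-1 : ℤ) = m := by exact_mod_cast h'
      omega
    have h8 : x ^ 8 = 1 := orderOf_dvd_iff_pow_eq_one.1 (hpow8 x hx)
    by_cases h4 : x * x * (x * x) = 1
    · exact ⟨x, hx, hxx, h4⟩
    · refine ⟨x * x, mul_mem hx hx, h4, ?_⟩
      rw [← h8]
      simp only [pow_succ, pow_zero, one_mul, mul_assoc]
  obtain ⟨b, hbH, hb⟩ : ∃ b ∈ H, b ∉ [1, a, a * a, a * (a * a)] := by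
    by_contra h
    push Not at h
    have hle : Nat.card H ≤ 4 := by
      have := Nat.card_le_card_of_injective
        (fun x : H => (⟨(x : G), List.mem_toFinset.2 (h x x.2)⟩ : ([1, a, a * a, a * (a * a)].toFinset)))
        (fun x y e => Subtype.ext (congrArg Subtype.val e :))
      rw [Nat.card_eq_fintype_card, Nat.card_eq_fintype_card, Fintype.card_coe] at this
      rw [Nat.card_eq_fintype_card]
      exact this.trans (List.toFinset_card_le _)
    omega
  simp only [List.mem_cons, List.not_mem_nil, or_false, not_or] at hb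
  obtain ⟨hb1, hb2, hb3, hb4⟩ := hb
  have ha1 : a ≠ 1 := fun e => ha2 (by rw [e, one_mul])
  obtain ⟨t, htH, ht2, htc⟩ : ∃ t ∈ H, orderOf t = 2 ∧ ∀ x ∈ H, x * t = t * x := by
    have hp : IsPGroup 2 H := IsPGroup.of_card (n := 3) (by rw [hH8]; norm_num)
    haveI : Nontrivial H := Finite.one_lt_card_iff_nontrivial.1 (by rw [hH8]; norm_num)
    haveI := hp.center_nontrivial
    obtain ⟨n, hn0, hnc⟩ := (hp.to_subgroup (center H)).nontrivial_iff_card.1 ‹_›
    obtain ⟨⟨⟨z, hz⟩, hzc⟩, hzo⟩ := exists_prime_orderOf_dvd_card' (G := center H) 2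
      (hnc ▸ dvd_pow_self 2 hn0.ne')
    rw [Subgroup.orderOf_mk, Subgroup.orderOf_mk] at hzo
    exact ⟨z, hz, hzo, fun x hx => congrArg Subtype.val (mem_center_iff.1 hzc ⟨x, hx⟩)⟩
  have htt : t * t = 1 := by rw [← pow_two, ← ht2, pow_orderOf_eq_one]
  -- coordinates
  obtain ⟨m, hm, φ, hφ, hφt⟩ := exists_coord (P : Subgroup G) hc27 hcube t htt (hcj t htH)
    (hfix3 t htH ht2) (by
      by_cases hab : ∀ a ∈ (P : Subgroup G), ∀ b ∈ (P : Subgroup G), a * b = b * a
      · exact Or.inl hab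
      · push Not at hab
        obtain ⟨z, hz, hzo, hcen, -, -⟩ := exists_central S hc C P hab
        exact Or.inr ⟨z, hz, hzo, hcen⟩)
  set k := mk' m with hk
  have hk2 : k ∈ List.range 2 := by rw [hk, mk', List.mem_range]; split <;> norm_num
  have hex : ∀ (x : G) (i : ℕ), ∃ c, c < 27 ∧ (x ∈ H → φ c = x * φ i * x⁻¹) := by
    intro x i
    by_cases hx : x ∈ H
    · obtain ⟨c, hc', e⟩ := hφ.surj _ (hcj x hx _ (hφ.mem i))
      exact ⟨c, hc', fun _ => e⟩
    · exact ⟨0, by norm_num, fun h => absurd h hx⟩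
  choose code hcode27 hcode using hex
  let T : G → ℕ := fun x => packT (code x) 27
  have hTget : ∀ x i, i < 27 → getT (T x) i = code x i := fun x i hi => by
    rw [getT_packT _ hi, Nat.mod_eq_of_lt (lt_trans (hcode27 x i) (by norm_num))]
  have hT27 : ∀ x i, i < 27 → getT (T x) i < 27 := fun x i hi => hTget x i hi ▸ hcode27 x i
  have hTconj : ∀ x ∈ H, ∀ i, i < 27 → φ (getT (T x) i) = x * φ i * x⁻¹ := fun x hx i hi => by
    rw [hTget x i hi]; exact hcode x i hx
  have hTeq : ∀ x ∈ H, ∀ f : ℕ → ℕ, (∀ i, i < 27 → f i < 27 ∧ φ (f i) = x * φ i * x⁻¹) →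
      T x = packT f 27 := fun x hx f hf => packT_congr fun i hi => by
    rw [hφ.inj _ _ (hcode27 x i) (hf i hi).1 ((hcode x i hx).trans (hf i hi).2.symm)]
  have hTone : T 1 = idT := hTeq 1 (one_mem H) _ fun i hi => ⟨hi, by simp⟩
  have hTmul : ∀ x ∈ H, ∀ y ∈ H, T (x * y) = compT (T x) (T y) := fun x hx y hy =>
    hTeq _ (mul_mem hx hy) _ fun i hi => ⟨hT27 x _ (hT27 y i hi), by
      rw [hTconj x hx _ (hT27 y i hi), hTconj y hy i hi]; group⟩
  have hTinj : ∀ x ∈ H, ∀ y ∈ H, T x = T y → x = y := by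
    intro x hx y hy e
    have hcent : ∀ p ∈ (P : Subgroup G), x * p * x⁻¹ = y * p * y⁻¹ := fun p hp => by
      obtain ⟨i, hi, rfl⟩ := hφ.surj p hp
      rw [← hTconj x hx i hi, e, hTconj y hy i hi]
    have h1 : y⁻¹ * x = 1 := hfaith _ fun ω => by
      rcases eq_or_ne ω (base N) with rfl | hω
      · exact smul_base_of_mem (⟨_, hHN _ (mul_mem (inv_mem hy) hx)⟩ : N)
      · obtain ⟨⟨p, hp⟩, hpω⟩ := hbij.2 ⟨ω, hω⟩
        have hpω' : p • q = ω := congrArg Subtype.val hpω
        rw [← hpω', mul_smul, hconjpt x hx p hp, hcent p hp, ← hconjpt y hy p hp, inv_smul_smul]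
    exact (inv_mul_eq_one.1 h1).symm
  have hTt : T t = tmT m := by
    obtain ⟨x, y, w, e⟩ : ∃ x y w, tmT m = endT k x y w := by
      interval_cases m
      · exact ⟨9, 6, 2, by simp [tmT, hk, mk']⟩
      · exact ⟨18, 6, 1, by simp [tmT, hk, mk']⟩
      · exact ⟨9, 6, 2, by simp [tmT, hk, mk']⟩
    rw [e]
    exact hTeq t htH _ fun i hi => ⟨endC_lt _ _ _ _ _, by rw [hφt i hi, e, getT_endT hi]⟩
  have hinvφ : ∀ c, c < 27 → φ (invC k c) = (φ c)⁻¹ := fun c hc' =>
    eq_inv_of_mul_eq_one_left (by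
      rw [← hφ.mul, (invC_spec k hk2 c (List.mem_range.2 hc')).1, hφ.one])
  have hTct : ∀ x ∈ H, T x ∈ ctList.getD m [] := by
    intro x hx
    obtain ⟨cx, cy, cw, h1, h2, h3, e9, e3, e1, hend⟩ := hφ.exists_endC hcube
      (MulAut.conj x).toMonoidHom (fun p hp => hcj x hx p hp)
    have e : T x = endT k cx cy cw := hTeq x hx _ fun i _ => ⟨endC_lt _ _ _ _ _, (hend i).symm⟩
    rw [e]
    have heig : ∀ i ∈ [9, 3, 1], ∀ c, c < 27 → φ c = x * φ i * x⁻¹ → eigB m i c = true := by
      intro i hi c hc' ec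
      have hi27 : i < 27 := by simp at hi; omega
      have key : φ (getT (tmT m) c) = x * φ (getT (tmT m) i) * x⁻¹ := by
        rw [← hφt c hc', ← hφt i hi27, ec]
        calc t * (x * φ i * x⁻¹) * t⁻¹ = (t * x) * φ i * (t * x)⁻¹ := by group
          _ = _ := by rw [← htc x hx]; group
      have hlt : getT (tmT m) c < 27 := by rw [← hTt]; exact hT27 t c hc'
      simp only [eigB, beq_iff_eq]
      rcases tm_eig m (List.mem_range.2 hm) i hi with he | he
      · rw [if_pos he]
        rw [he, ← ec] at key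
        exact hφ.inj _ _ hlt hc' key
      · rw [he, hinvφ i hi27] at key
        by_cases hii : getT (tmT m) i = i
        · rw [if_pos hii]
          rw [show (φ i)⁻¹ = φ i by rw [← hinvφ i hi27, ← he, hii]] at key
          rw [← ec] at key
          exact hφ.inj _ _ hlt hc' key
        · rw [if_neg hii]
          refine hφ.inj _ _ hlt (invC_lt _ _) ?_
          rw [key, hinvφ c hc', ec]; group
    refine ct_sound hm h1 h2 h3 (heig 9 (by simp) cx h1 e9) (heig 3 (by simp) cy h2 e3)
      (heig 1 (by simp) cw h3 e1) ?_ ?_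
    · simp only [kerB, List.all_eq_true, List.mem_range, bne_iff_ne, ne_eq]
      intro i hi h0
      have := hend (i + 1)
      simp only [MulEquiv.coe_toMonoidHom] at this
      rw [h0, hφ.one, map_eq_one_iff _ (MulAut.conj x).injective, ← hφ.one] at this
      have := hφ.inj _ _ (by omega) (by norm_num) this
      omega
    · simp only [homB, List.all_eq_true, List.mem_range, beq_iff_eq]
      intro i hi g _
      refine hφ.inj _ _ (endC_lt _ _ _ _ _) (mulC_lt _ _ _) ?_
      rw [← hend, hφ.mul, map_mul, hφ.mul, hend, hend]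
  have hfixN : ∀ x ∈ H, x ≠ 1 → x * x = 1 → fixN (T x) = 3 := by
    intro x hx hx1 hxx
    have h3 := hfix3 x hx (orderOf_eq_prime (by rw [pow_two]; exact hxx) hx1)
    rw [← h3, fixN, Nat.card_eq_fintype_card, ← List.toFinset_card_of_nodup
      (List.nodup_range.filter _), ← Fintype.card_coe]
    refine Fintype.card_congr (Equiv.ofBijective (fun c => ⟨φ c.1, hφ.mem _, ?_⟩) ⟨?_, ?_⟩)
    · have hc' := List.mem_filter.1 (List.mem_toFinset.1 c.2)
      rw [← hTconj x hx _ (List.mem_range.1 hc'.1), beq_iff_eq.1 hc'.2]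
    · intro c c' e
      have hc' := List.mem_filter.1 (List.mem_toFinset.1 c.2)
      have hc'' := List.mem_filter.1 (List.mem_toFinset.1 c'.2)
      exact Subtype.ext (hφ.inj _ _ (List.mem_range.1 hc'.1) (List.mem_range.1 hc''.1)
        (congrArg Subtype.val e))
    · rintro ⟨p, hp, hpx⟩
      obtain ⟨i, hi, rfl⟩ := hφ.surj p hp
      refine ⟨⟨i, List.mem_toFinset.2 (List.mem_filter.2 ⟨List.mem_range.2 hi, beq_iff_eq.2 ?_⟩)⟩, rfl⟩
      exact hφ.inj _ _ (hT27 x i hi) hi (by rw [hTconj x hx i hi, hpx])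
  -- the eight elements
  let E : List G := [1, a, a * a, a * (a * a), b, a * b, a * a * b, a * (a * a) * b]
  have hEmem : ∀ x ∈ E, x ∈ H := by
    simp only [E, List.mem_cons, List.not_mem_nil, or_false, forall_eq_or_imp, forall_eq]
    exact ⟨one_mem H, haH, mul_mem haH haH, mul_mem haH (mul_mem haH haH), hbH, mul_mem haH hbH,
      mul_mem (mul_mem haH haH) hbH, mul_mem (mul_mem haH (mul_mem haH haH)) hbH⟩
  have haaa : a * (a * (a * a)) = 1 := by rw [← ha4]; group
  have hnd : E.Nodup := by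
    have e1 : a ≠ a * a := fun e => ha1 (mul_left_cancel ((mul_one a).trans e)).symm
    have e2 : a ≠ a * (a * a) := fun e => ha2 (mul_left_cancel ((mul_one a).trans e)).symm
    have e3 : a * a ≠ a * (a * a) := fun e => e1 (mul_left_cancel e)
    have e4 : a * (a * a) ≠ 1 := fun e => ha1 (by rw [e, mul_one] at haaa; exact haaa)
    have f1 : a * b ≠ 1 := fun e => hb4 (by
      calc b = a * (a * (a * a)) * b := by rw [haaa, one_mul]
        _ = a * (a * a) * (a * b) := by group
        _ = _ := by rw [e, mul_one])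
    have f2 : a * a * b ≠ 1 := fun e => hb3 (by
      calc b = a * (a * (a * a)) * b := by rw [haaa, one_mul]
        _ = a * a * (a * a * b) := by group
        _ = _ := by rw [e, mul_one])
    have f3 : a * (a * a) * b ≠ 1 := fun e => hb2 (by
      calc b = a * (a * (a * a)) * b := by rw [haaa, one_mul]
        _ = a * (a * (a * a) * b) := by group
        _ = _ := by rw [e, mul_one])
    have g1 : ∀ u, u ≠ 1 → a * u ≠ a := fun u hu e => hu (mul_left_cancel (e.trans (mul_one a).symm))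
    have g3 : a ≠ a * b := (g1 b hb1).symm
    have g4 : a ≠ a * a * b := by rw [mul_assoc]; exact (g1 _ f1).symm
    have g5 : a ≠ a * (a * a) * b := by rw [mul_assoc]; exact (g1 _ f2).symm
    have k3 : a * a ≠ a * b := fun e => hb2 (mul_left_cancel e).symm
    have k4 : a * a ≠ a * a * b := fun e => hb1 (mul_left_cancel (e.symm.trans (mul_one _).symm))
    have k5 : a * a ≠ a * (a * a) * b := by rw [mul_assoc]; exact fun e => g4 (mul_left_cancel e)
    have l3 : a * (a * a) ≠ a * b := fun e => hb3 (mul_left_cancel e).symm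
    have l4 : a * (a * a) ≠ a * a * b := by rw [mul_assoc a a b]; exact fun e => k3 (mul_left_cancel e)
    have l5 : a * (a * a) ≠ a * (a * a) * b := fun e =>
      hb1 (mul_left_cancel (e.symm.trans (mul_one _).symm))
    simp only [E, List.nodup_cons, List.mem_cons, List.not_mem_nil, or_false, not_or,
      List.nodup_nil, and_true, not_false_iff]
    refine ⟨⟨ha1.symm, ha2.symm, e4.symm, hb1 ∘ Eq.symm, f1.symm, f2.symm, f3.symm⟩,
      ⟨e1, e2, hb2 ∘ Eq.symm, g3, g4, g5⟩, ⟨e3, hb3 ∘ Eq.symm, k3, k4, k5⟩,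
      ⟨hb4 ∘ Eq.symm, l3, l4, l5⟩, ⟨?_, ?_, ?_⟩, ⟨?_, ?_⟩, ?_⟩
    all_goals intro e
    · exact ha1 (mul_right_cancel ((one_mul b).trans e)).symm
    · exact ha2 (mul_right_cancel ((one_mul b).trans e)).symm
    · exact e4 (mul_right_cancel ((one_mul b).trans e)).symm
    · exact e1 (mul_right_cancel e)
    · exact e2 (mul_right_cancel e)
    · exact e3 (mul_right_cancel e)
  have hEcover : ∀ x ∈ H, x ∈ E := by
    intro x hx
    by_contra hxE
    have hsub : ∀ y ∈ x :: E, y ∈ H := fun y hy => by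
      rcases List.mem_cons.1 hy with rfl | hy
      · exact hx
      · exact hEmem y hy
    have hnd' : ((x :: E).pmap (fun y hy => (⟨y, hy⟩ : H)) hsub).Nodup :=
      (List.nodup_cons.2 ⟨hxE, hnd⟩).pmap fun a ha b hb e => congrArg Subtype.val e
    have hl := hnd'.length_le_card
    rw [List.length_pmap, ← Nat.card_eq_fintype_card, hH8] at hl
    simp [E] at hl
  have hels : els (T a) (T b) = E.map T := by
    simp only [els, E, List.map_cons, List.map_nil]
    rw [← hTone, ← hTmul a haH a haH, ← hTmul a haH _ (mul_mem haH haH),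
      ← hTmul 1 (one_mem H) b hbH, one_mul, ← hTmul a haH b hbH,
      ← hTmul _ (mul_mem haH haH) b hbH, ← hTmul _ (mul_mem haH (mul_mem haH haH)) b hbH]
  have hvalid : validH m (T a) (T b) = true := by
    have htake : (els (T a) (T b)).take 4 = [T 1, T a, T (a * a), T (a * (a * a))] := by
      rw [hels]; rfl
    have hdrop : (els (T a) (T b)).drop 4 =
        [T b, T (a * b), T (a * a * b), T (a * (a * a) * b)] := by rw [hels]; rfl
    simp only [validH, Bool.and_eq_true, bne_iff_ne, ne_eq, beq_iff_eq, List.all_eq_true,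
      Bool.or_eq_true, List.contains_iff_mem, htake, hdrop]
    rw [← hTmul a haH a haH, ← hTmul _ (mul_mem haH haH) _ (mul_mem haH haH), ha4, hTone,
      ← hTmul b hbH b hbH, ← hTmul b hbH a haH, hels]
    refine ⟨⟨⟨⟨⟨⟨fun e => ha2 (hTinj _ (mul_mem haH haH) 1 (one_mem H) (e.trans hTone.symm)),
      rfl⟩, ?_⟩, ?_⟩, ?_⟩, ?_⟩, ?_⟩
    · rw [← hTone]
      have hm' := hEcover _ (mul_mem hbH hbH)
      simp only [E, List.mem_cons, List.not_mem_nil, or_false] at hm' ⊢
      rcases hm' with e | e | e | e | e | e | e | e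
      · exact Or.inl (congrArg T e)
      · exact Or.inr (Or.inl (congrArg T e))
      · exact Or.inr (Or.inr (Or.inl (congrArg T e)))
      · exact Or.inr (Or.inr (Or.inr (congrArg T e)))
      · exact absurd (mul_right_cancel (e.trans (one_mul b).symm)) hb1
      · exact absurd (mul_right_cancel e) hb2
      · exact absurd (mul_right_cancel e) hb3
      · exact absurd (mul_right_cancel e) hb4
    · have hm' := hEcover _ (mul_mem hbH haH)
      simp only [E, List.mem_cons, List.not_mem_nil, or_false] at hm' ⊢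
      rcases hm' with e | e | e | e | e | e | e | e
      · exfalso; apply hb4
        calc b = b * (a * (a * (a * a))) := by rw [haaa, mul_one]
          _ = b * a * (a * (a * a)) := by group
          _ = _ := by rw [e, one_mul]
      · exact absurd (mul_right_cancel (e.trans (one_mul a).symm)) hb1
      · exact absurd (mul_right_cancel e) hb2
      · exfalso; apply hb3
        calc b = b * (a * (a * (a * a))) := by rw [haaa, mul_one]
          _ = b * a * (a * (a * a)) := by group
          _ = a * (a * a) * (a * (a * a)) := by rw [e]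
          _ = a * (a * (a * a)) * (a * a) := by group
          _ = _ := by rw [haaa, one_mul]
      · exact Or.inl (congrArg T e)
      · exact Or.inr (Or.inl (congrArg T e))
      · exact Or.inr (Or.inr (Or.inl (congrArg T e)))
      · exact Or.inr (Or.inr (Or.inr (congrArg T e)))
    · have hnd' : (E.map T).Nodup :=
        List.Nodup.map_on (fun x hx y hy e => hTinj x (hEmem x hx) y (hEmem y hy) e) hnd
      have hdis : ∀ l : List ℕ, l.Nodup → distinctB l = true := by
        intro l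
        induction l with
        | nil => intro _; rfl
        | cons u l ih =>
          intro h
          obtain ⟨h1, h2⟩ := List.nodup_cons.1 h
          simp [distinctB, h1, ih h2]
      exact hdis _ hnd'
    · exact List.mem_map.2 ⟨t, hEcover t htH, hTt⟩
    · intro u hu
      obtain ⟨x, hx, rfl⟩ := List.mem_map.1 hu
      have hxH := hEmem x hx
      rcases eq_or_ne x 1 with rfl | hx1
      · exact Or.inl (Or.inl hTone)
      by_cases hxx : x * x = 1
      · exact Or.inr (hfixN x hxH hx1 hxx)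
      · refine Or.inl (Or.inr fun e => hxx ?_)
        exact hTinj _ (mul_mem hxH hxH) 1 (one_mem H) (by rw [hTmul x hxH x hxH, e, hTone])
  -- the representative
  obtain ⟨⟨key, r, wx, wy, ww⟩, hwit⟩ := h_sound hm (hTct a haH) (hTct b hbH) hvalid
  rw [hels] at hwit
  simp only [witB, Bool.and_eq_true, decide_eq_true_eq, beq_iff_eq, List.all_eq_true,
    List.any_eq_true, kerB, List.mem_range, bne_iff_ne, ne_eq] at hwit
  obtain ⟨⟨⟨⟨⟨⟨⟨⟨⟨⟨-, hr⟩, hrk⟩, hx27⟩, hy27⟩, hw27⟩, hker⟩, hxw⟩, hyw⟩, hxy⟩, hrep⟩ := hwit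
  have hrfacts := rep_check r (List.mem_range.2 hr)
  simp only [repB, Bool.and_eq_true, decide_eq_true_eq, beq_iff_eq, List.all_eq_true,
    List.mem_range, Bool.or_eq_true, bne_iff_ne, ne_eq] at hrfacts
  set L := reps.getD r [] with hLdef
  obtain ⟨⟨⟨⟨⟨⟨⟨⟨⟨hlen, hL0⟩, hLi⟩, hLij⟩, m11⟩, m12⟩, m04⟩, m14⟩, m24⟩, m34⟩ := hrfacts
  obtain ⟨hφ', e9', e3', e1'⟩ := isCoord_elem (k := k) hc27 (hφ.mem wx) (hφ.mem wy) (hφ.mem ww)
    (hcube _ (hφ.mem wx)) (hcube _ (hφ.mem wy)) (hcube _ (hφ.mem ww))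
    (show φ wx * φ ww = φ ww * φ wx by rw [← hφ.mul, ← hφ.mul, hxw])
    (show φ wy * φ ww = φ ww * φ wy by rw [← hφ.mul, ← hφ.mul, hyw])
    (by rw [← hφ.mul, ← hφ.mul, ← hφ.map_powC, ← hφ.mul, hxy]) (by
      intro a b c ha hb hc' e
      have e' : φ (endC k wx wy ww (9 * a + 3 * b + c)) = φ 0 := by
        rw [hφ.map_endC hcube, hφ.one, ← e, elem,
          ← pow_three_mod (hcube _ (hφ.mem wy)) ((9 * a + 3 * b + c) / 3),
          ← pow_three_mod (hcube _ (hφ.mem wx)) ((9 * a + 3 * b + c) / 9),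
          ← pow_three_mod (hcube _ (hφ.mem ww)) (9 * a + 3 * b + c)]
        congr 3 <;> omega
      have h0 := hφ.inj _ _ (endC_lt _ _ _ _ _) (by norm_num) e'
      by_contra hne
      refine hker (9 * a + 3 * b + c - 1) (by omega) ?_
      rwa [Nat.sub_add_cancel (by omega)]) hk2
  set ψ := elem (φ wx) (φ wy) (φ ww) with hψ
  have hψφ : ∀ j, j < 27 → ψ j = φ (getT (endT k wx wy ww) j) := fun j hj => by
    rw [getT_endT hj, hφ.map_endC hcube]
  have hLd : ∀ i, i < 8 → L.getD i 0 ∈ L := fun i hi => by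
    rw [List.getD_eq_getElem _ _ (by rw [hlen]; exact hi)]; exact List.getElem_mem _
  have hexh : ∀ i, ∃ x, x ∈ H ∧ (i < 8 → ∀ j, j < 27 → x * ψ j * x⁻¹ = ψ (getT (L.getD i 0) j)) := by
    intro i
    by_cases hi : i < 8
    · obtain ⟨T', hT', e⟩ := hrep _ (hLd i hi)
      obtain ⟨x, hx, rfl⟩ := List.mem_map.1 hT'
      refine ⟨x, hEmem x hx, fun _ j hj => ?_⟩
      have hLlt := (hLi i hi).2 j hj
      have e' := congrArg (fun U => getT U j) e
      simp only [getT_compT hj] at e'
      have he : getT (endT k wx wy ww) j < 27 := by rw [getT_endT hj]; exact endC_lt _ _ _ _ _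
      rw [hψφ j hj, hψφ _ hLlt, e', hTconj x (hEmem x hx) _ he]
    · exact ⟨1, one_mem H, fun h => absurd h hi⟩
  choose hf hfH hftab using hexh
  have hfinj : ∀ i j, i < 8 → j < 8 → hf i = hf j → i = j := by
    intro i j hi hj e
    refine ((hLij i hi j hj).2).resolve_right (not_not.2 ?_)
    rw [← (hLi i hi).1.1, ← (hLi j hj).1.1]
    refine packT_congr fun x hx => ?_
    rw [hφ'.inj _ _ ((hLi i hi).2 x hx) ((hLi j hj).2 x hx)
      (by rw [← hftab i hi x hx, ← hftab j hj x hx, e])]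
  have hfsurj : ∀ x ∈ H, ∃ i, i < 8 ∧ hf i = x := by
    have hb : Function.Bijective (fun i : Fin 8 => (⟨hf i, hfH i⟩ : H)) := by
      rw [Nat.bijective_iff_injective_and_card, Nat.card_fin, hH8]
      exact ⟨fun i j e => Fin.ext (hfinj _ _ i.2 j.2 (congrArg Subtype.val e)), rfl⟩
    intro x hx
    obtain ⟨i, hi⟩ := hb.2 ⟨x, hx⟩
    exact ⟨i, i.2, congrArg Subtype.val hi⟩
  have hfu : ∀ x ∈ H, ∀ y ∈ H, (∀ j, j < 27 → x * ψ j * x⁻¹ = y * ψ j * y⁻¹) → x = y := by
    intro x hx y hy e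
    refine hTinj x hx y hy (packT_congr fun i hi => ?_)
    obtain ⟨j, hj, hj'⟩ := hφ'.surj _ (hφ.mem i)
    have hj'' : ψ j = φ i := hj'
    rw [hφ.inj _ _ (hcode27 x i) (hcode27 y i) (by
      rw [hcode x i hx, hcode y i hy, ← hj'', e j hj])]
  have hfmul : ∀ i j, i < 8 → j < 8 → hf (hMul L i j) = hf i * hf j := by
    intro i j hi hj
    refine hfu _ (hfH _) _ (mul_mem (hfH i) (hfH j)) fun x hx => ?_
    rw [hftab _ (hLij i hi j hj).1.1 x hx, (hLij i hi j hj).1.2, getT_compT hx,
      ← hftab i hi _ ((hLi j hj).2 x hx), ← hftab j hj x hx]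
    group
  have hf0 : hf 0 = 1 := hfu _ (hfH 0) _ (one_mem H) fun x hx => by
    rw [hftab 0 (by norm_num) x hx, hL0, getT_idT hx]; group
  -- points
  let pψ := pt N ψ q
  have hψP : ∀ j, ψ j ∈ (P : Subgroup G) := hφ'.mem
  have hpt_inj : ∀ x y, x ≤ 27 → y ≤ 27 → pψ x = pψ y → x = y := by
    intro x y hx hy e
    simp only [pψ, pt] at e
    split_ifs at e with h1 h2 h3
    · rw [h1, h2]
    · exact absurd e.symm (hpne _ (hψP y))
    · exact absurd e (hpne _ (hψP x))
    · refine hφ'.inj _ _ (by omega) (by omega) ?_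
      exact congrArg Subtype.val (hbij.1 (a₁ := ⟨ψ x, hψP x⟩) (a₂ := ⟨ψ y, hψP y⟩) (Subtype.ext e))
  have hpt_surj : ∀ ω, ∃ x, x ≤ 27 ∧ pψ x = ω := by
    intro ω
    rcases eq_or_ne ω (base N) with rfl | hω
    · exact ⟨27, le_rfl, if_pos rfl⟩
    · obtain ⟨⟨p, hp⟩, hpω⟩ := hbij.2 ⟨ω, hω⟩
      obtain ⟨i, hi, rfl⟩ := hφ'.surj p hp
      exact ⟨i, hi.le, (if_neg (by omega : ¬ i = 27)).trans (congrArg Subtype.val hpω)⟩
  have hpt27 : pψ 27 = base N := if_pos rfl
  have hptlt : ∀ x, x < 27 → pψ x = ψ x • q := fun x hx => if_neg (by omega)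
  have hpt0 : pψ 0 = q := by rw [hptlt 0 (by norm_num), hφ'.one, one_smul]
  -- the involution exchanging the two points
  obtain ⟨g, hgg, hgb⟩ : ∃ g : G, g * g = 1 ∧ g • base N = q := by
    obtain ⟨t0, ht0⟩ := exists_prime_orderOf_dvd_card' (G := G) 2 (by rw [hc]; norm_num)
    obtain ⟨ω, hω⟩ : ∃ ω : G ⧸ N, t0 • ω ≠ ω := by
      by_contra h
      push Not at h
      rw [hfaith t0 h, orderOf_one] at ht0
      norm_num at ht0
    obtain ⟨c, hc'⟩ := QuotientGroup.mk_surjective ω
    have hcb : c • base N = ω := by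
      rw [base, MulAction.Quotient.smul_coe, smul_eq_mul, mul_one, hc']
    have hne : (c⁻¹ * t0 * c) • base N ≠ base N := by
      intro h
      apply hω
      rw [mul_smul, mul_smul, hcb, inv_smul_eq_iff, hcb] at h
      exact h
    obtain ⟨⟨n, hn⟩, hnq⟩ : q ∈ MulAction.orbit N ((c⁻¹ * t0 * c) • base N) := by
      have h27 := C.card_orbit h7 h6N hidx hne
      by_contra hnot
      have hsub : MulAction.orbit N ((c⁻¹ * t0 * c) • base N) ⊆ ({base N, q} : Set (G ⧸ N))ᶜ := by
        rintro ω' hω' (rfl | rfl)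
        · obtain ⟨⟨n, hn⟩, e⟩ := hω'
          apply hne
          exact MulAction.injective n ((show n • _ = base N from e).trans
            (smul_base_of_mem (⟨n, hn⟩ : N)).symm)
        · exact hnot hω'
      have hle := Set.ncard_le_ncard hsub
      rw [← Nat.card_coe_set_eq, h27, Set.ncard_compl, Set.ncard_pair (Ne.symm hq), ← index_eq_card,
        hidx] at hle
      norm_num at hle
    have ht00 : t0 * t0 = 1 := by rw [← pow_two, ← ht0, pow_orderOf_eq_one]
    refine ⟨n * (c⁻¹ * t0 * c) * n⁻¹, ?_, ?_⟩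
    · calc n * (c⁻¹ * t0 * c) * n⁻¹ * (n * (c⁻¹ * t0 * c) * n⁻¹) = n * c⁻¹ * (t0 * t0) * c * n⁻¹ := by
            group
        _ = 1 := by rw [ht00]; group
    · rw [mul_smul, mul_smul,
        (smul_base_of_mem (⟨n⁻¹, inv_mem hn⟩ : N) : (n⁻¹ : G) • base N = base N)]
      exact hnq
  have hgq : g • q = base N := by rw [← hgb, ← mul_smul, hgg, one_smul]
  have hgi : g⁻¹ = g := inv_eq_of_mul_eq_one_right hgg
  choose W hW27 hW using fun x => hpt_surj (g • pψ x)
  have hW0 : W 0 = 27 := hpt_inj _ _ (hW27 0) le_rfl (by rw [hW, hpt0, hgq, hpt27])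
  have hWi : W 27 = 0 := hpt_inj _ _ (hW27 27) (by norm_num) (by rw [hW, hpt27, hgb, hpt0])
  have hWinv : ∀ x, x ≤ 27 → W (W x) = x := fun x hx => hpt_inj _ _ (hW27 _) hx (by
    rw [hW, hW, ← mul_smul, hgg, one_smul])
  have hWrange : ∀ x, 1 ≤ x → x ≤ 26 → 1 ≤ W x ∧ W x ≤ 26 := by
    intro x h1 h2
    have h := hW27 x
    refine ⟨Nat.pos_of_ne_zero fun e => ?_, ?_⟩
    · have := hWinv x (by omega); rw [e, hW0] at this; omega
    · by_contra hgt
      have := hWinv x (by omega)
      rw [show W x = 27 by omega, hWi] at this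
      omega
  have hgH : ∀ i, ∃ j, j < 8 ∧ hf j = g * hf i * g⁻¹ := by
    intro i
    refine hfsurj _ (mem_inf.2 ⟨smul_base_iff.1 ?_, ?_⟩)
    · rw [mul_smul, mul_smul, hgi, hgb, hHq _ (hfH i), hgq]
    · show (g * hf i * g⁻¹) • q = q
      rw [mul_smul, mul_smul, hgi, hgq,
        (smul_base_of_mem (⟨_, hHN _ (hfH i)⟩ : N) : hf i • base N = base N), hgb]
  choose σ hσ8 hσ using hgH
  have hσmul : ∀ i j, i < 8 → j < 8 → σ (hMul L i j) = hMul L (σ i) (σ j) := fun i j hi hj =>
    hfinj _ _ (hσ8 _) (hLij _ (hσ8 i) _ (hσ8 j)).1.1 (by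
      rw [hσ, hfmul i j hi hj, hfmul _ _ (hσ8 i) (hσ8 j), hσ, hσ]; group)
  have hsd : ∀ i, i < 8 → (sigmaOf L (σ 1) (σ 4)).getD i 8 = σ i := by
    intro i hi
    have s0 : σ 0 = 0 := hfinj _ _ (hσ8 0) (by norm_num) (by rw [hσ, hf0]; group)
    have s2 : σ 2 = hMul L (σ 1) (σ 1) := by rw [← hσmul 1 1 (by norm_num) (by norm_num), m11]
    have s3 : σ 3 = hMul L (σ 1) (σ 2) := by rw [← hσmul 1 2 (by norm_num) (by norm_num), m12]
    have s4 : σ 4 = hMul L (σ 0) (σ 4) := by rw [← hσmul 0 4 (by norm_num) (by norm_num), m04]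
    have s5 : σ 5 = hMul L (σ 1) (σ 4) := by rw [← hσmul 1 4 (by norm_num) (by norm_num), m14]
    have s6 : σ 6 = hMul L (σ 2) (σ 4) := by rw [← hσmul 2 4 (by norm_num) (by norm_num), m24]
    have s7 : σ 7 = hMul L (σ 3) (σ 4) := by rw [← hσmul 3 4 (by norm_num) (by norm_num), m34]
    rw [s0] at s4
    simp only [sigmaOf]
    interval_cases i
    · exact s0.symm
    · rfl
    · exact s2.symm
    · rw [s3, s2]; rfl
    · exact s4.symm
    · exact s5.symm
    · rw [s6, s2]; rfl
    · rw [s7, s3, s2]; rfl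
  have hsB : sigmaB L (sigmaOf L (σ 1) (σ 4)) = true := by
    simp only [sigmaB, Bool.and_eq_true, List.all_eq_true, List.mem_range, beq_iff_eq]
    refine ⟨fun i hi => ?_, fun i hi j hj => ?_⟩
    · rw [hsd i hi, hsd _ (hσ8 i)]
      refine hfinj _ _ (hσ8 _) hi ?_
      rw [hσ, hσ]
      calc g * (g * hf i * g⁻¹) * g⁻¹ = g * g * hf i * (g * g)⁻¹ := by group
        _ = hf i := by rw [hgg]; group
    · rw [hsd i hi, hsd j hj, hsd _ (hLij i hi j hj).1.1, hσmul i j hi hj]
  have hact : ∀ i, i < 8 → ∀ y, y < 27 → hf i • pψ y = pψ (getT (L.getD i 0) y) := fun i hi y hy => by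
    rw [hptlt y hy, hptlt _ ((hLi i hi).2 y hy), ← hftab i hi y hy, hconjpt _ (hfH i) _ (hψP y)]
  have hψg : ∀ u y, y ≤ 27 → ψ u • pψ y = pψ (actC k u y) := by
    intro u y hy
    by_cases h27 : y = 27
    · subst h27
      rw [show actC k u 27 = 27 from if_pos rfl, hpt27]
      exact smul_base_of_mem (⟨_, hPN (hψP u)⟩ : N)
    · rw [show actC k u y = mulC k u y from if_neg (by simpa using h27), hptlt y (by omega),
        hptlt _ (mulC_lt _ _ _), hφ'.mul, mul_smul]
  have hWD : WData (repK r) L (sigmaOf L (σ 1) (σ 4)) W := by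
    refine ⟨hW0, hWi, hWrange, fun x h1 h2 => hWinv x (by omega), ?_, ?_⟩
    · intro i hi x h1 h2
      have hlt := (hLi i hi).2 x (by omega)
      have hne : getT (L.getD i 0) x ≠ 0 := by
        intro e
        have hh := hftab i hi x (by omega)
        rw [e, hφ'.one, conj_eq_one_iff, ← hφ'.one] at hh
        have := hφ'.inj _ _ (by omega) (by norm_num) hh
        omega
      obtain ⟨r1, r2⟩ := hWrange x h1 h2
      refine ⟨⟨Nat.pos_of_ne_zero hne, by omega⟩, hpt_inj _ _ (hW27 _) ?_ ?_⟩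
      · rw [hsd i hi]; exact ((hLi _ (hσ8 i)).2 _ (by omega)).le
      · rw [hW, ← hact i hi x (by omega), hsd i hi, ← hact _ (hσ8 i) _ (by omega), hW, hσ,
          ← mul_smul, ← mul_smul]
        congr 1
        group
    · intro u h1 h2
      set e := g * ψ (invC k (W u)) * g * ψ u * g with he
      have hWu : W u ≤ 26 := (hWrange u h1 h2).2
      have hinvψ : ψ (invC k (W u)) * ψ (W u) = 1 := by
        rw [← hφ'.mul, (invC_spec k hk2 _ (List.mem_range.2 (by omega))).1, hφ'.one]
      have heb : e • base N = base N := by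
        rw [he]
        simp only [mul_smul]
        rw [hgb, ← hptlt u (by omega), ← hW u, hptlt _ (by omega), ← mul_smul (ψ _) (ψ _), hinvψ,
          one_smul, hgq]
      obtain ⟨a0, ha0, ha0'⟩ := hpt_surj (e • q)
      have ha27 : a0 < 27 := by
        refine lt_of_le_of_ne ha0 fun h => hq ?_
        rw [h, hpt27] at ha0'
        exact MulAction.injective e (ha0'.symm.trans heb.symm)
      have hm' : (ψ a0)⁻¹ * e ∈ H := by
        refine mem_inf.2 ⟨mul_mem (inv_mem (hPN (hψP a0))) (smul_base_iff.1 heb), ?_⟩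
        show ((ψ a0)⁻¹ * e) • q = q
        rw [mul_smul, inv_smul_eq_iff, ← ha0', hptlt a0 ha27]
      obtain ⟨i, hi, hie⟩ := hfsurj _ hm'
      have hee : e = ψ a0 * hf i := by rw [hie, mul_inv_cancel_left]
      refine ⟨L.getD i 0, hLd i hi, ?_⟩
      have hprod : ∀ x, x < 27 → prodC k W u x = mulC k a0 (getT (L.getD i 0) x) := by
        intro x hx
        refine hpt_inj _ _ (hW27 _) (mulC_lt _ _ _).le ?_
        have h1' : e • pψ x = pψ (mulC k a0 (getT (L.getD i 0) x)) := by
          rw [hee, mul_smul, hact i hi x hx, hψg a0 _ ((hLi i hi).2 x hx).le]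
          congr 1
          have := (hLi i hi).2 x hx
          unfold actC
          rw [if_neg (by simp only [beq_iff_eq]; omega)]
        rw [← h1', he]
        simp only [prodC, mul_smul]
        rw [hW, ← hψg _ _ (hW27 _), hW, ← hψg _ _ (hW27 x), hW]
      intro x hx
      rw [hrk, hprod x hx, hprod 0 (by norm_num), (hLi i hi).1.2,
        mulC_zero_right k hk2 a0 (List.mem_range.2 ha27)]
  obtain ⟨rfl, hWcase⟩ := search_sound hr (hσ8 1) (hσ8 4) hsB hWD
  have hk1 : k = 1 := hrk.symm.trans rfl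
  obtain ⟨g', hg'⟩ : ∃ g' : G, ∀ x, x ≤ 27 → g' • pψ x = pψ (getT wA x) := by
    rcases hWcase with h | h
    · exact ⟨g, fun x hx => by rw [← h x hx, hW]⟩
    · obtain ⟨l, hl, hlw⟩ := wB_wA
      rw [List.mem_range] at hl
      refine ⟨g * hf l, fun x hx => ?_⟩
      have hz := hlw x (List.mem_range.2 (by omega))
      rw [mul_smul, ← hz]
      by_cases h27 : x = 27
      · subst h27
        rw [if_pos rfl, ← h 27 le_rfl, hW, hpt27,
          (smul_base_of_mem (⟨_, hHN _ (hfH l)⟩ : N) : hf l • base N = base N)]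
      · rw [if_neg h27, hact l hl x (by omega),
          ← h _ ((hLi l hl).2 x (by omega)).le, hW]
  exact ⟨{ P := P
           φ := ψ
           h := hf
           g := g'
           q := q
           coord := hk1 ▸ hφ'
           cardN := hN216
           hmem := fun i _ => ⟨hHN _ (hfH i), hHq _ (hfH i)⟩
           hsurj := fun x hx hxq => hfsurj x (mem_inf.2 ⟨hx, hxq⟩)
           htab := fun i hi x hx => hftab i hi x hx
           ptInj := hpt_inj
           ptSurj := hpt_surj
           gW := hg' }⟩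

end Cfsg.Agent.Compute.G22
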