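import Cfsg.Agent.Compute.G22.Frame
import Cfsg.Agent.Compute.G22.AutCheck

/-!
The identification of a simple group of order `6048` with a fixed permutation group, and the bound
on its automorphism group.
-/

set_option autoImplicit false
set_option maxHeartbeats 1000000

namespace Cfsg.Agent.Compute.G22

open Cfsg Subgroup

/-- The generating permutations. -/
def IsGen (π : Equiv.Perm (Fin 28)) : Prop :=
  (∃ a, a < 27 ∧ ∀ j : Fin 28, ((π j : Fin 28) : ℕ) = actC 1 a (j : ℕ)) ∨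
    (∃ i, i < 8 ∧ ∀ j : Fin 28, ((π j : Fin 28) : ℕ) =
      if (j : ℕ) = 27 then 27 else getT ((reps.getD 7 []).getD i 0) (j : ℕ)) ∨
    ∀ j : Fin 28, ((π j : Fin 28) : ℕ) = getT wA (j : ℕ)

/-- The fixed permutation group. -/
def W0 : Subgroup (Equiv.Perm (Fin 28)) := closure {π | IsGen π}

theorem table_facts : (∀ i ∈ List.range 8, ∀ x ∈ List.range 27,
      getT ((reps.getD 7 []).getD i 0) x < 27) ∧
    (∀ x ∈ List.range 28, getT wA x < 28) ∧ getT wA 27 = 0 ∧ getT wA 0 = 27 ∧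
      commC 9 3 = 1 ∧ (∀ i ∈ List.range 27, mulC 1 i 0 = i) ∧
      (reps.getD 7 []).length = 8 := by
  decide +kernel

namespace Frame

variable {G : Type*} [Group G] [Fintype G] (F : Frame G)

/-- The normalizer. -/
abbrev NN : Subgroup G := normalizer ((F.P : Subgroup G) : Set G)

/-- The points. -/
abbrev pp (x : ℕ) : G ⧸ F.NN := pt F.NN F.φ F.q x

theorem pp_last : F.pp 27 = base F.NN := if_pos rfl

theorem pp_lt {x : ℕ} (h : x < 27) : F.pp x = F.φ x • F.q := if_neg (by omega)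

theorem gpp (x : ℕ) (hx : x ≤ 27) : F.g • F.pp x = F.pp (getT wA x) := F.gW x hx

theorem pp_zero : F.pp 0 = F.q := by rw [F.pp_lt (by norm_num), F.coord.one, one_smul]

theorem phi_mem (x : ℕ) : F.φ x ∈ F.NN := le_normalizer (F.coord.mem x)

theorem g_base : F.g • base F.NN = F.q := by
  rw [← F.pp_last, ← F.pp_zero]
  rw [F.gpp 27 le_rfl, table_facts.2.2.1]

theorem g_q : F.g • F.q = base F.NN := by
  rw [← F.pp_zero, F.gpp 0 (by norm_num), table_facts.2.2.2.1, F.pp_last]

theorem act_translation {a x : ℕ} (hx : x ≤ 27) : F.φ a • F.pp x = F.pp (actC 1 a x) := by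
  unfold actC
  by_cases h : x = 27
  · subst h
    rw [if_pos (by simp), F.pp_last]
    exact smul_base_of_mem (⟨_, F.phi_mem a⟩ : F.NN)
  · rw [if_neg (by simpa using h), F.pp_lt (by omega), F.pp_lt (mulC_lt _ _ _), F.coord.mul, mul_smul]

theorem act_stab {i x : ℕ} (hi : i < 8) (hx : x ≤ 27) :
    F.h i • F.pp x = F.pp (if x = 27 then 27 else getT ((reps.getD 7 []).getD i 0) x) := by
  obtain ⟨hN, hq⟩ := F.hmem i hi
  by_cases h : x = 27
  · subst h
    rw [if_pos rfl, F.pp_last]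
    exact smul_base_of_mem (⟨_, hN⟩ : F.NN)
  · have hlt := table_facts.1 i (List.mem_range.2 hi) x (List.mem_range.2 (by omega))
    rw [if_neg h, F.pp_lt (by omega), F.pp_lt hlt, ← F.htab i hi x (by omega), mul_smul, mul_smul,
      inv_smul_eq_iff.2 hq.symm]

theorem mem_gens_of_stab {x : G} (hx : x • base F.NN = base F.NN) :
    x ∈ closure (Set.range F.φ ∪ F.h '' {i | i < 8} ∪ {F.g}) := by
  have hxN : x ∈ F.NN := smul_base_iff.1 hx
  obtain ⟨a, ha, ha'⟩ := F.ptSurj (x • F.q)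
  have hne : a ≠ 27 := by
    rintro rfl
    have h0 : x • F.pp 0 = x • F.pp 27 := by
      rw [F.pp_zero, ← ha', F.pp_last, hx]; exact F.pp_last
    have := F.ptInj 0 27 (by norm_num) le_rfl (MulAction.injective x h0)
    omega
  have ha27 : a < 27 := by omega
  obtain ⟨i, hi, hie⟩ := F.hsurj ((F.φ a)⁻¹ * x) (mul_mem (inv_mem (F.phi_mem a)) hxN) (by
    rw [mul_smul, inv_smul_eq_iff, ← ha', ← F.pp_lt ha27])
  rw [show x = F.φ a * F.h i by rw [hie, mul_inv_cancel_left]]
  exact mul_mem (subset_closure (Or.inl (Or.inl ⟨a, rfl⟩)))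
    (subset_closure (Or.inl (Or.inr ⟨i, hi, rfl⟩)))

theorem closure_gens : closure (Set.range F.φ ∪ F.h '' {i | i < 8} ∪ {F.g}) = ⊤ := by
  rw [eq_top_iff]
  intro x _
  obtain ⟨a, ha, ha'⟩ := F.ptSurj (x • base F.NN)
  rcases eq_or_lt_of_le ha with rfl | ha27
  · exact F.mem_gens_of_stab (ha'.symm.trans F.pp_last)
  · have hm := F.mem_gens_of_stab (x := (F.φ a * F.g)⁻¹ * x) (by
      rw [mul_smul, inv_smul_eq_iff, mul_smul, F.g_base, ← ha', ← F.pp_lt ha27])
    rw [show x = F.φ a * F.g * ((F.φ a * F.g)⁻¹ * x) by rw [mul_inv_cancel_left]]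
    exact mul_mem (mul_mem (subset_closure (Or.inl (Or.inl ⟨a, rfl⟩)))
      (subset_closure (Or.inr rfl))) hm

theorem normalizer_ne_top (hc : Nat.card G = 6048) : F.NN ≠ ⊤ := fun h => by
  have := F.cardN
  rw [show normalizer ((F.P : Subgroup G) : Set G) = ⊤ from h, Subgroup.card_top, hc] at this
  norm_num at this

include F in
/-- The isomorphism with the fixed group. -/
theorem nonempty_equiv [IsSimpleGroup G] (hc : Nat.card G = 6048) : Nonempty (G ≃* W0) := by
  have hb : Function.Bijective (fun j : Fin 28 => F.pp j) :=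
    ⟨fun i j h => Fin.ext (F.ptInj _ _ (by omega) (by omega) h), fun ω => by
      obtain ⟨x, hx, h⟩ := F.ptSurj ω
      exact ⟨⟨x, by omega⟩, h⟩⟩
  let e := Equiv.ofBijective _ hb
  let img : G →* Equiv.Perm (Fin 28) :=
    e.symm.permCongrHom.toMonoidHom.comp (MulAction.toPermHom G (G ⧸ F.NN))
  have himg : ∀ x j, img x j = e.symm (x • F.pp (j : Fin 28)) := fun x j => rfl
  have heq : ∀ {x : G} {j : Fin 28} {c : ℕ}, c < 28 → x • F.pp j = F.pp c →
      ((img x j : Fin 28) : ℕ) = c := by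
    intro x j c hc' h
    rw [himg, h, show F.pp c = e ⟨c, hc'⟩ from rfl, e.symm_apply_apply]
  have hgen : ∀ a, a < 27 → ∀ j : Fin 28, ((img (F.φ a) j : Fin 28) : ℕ) = actC 1 a j :=
    fun a _ j => heq (Nat.lt_succ_of_le (by
      unfold actC; split
      · omega
      · exact (mulC_lt _ _ _).le)) (F.act_translation (by omega))
  have hgen2 : ∀ i, i < 8 → ∀ j : Fin 28, ((img (F.h i) j : Fin 28) : ℕ) =
      if (j : ℕ) = 27 then 27 else getT ((reps.getD 7 []).getD i 0) (j : ℕ) := fun i hi j =>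
    heq (by
      split
      · norm_num
      · have := table_facts.1 i (List.mem_range.2 hi) j (List.mem_range.2 (by omega)); omega)
      (F.act_stab hi (by omega))
  have hgen3 : ∀ j : Fin 28, ((img F.g j : Fin 28) : ℕ) = getT wA j := fun j =>
    heq (table_facts.2.1 j (List.mem_range.2 j.2)) (F.gpp j (by omega))
  have hrange : img.range = W0 := by
    rw [MonoidHom.range_eq_map, ← F.closure_gens, MonoidHom.map_closure, W0]
    congr 1
    ext π
    constructor
    · rintro ⟨x, ((⟨a, rfl⟩ | ⟨i, hi, rfl⟩) | hx), rfl⟩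
      · obtain ⟨a', ha', hae⟩ := F.coord.surj _ (F.coord.mem a)
        exact Or.inl ⟨a', ha', hae ▸ hgen a' ha'⟩
      · exact Or.inr (Or.inl ⟨i, hi, hgen2 i hi⟩)
      · rw [Set.mem_singleton_iff.1 hx]; exact Or.inr (Or.inr hgen3)
    · rintro (⟨a, ha, hπ⟩ | ⟨i, hi, hπ⟩ | hπ)
      · exact ⟨F.φ a, Or.inl (Or.inl ⟨a, rfl⟩),
          Equiv.ext fun j => Fin.ext ((hgen a ha j).trans (hπ j).symm)⟩
      · exact ⟨F.h i, Or.inl (Or.inr ⟨i, hi, rfl⟩),
          Equiv.ext fun j => Fin.ext ((hgen2 i hi j).trans (hπ j).symm)⟩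
      · exact ⟨F.g, Or.inr rfl, Equiv.ext fun j => Fin.ext ((hgen3 j).trans (hπ j).symm)⟩
  have hinj : Function.Injective img :=
    e.symm.permCongrHom.injective.comp (H36.toPermHom_injective (F.normalizer_ne_top hc))
  exact ⟨(MonoidHom.ofInjective hinj).trans (MulEquiv.subgroupCongr hrange)⟩

theorem stab_image {β : MulAut G} (hP : ∀ p ∈ (F.P : Subgroup G), β p ∈ (F.P : Subgroup G)) :
    (∀ p ∈ (F.P : Subgroup G), ∃ p' ∈ (F.P : Subgroup G), β p' = p) ∧
      ∀ x, x ∈ F.NN ↔ β x ∈ F.NN := by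
  have hPb : Function.Bijective
      (fun p : (F.P : Subgroup G) => (⟨β p, hP p p.2⟩ : (F.P : Subgroup G))) :=
    Finite.injective_iff_bijective.1 fun a b h =>
      Subtype.ext (β.injective (congrArg Subtype.val h))
  have honto : ∀ p ∈ (F.P : Subgroup G), ∃ p' ∈ (F.P : Subgroup G), β p' = p := fun p hp => by
    obtain ⟨⟨p', hp'⟩, e⟩ := hPb.2 ⟨p, hp⟩
    exact ⟨p', hp', congrArg Subtype.val e⟩
  have hfw : ∀ x ∈ F.NN, β x ∈ F.NN := by
    intro x hx
    refine mem_normalizer_fintype fun p hp => ?_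
    obtain ⟨p', hp', rfl⟩ := honto p hp
    rw [← map_inv, ← map_mul, ← map_mul]
    exact hP _ ((mem_normalizer_iff.1 hx p').1 hp')
  refine ⟨honto, fun x => ⟨hfw x, fun h => ?_⟩⟩
  have hb : Function.Bijective (fun y : F.NN => (⟨β y, hfw y y.2⟩ : F.NN)) :=
    Finite.injective_iff_bijective.1 fun a b h =>
      Subtype.ext (β.injective (congrArg Subtype.val h))
  obtain ⟨⟨y, hy⟩, e⟩ := hb.2 ⟨β x, h⟩
  rwa [← β.injective (congrArg Subtype.val e)]

variable [IsSimpleGroup G]

/-- The automorphisms fixing the two points are determined by a pair from a short list. -/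
theorem stab_two (hc : Nat.card G = 6048) {y0 : G} (hy0 : y0 • base F.NN = F.q) (β : MulAut G)
    (hP : ∀ p ∈ (F.P : Subgroup G), β p ∈ (F.P : Subgroup G)) (hβy : β y0 • base F.NN = F.q) :
    ∃ X Y : ℕ, (X, Y) ∈ autList ∧ F.φ X = β (F.φ 9) ∧ F.φ Y = β (F.φ 3) ∧ ∀ γ : MulAut G,
      (∀ p ∈ (F.P : Subgroup G), γ p ∈ (F.P : Subgroup G)) → γ y0 • base F.NN = F.q →
      γ (F.φ 9) = β (F.φ 9) → γ (F.φ 3) = β (F.φ 3) → γ = β := by
  classical
  have hP3 : ∀ p ∈ (F.P : Subgroup G), p ^ 3 = 1 := by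
    intro p hp
    obtain ⟨i, hi, rfl⟩ := F.coord.surj p hp
    rw [← F.coord.map_powC, (by decide +kernel : ∀ i ∈ List.range 27, powC 1 i 3 = 0) i
      (List.mem_range.2 hi), F.coord.one]
  obtain ⟨honto, hNiff⟩ := F.stab_image hP
  obtain ⟨cx, cy, cw, h1, h2, h3, e9, e3, e1, hend⟩ :=
    F.coord.exists_endC hP3 β.toMonoidHom hP
  simp only [MulEquiv.coe_toMonoidHom] at e9 e3 e1 hend
  have hcomm : ∀ x y, x < 27 → y < 27 →
      F.φ (commC x y) = (F.φ x)⁻¹ * (F.φ y)⁻¹ * F.φ x * F.φ y := by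
    intro x y hx hy
    have hi : ∀ c, c < 27 → F.φ (invC 1 c) = (F.φ c)⁻¹ := fun c hc' =>
      eq_inv_of_mul_eq_one_left (by
        rw [← F.coord.mul, (invC_spec 1 (by decide) c (List.mem_range.2 hc')).1, F.coord.one])
    rw [commC, F.coord.mul, F.coord.mul, F.coord.mul, hi x hx, hi y hy]
  have hw : cw = commC cx cy := by
    refine F.coord.inj _ _ h3 (mulC_lt _ _ _) ?_
    rw [hcomm cx cy h1 h2, e1, ← table_facts.2.2.2.2.1, hcomm 9 3 (by norm_num) (by norm_num)]
    simp only [map_mul, map_inv, e9, e3]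
  subst hw
  let pi : G ⧸ F.NN → G ⧸ F.NN := fun ω => β ω.out • base F.NN
  have hpi_mk : ∀ x : G, pi (x • base F.NN) = β x • base F.NN := by
    intro x
    show β ((x • base F.NN : G ⧸ F.NN)).out • base F.NN = _
    have hxe : x • base F.NN = ((x : G) : G ⧸ F.NN) := by
      rw [base, MulAction.Quotient.smul_coe, smul_eq_mul, mul_one]
    rw [hxe]
    obtain ⟨⟨n, hn⟩, e⟩ := QuotientGroup.mk_out_eq_mul F.NN x
    rw [e, map_mul, mul_smul, smul_base_iff.2 ((hNiff n).1 hn)]
  have hpi_smul : ∀ (x : G) (ω : G ⧸ F.NN), pi (x • ω) = β x • pi ω := by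
    intro x ω
    obtain ⟨c, rfl⟩ := QuotientGroup.mk_surjective ω
    have hce : ((c : G) : G ⧸ F.NN) = c • base F.NN := by
      rw [base, MulAction.Quotient.smul_coe, smul_eq_mul, mul_one]
    rw [hce, ← mul_smul, hpi_mk, hpi_mk, map_mul, mul_smul]
  have hpi_base : pi (base F.NN) = base F.NN := by
    have := hpi_mk 1
    rwa [one_smul, map_one, one_smul] at this
  have hpi_q : pi F.q = F.q := by rw [← hy0, hpi_mk, hβy, hy0]
  have hpi_pt : ∀ x, x < 27 → pi (F.pp x) = F.pp (endC 1 cx cy (commC cx cy) x) := fun x hx => by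
    rw [F.pp_lt hx, F.pp_lt (endC_lt _ _ _ _ _), hpi_smul, hpi_q, hend]
  have hstab : ∀ i, i < 8 → ∃ j, j < 8 ∧ F.h j = β (F.h i) := by
    intro i hi
    obtain ⟨hN, hq⟩ := F.hmem i hi
    refine F.hsurj _ ((hNiff _).1 hN) ?_
    rw [← hpi_q, ← hpi_smul, hq]
  have hL : ∀ T ∈ reps.getD 7 [], ∃ i, i < 8 ∧ (reps.getD 7 []).getD i 0 = T := by
    intro T hT
    obtain ⟨i, hi, rfl⟩ := List.mem_iff_getElem.1 hT
    exact ⟨i, table_facts.2.2.2.2.2.2 ▸ hi, List.getD_eq_getElem _ _ hi⟩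
  have hLm : ∀ i, i < 8 → (reps.getD 7 []).getD i 0 ∈ reps.getD 7 [] := fun i hi => by
    rw [List.getD_eq_getElem (l := reps.getD 7 []) (n := i) 0 (table_facts.2.2.2.2.2.2.symm ▸ hi)]
    exact List.getElem_mem _
  have haut : autB cx cy = true := by
    simp only [autB, Bool.and_eq_true, List.all_eq_true, List.any_eq_true, beq_iff_eq,
      List.mem_range]
    refine ⟨⟨?_, ?_⟩, ?_⟩
    · simp only [kerB, List.all_eq_true, List.mem_range, bne_iff_ne, ne_eq]
      intro i hi h0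
      have := hend (i + 1)
      rw [h0, F.coord.one, map_eq_one_iff _ β.injective, ← F.coord.one] at this
      have := F.coord.inj _ _ (by omega) (by norm_num) this
      omega
    · intro T hT
      obtain ⟨i, hi, rfl⟩ := hL T hT
      obtain ⟨j, hj, hje⟩ := hstab i hi
      refine ⟨_, hLm j hj, packT_congr fun x hx => congrArg (· % 32) ?_⟩
      have hlt := table_facts.1 i (List.mem_range.2 hi) x (List.mem_range.2 hx)
      rw [getT_endT hlt, getT_endT hx]
      refine F.coord.inj _ _ (endC_lt _ _ _ _ _)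
        (table_facts.1 j (List.mem_range.2 hj) _ (List.mem_range.2 (endC_lt _ _ _ _ _))) ?_
      rw [← hend, ← F.htab i hi x hx, ← F.htab j hj _ (endC_lt _ _ _ _ _), ← hend, hje]
      simp only [map_mul, map_inv]
    · obtain ⟨j, hj, hje⟩ := F.hsurj (F.g⁻¹ * β F.g) (by
        refine smul_base_iff.1 ?_
        have h := hpi_smul F.g (base F.NN)
        rw [F.g_base, hpi_q, hpi_base] at h
        rw [mul_smul, ← h, inv_smul_eq_iff, F.g_base]) (by
        have h := hpi_smul F.g F.q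
        rw [F.g_q, hpi_q, hpi_base] at h
        rw [mul_smul, ← h, inv_smul_eq_iff, F.g_q])
      refine ⟨_, hLm j hj, fun x hx => ?_⟩
      have hw1 : getT wA (x + 1) < 27 := by
        refine lt_of_le_of_ne (Nat.lt_succ_iff.1 (table_facts.2.1 _ (List.mem_range.2 (by omega))))
          fun e => ?_
        have h := F.gpp (x + 1) (by omega)
        rw [e, F.pp_last, ← F.g_q] at h
        have := F.ptInj (x + 1) 0 (by omega) (by norm_num) ((MulAction.injective F.g h).trans F.pp_zero.symm)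
        omega
      rw [getT_endT hw1, getT_endT (by omega)]
      have hlt := table_facts.1 j (List.mem_range.2 hj) _ (List.mem_range.2
        (endC_lt 1 cx cy (commC cx cy) (x + 1)))
      refine F.ptInj _ _ (endC_lt _ _ _ _ _).le
        (Nat.lt_succ_iff.1 (table_facts.2.1 _ (List.mem_range.2 (by omega)))) ?_
      show F.pp _ = F.pp _
      rw [← hpi_pt _ hw1, ← F.gpp _ (by omega), hpi_smul, hpi_pt _ (by omega),
        show β F.g = F.g * F.h j by rw [hje, mul_inv_cancel_left], mul_smul,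
        F.act_stab hj (endC_lt _ _ _ _ _).le, if_neg (endC_lt _ _ _ _ _).ne, F.gpp _ hlt.le]
  refine ⟨cx, cy, ?_, e9, e3, fun γ hγP hγy e9' e3' => ?_⟩
  · exact List.mem_filter.2 ⟨List.mem_flatMap.2 ⟨cx, List.mem_range.2 h1,
      List.mem_map.2 ⟨cy, List.mem_range.2 h2, rfl⟩⟩, haut⟩
  -- determination
  have hP' : ∀ p ∈ (F.P : Subgroup G), γ p = β p := by
    have e1' : γ (F.φ 1) = β (F.φ 1) := by
      rw [← table_facts.2.2.2.2.1, hcomm 9 3 (by norm_num) (by norm_num)]
      simp only [map_mul, map_inv, e9', e3']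
    intro p hp
    obtain ⟨i, hi, rfl⟩ := F.coord.surj p hp
    rw [F.coord.eq_elem i, elem]
    simp only [map_mul, map_pow, e9', e3', e1']
  obtain ⟨-, hγN⟩ := F.stab_image hγP
  let pi' : G ⧸ F.NN → G ⧸ F.NN := fun ω => γ ω.out • base F.NN
  have hpi'_mk : ∀ x : G, pi' (x • base F.NN) = γ x • base F.NN := by
    intro x
    show γ ((x • base F.NN : G ⧸ F.NN)).out • base F.NN = _
    have hxe : x • base F.NN = ((x : G) : G ⧸ F.NN) := by
      rw [base, MulAction.Quotient.smul_coe, smul_eq_mul, mul_one]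
    rw [hxe]
    obtain ⟨⟨n, hn⟩, e⟩ := QuotientGroup.mk_out_eq_mul F.NN x
    rw [e, map_mul, mul_smul, smul_base_iff.2 ((hγN n).1 hn)]
  have hsame : ∀ ω, pi' ω = pi ω := by
    intro ω
    obtain ⟨x, hx, rfl⟩ := F.ptSurj ω
    rcases eq_or_lt_of_le hx with rfl | hx'
    · rw [show pt F.NN F.φ F.q 27 = base F.NN from F.pp_last, hpi_base]
      have := hpi'_mk 1
      rwa [one_smul, map_one, one_smul] at this
    · rw [show pt F.NN F.φ F.q x = (F.φ x * y0) • base F.NN by
        rw [mul_smul, hy0]; exact F.pp_lt hx', hpi'_mk, hpi_mk, map_mul, map_mul, mul_smul,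
        mul_smul, hγy, hβy, hP' _ (F.coord.mem x)]
  refine MulEquiv.ext fun x => ?_
  have hfaith : Function.Injective (MulAction.toPermHom G (G ⧸ F.NN)) :=
    H36.toPermHom_injective (F.normalizer_ne_top hc)
  refine hfaith (Equiv.ext fun ω => ?_)
  show γ x • ω = β x • ω
  obtain ⟨c, rfl⟩ := QuotientGroup.mk_surjective ω
  have hce : ((c : G) : G ⧸ F.NN) = c • base F.NN := by
    rw [base, MulAction.Quotient.smul_coe, smul_eq_mul, mul_one]
  rw [hce]
  obtain ⟨c', hc'⟩ := γ.surjective c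
  have hcβ : c • base F.NN = β c' • base F.NN := by
    rw [← hc', ← hpi'_mk, hsame, hpi_mk]
  conv_lhs => rw [← hc']
  conv_rhs => rw [hcβ]
  rw [← mul_smul, ← mul_smul, ← map_mul, ← map_mul, ← hpi'_mk, hsame, hpi_mk]

include F in
/-- The automorphism group has order at most `12096`. -/
theorem card_mulAut_le (hc : Nat.card G = 6048) : Nat.card (MulAut G) ≤ 12096 := by
  classical
  haveI := Fact.mk Nat.prime_three
  obtain ⟨y0, hy0⟩ := QuotientGroup.mk_surjective F.q
  have hy0' : y0 • base F.NN = F.q := by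
    rw [base, MulAction.Quotient.smul_coe, smul_eq_mul, mul_one, hy0]
  have hc27 := card_sylow_three hc F.P
  have h1 : ∀ α : MulAut G, ∃ c : G ⧸ F.NN,
      ∀ p ∈ (F.P : Subgroup G), ((MulAut.conj c.out)⁻¹ * α) p ∈ (F.P : Subgroup G) := by
    intro α
    set K := (F.P : Subgroup G).map α.toMonoidHom with hK
    have hKc : Nat.card K = 27 := by
      rw [hK, card_map_of_injective (f := α.toMonoidHom) α.injective, hc27]
    obtain ⟨R, hR⟩ : ∃ R : Sylow 3 G, K ≤ (R : Subgroup G) :=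
      (IsPGroup.of_card (n := 3) (by rw [hKc]; norm_num)).exists_le_sylow
    obtain ⟨x, hx⟩ := MulAction.exists_smul_eq G F.P R
    refine ⟨(x : G ⧸ F.NN), fun p hp => ?_⟩
    obtain ⟨⟨n, hn⟩, e⟩ := QuotientGroup.mk_out_eq_mul F.NN x
    have hm : α p ∈ (R : Subgroup G) := hR ⟨p, hp, rfl⟩
    rw [← hx, Sylow.coe_subgroup_smul] at hm
    obtain ⟨r, hr, hre⟩ := hm
    have hre' : x * r * x⁻¹ = α p := hre
    rw [MulAut.mul_apply, e]
    have : (MulAut.conj (x * n))⁻¹ (α p) = n⁻¹ * r * n⁻¹⁻¹ := by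
      rw [MulAut.inv_def, MulAut.conj_symm_apply, ← hre']; group
    rw [this]
    exact (mem_normalizer_iff.1 (inv_mem hn) r).1 hr
  choose cc hcc using h1
  have h2 : ∀ α : MulAut G, ∃ a : Fin 27,
      (∀ p ∈ (F.P : Subgroup G),
        ((MulAut.conj (F.φ a))⁻¹ * ((MulAut.conj (cc α).out)⁻¹ * α)) p ∈ (F.P : Subgroup G)) ∧
      ((MulAut.conj (F.φ a))⁻¹ * ((MulAut.conj (cc α).out)⁻¹ * α)) y0 • base F.NN = F.q := by
    intro α
    set β := (MulAut.conj (cc α).out)⁻¹ * α
    obtain ⟨-, hiff⟩ := F.stab_image (hcc α)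
    obtain ⟨a, ha, ha'⟩ := F.ptSurj (β y0 • base F.NN)
    have ha27 : a < 27 := by
      refine lt_of_le_of_ne ha fun e => ?_
      rw [e] at ha'
      have hb : β y0 ∈ F.NN := smul_base_iff.1 (ha'.symm.trans F.pp_last)
      have := F.ptInj 0 27 (by norm_num) le_rfl (by
        show F.pp 0 = F.pp 27
        rw [F.pp_zero, F.pp_last, ← hy0', smul_base_iff.2 ((hiff y0).2 hb)])
      omega
    refine ⟨⟨a, ha27⟩, fun p hp => ?_, ?_⟩
    · show (MulAut.conj (F.φ a))⁻¹ (β p) ∈ (F.P : Subgroup G)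
      rw [MulAut.inv_def, MulAut.conj_symm_apply]
      exact mul_mem (mul_mem (inv_mem (F.coord.mem a)) (hcc α p hp)) (F.coord.mem a)
    · show (MulAut.conj (F.φ a))⁻¹ (β y0) • base F.NN = F.q
      rw [MulAut.inv_def, MulAut.conj_symm_apply, mul_smul, mul_smul,
        smul_base_iff.2 (F.phi_mem a), inv_smul_eq_iff, ← F.pp_lt ha27]
      exact ha'.symm
  choose aa haP haq using h2
  have h3 : ∀ α : MulAut G, ∃ e : {p : ℕ × ℕ // p ∈ autList},
      let β := (MulAut.conj (F.φ (aa α)))⁻¹ * ((MulAut.conj (cc α).out)⁻¹ * α)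
      F.φ e.1.1 = β (F.φ 9) ∧ F.φ e.1.2 = β (F.φ 3) := by
    intro α
    obtain ⟨X, Y, hXY, hX, hY, -⟩ := F.stab_two hc hy0' _ (haP α) (haq α)
    exact ⟨⟨(X, Y), hXY⟩, hX, hY⟩
  choose ee hee using h3
  have hinj : Function.Injective fun α : MulAut G => (cc α, aa α, ee α) := by
    intro α α' h
    simp only [Prod.mk.injEq] at h
    obtain ⟨hC, hA, hE⟩ := h
    obtain ⟨X, Y, -, -, -, hdet⟩ := F.stab_two hc hy0' _ (haP α) (haq α)
    have h9 := (hee α).1
    have h3 := (hee α).2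
    have h9' := (hee α').1
    have h3' := (hee α').2
    rw [hE] at h9 h3
    rw [h9] at h9'
    rw [h3] at h3'
    have h := hdet _ (haP α') (haq α') h9'.symm h3'.symm
    rw [hC, hA] at h
    exact (mul_left_cancel (mul_left_cancel h)).symm
  have hle := Nat.card_le_card_of_injective _ hinj
  rw [Nat.card_prod, Nat.card_prod, Nat.card_fin] at hle
  have hq : Nat.card (G ⧸ F.NN) = 28 := by
    have h := F.NN.card_mul_index
    rw [← Subgroup.index_eq_card]
    rw [show Nat.card F.NN = 216 from F.cardN, hc] at h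
    omega
  have he : Nat.card {p : ℕ × ℕ // p ∈ autList} ≤ 16 := by
    rw [Nat.card_eq_fintype_card, Fintype.card_of_subtype autList.toFinset (by simp)]
    exact (List.toFinset_card_le _).trans autList_length
  haveI : Finite {p : ℕ × ℕ // p ∈ autList} := Finite.of_fintype _
  calc Nat.card (MulAut G) ≤ _ := hle
    _ ≤ 28 * (27 * 16) := by rw [hq]; gcongr
    _ = 12096 := rfl

end Frame

end Cfsg.Agent.Compute.G22
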