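import Cfsg.Agent.Compute.G22.Cosets

/-!
The action on the cosets of a subgroup of index `28` fixing no vector of `χ6` is doubly transitive.
-/

set_option autoImplicit false

namespace Cfsg.Agent.Compute.G22

open Cfsg Subgroup MulAction Cfsg.Agent.BlockBasic Cfsg.Agent.CharBasic Cfsg.Agent.H35

variable {G : Type*} [Group G] [Fintype G]

/-- The base point. -/
abbrev base (K : Subgroup G) : G ⧸ K := ((1 : G) : G ⧸ K)

theorem smul_base_iff {K : Subgroup G} {g : G} : g • base K = base K ↔ g ∈ K := by
  rw [base, MulAction.Quotient.smul_coe, smul_eq_mul, mul_one, QuotientGroup.eq]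
  simp

theorem smul_base_of_mem {K : Subgroup G} (k : K) : (k : G) • base K = base K :=
  smul_base_iff.2 k.2

namespace Chars

variable (C : Chars G) {K : Subgroup G} (hK : ¬ 7 ∣ Nat.card K)
  (h6 : fixDim (C.χ6 : G → ℂ) K = 0) (hidx : K.index = 28)

include hK h6 hidx

/-- Every involution fixes four cosets. -/
theorem fixed_invol {t : G} (ht : orderOf t = 2) :
    Nat.card (MulAction.fixedBy (G ⧸ K) t) = 4 := by
  have h := ((C.index_ge hK h6).2 hidx.le).2 t
  rw [C.val27 t ht] at h
  have h' : (permChar K t : ℂ) = ((4 : ℕ) : ℂ) := by rw [h]; norm_num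
  exact_mod_cast h'

/-- `K` is transitive on the other `27` cosets. -/
theorem card_orbit {q : G ⧸ K} (hq : q ≠ base K) : Nat.card (MulAction.orbit K q) = 27 := by
  classical
  obtain ⟨h27, hperm⟩ := (C.index_ge hK h6).2 hidx.le
  have hfix : ∀ k : K, (Fintype.card (MulAction.fixedBy (G ⧸ K) k) : ℂ) =
      1 + (C.χ27 : G → ℂ) (k : G) := fun k => by
    rw [← hperm, permChar, Nat.card_eq_fintype_card]
    norm_cast
  have horb : Fintype.card (Quotient (MulAction.orbitRel K (G ⧸ K))) = 2 := by
    have h := MulAction.sum_card_fixedBy_eq_card_orbits_mul_card_group K (G ⧸ K)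
    have h' : ((∑ k : K, Fintype.card (MulAction.fixedBy (G ⧸ K) k) : ℕ) : ℂ) =
        (Nat.card K : ℂ) * 2 := by
      push_cast
      rw [Finset.sum_congr rfl fun k _ => hfix k, Finset.sum_add_distrib, Finset.sum_const,
        Finset.card_univ, nsmul_eq_mul, mul_one, ← Nat.card_eq_fintype_card]
      rw [fixDim_eq, inv_mul_eq_iff_eq_mul₀ (Nat.cast_ne_zero.2 Nat.card_pos.ne'), mul_one] at h27
      rw [h27]
      ring
    rw [h, ← Nat.card_eq_fintype_card (α := K)] at h'
    have h'' : Fintype.card (Quotient (MulAction.orbitRel K (G ⧸ K))) * Nat.card K =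
        Nat.card K * 2 := by exact_mod_cast h'
    rw [mul_comm] at h''
    exact Nat.eq_of_mul_eq_mul_left Nat.card_pos h''
  have hb : MulAction.orbit K (base K) = {base K} :=
    Set.eq_singleton_iff_unique_mem.2 ⟨MulAction.mem_orbit_self _, by
      rintro _ ⟨k, rfl⟩; exact smul_base_of_mem k⟩
  have hall : ∀ r : G ⧸ K, r ≠ base K → r ∈ MulAction.orbit K q := by
    intro r hr
    by_contra hn
    let e : G ⧸ K → Quotient (MulAction.orbitRel K (G ⧸ K)) := Quotient.mk''
    have hne : ∀ {a c : G ⧸ K}, e a = e c → a ∈ MulAction.orbit K c := fun h =>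
      MulAction.orbitRel_apply.1 (Quotient.exact' h)
    have h3 : ({e (base K), e q, e r} : Finset _).card = 3 := by
      refine Finset.card_eq_three.2 ⟨_, _, _, fun h => ?_, fun h => ?_, fun h => ?_, rfl⟩
      · have := hne h.symm; rw [hb] at this; exact hq this
      · have := hne h.symm; rw [hb] at this; exact hr this
      · exact hn (hne h.symm)
    have := Finset.card_le_univ ({e (base K), e q, e r} : Finset _)
    omega
  have heq : MulAction.orbit K q = {base K}ᶜ := by
    refine Set.ext fun r => ⟨?_, fun h => hall r h⟩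
    rintro ⟨k, rfl⟩ h
    apply hq
    have h' : (k : G) • q = (k : G) • base K := h.trans (smul_base_of_mem k).symm
    exact MulAction.injective (k : G) h'
  rw [heq, Nat.card_coe_set_eq, Set.ncard_compl, Set.ncard_singleton, ← index_eq_card, hidx]

/-- The two-point stabiliser. -/
theorem card_stabilizer {q : G ⧸ K} (hq : q ≠ base K) :
    Nat.card (MulAction.stabilizer K q) * 27 = Nat.card K := by
  rw [← C.card_orbit hK h6 hidx hq, mul_comm, ← Nat.card_prod]
  exact Nat.card_congr (MulAction.orbitProdStabilizerEquivGroup K q)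

end Chars

end Cfsg.Agent.Compute.G22
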