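import Cfsg.Agent.Compute.G22.Extra
import Cfsg.Agent.Compute.G22.TwoTrans
import Cfsg.Agent.Fusion.Basic

/-!
A simple group of order `6048` has `28` Sylow `3`-subgroups.
-/

set_option autoImplicit false
set_option maxHeartbeats 1000000

namespace Cfsg.Agent.Compute.G22

open Cfsg Subgroup Cfsg.Agent.BlockBasic Cfsg.Agent.CharBasic
open scoped ComplexConjugate commutatorElement

variable {G : Type*} [Group G] [Fintype G] [IsSimpleGroup G] (S : Spec G) (hc : Nat.card G = 6048)

theorem even_of_dvd_216 : ∀ n ∈ List.range 217, n ∣ 216 → 18 ≤ n → ¬ 27 ∣ n → 2 ∣ n := by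
  decide +kernel

theorem dichotomy_216 : ∀ n ∈ List.range 217, n ∣ 864 → 54 ∣ n → 4 ≤ n / 54 → n = 216 := by
  decide +kernel

include S hc

/-- An involution does not invert a Sylow `3`-subgroup by translation. -/
theorem not_all_invol (C : Chars G) (P : Sylow 3 G)
    (hN : Nat.card (normalizer ((P : Subgroup G) : Set G)) = 54) {t : G}
    (htN : t ∈ normalizer ((P : Subgroup G) : Set G)) (htP : t ∉ (P : Subgroup G)) :
    ¬ ∀ p ∈ (P : Subgroup G), orderOf (t * p) = 2 := by
  classical
  intro hall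
  haveI := Fact.mk Nat.prime_three
  set N := normalizer ((P : Subgroup G) : Set G) with hNdef
  have hPN : (P : Subgroup G) ≤ N := le_normalizer
  have hc27 := card_sylow_three hc P
  let e : (P : Subgroup G) ⊕ (P : Subgroup G) → N :=
    Sum.elim (fun p => ⟨p, hPN p.2⟩) (fun p => ⟨t * p, mul_mem htN (hPN p.2)⟩)
  have he : Function.Bijective e := by
    rw [Fintype.bijective_iff_injective_and_card]
    refine ⟨?_, ?_⟩
    · rintro (p | p) (q | q) h
      · exact congrArg Sum.inl (Subtype.ext (congrArg (fun u : N => (u : G)) h))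
      · have h' : (p : G) = t * q := congrArg (fun u : N => (u : G)) h
        refine absurd ?_ htP
        rw [show t = (p : G) * (q : G)⁻¹ by rw [h', mul_inv_cancel_right]]
        exact mul_mem p.2 (inv_mem q.2)
      · have h' : t * p = (q : G) := congrArg (fun u : N => (u : G)) h
        refine absurd ?_ htP
        rw [show t = (q : G) * (p : G)⁻¹ by rw [← h', mul_inv_cancel_right]]
        exact mul_mem q.2 (inv_mem p.2)
      · exact congrArg Sum.inr (Subtype.ext (mul_left_cancel (congrArg (fun u : N => (u : G)) h)))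
    · rw [Fintype.card_sum, ← Nat.card_eq_fintype_card, ← Nat.card_eq_fintype_card, hc27, hN]
  obtain ⟨m, hm⟩ := fixDim_nat (IsIrr.isCharacter C.χ6.2) N
  have h0 := fixDim_six S hc C P
  rw [fixDim_eq] at h0
  replace h0 := (mul_eq_zero.1 h0).resolve_left (inv_ne_zero (Nat.cast_ne_zero.2 Nat.card_pos.ne'))
  rw [fixDim_eq, hN, ← (Equiv.ofBijective e he).sum_comp, Fintype.sum_sum_type] at hm
  simp only [Equiv.ofBijective_apply, e, Sum.elim_inl, Sum.elim_inr] at hm
  rw [h0, zero_add, Finset.sum_congr rfl fun (p : ↥(P : Subgroup G)) _ => C.val6 _ (hall p p.2), Finset.sum_const,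
    Finset.card_univ, ← Nat.card_eq_fintype_card, hc27, nsmul_eq_mul] at hm
  have h' : ((-54 : ℤ) : ℂ) = ((54 * m : ℤ) : ℂ) := by
    push_cast at hm ⊢
    linear_combination 54 * hm
  have h'' : (-54 : ℤ) = 54 * m := by exact_mod_cast h'
  omega

/-- The Sylow `3`-subgroups in the case of `112` are not commutative. -/
theorem not_comm_of_112 (C : Chars G) (P : Sylow 3 G)
    (hN : Nat.card (normalizer ((P : Subgroup G) : Set G)) = 54) :
    ∃ a ∈ (P : Subgroup G), ∃ b ∈ (P : Subgroup G), a * b ≠ b * a := by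
  classical
  by_contra hcon
  push Not at hcon
  haveI := Fact.mk Nat.prime_three
  haveI := Fact.mk Nat.prime_two
  set N := normalizer ((P : Subgroup G) : Set G) with hNdef
  have hPN : (P : Subgroup G) ≤ N := le_normalizer
  have hc27 := card_sylow_three hc P
  obtain ⟨⟨t, htN⟩, hto⟩ := exists_prime_orderOf_dvd_card' (G := N) 2 (by rw [hN]; norm_num)
  rw [Subgroup.orderOf_mk] at hto
  have htP : t ∉ (P : Subgroup G) := fun h => by
    have := Subgroup.orderOf_dvd_natCard _ h
    rw [hto, hc27] at this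
    norm_num at this
  have htt : t * t = 1 := by rw [← pow_two, ← hto, pow_orderOf_eq_one]
  have hti : t⁻¹ = t := inv_eq_of_mul_eq_one_right htt
  have hcj : ∀ p ∈ (P : Subgroup G), t * p * t⁻¹ ∈ (P : Subgroup G) := fun p hp =>
    (mem_normalizer_iff.1 htN p).1 hp
  let D : Subgroup G :=
    { carrier := {p | p ∈ (P : Subgroup G) ∧ t * p * t⁻¹ = p⁻¹}
      one_mem' := ⟨one_mem _, by simp⟩
      mul_mem' := fun {a b} ha hb => ⟨mul_mem ha.1 hb.1, by
        calc t * (a * b) * t⁻¹ = (t * a * t⁻¹) * (t * b * t⁻¹) := by group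
          _ = a⁻¹ * b⁻¹ := by rw [ha.2, hb.2]
          _ = (a * b)⁻¹ := by rw [← mul_inv_rev, hcon _ hb.1 _ ha.1]⟩
      inv_mem' := fun {a} ha => ⟨inv_mem ha.1, by
        calc t * a⁻¹ * t⁻¹ = (t * a * t⁻¹)⁻¹ := by group
          _ = a⁻¹⁻¹ := by rw [ha.2]⟩ }
  have hNelt : ∀ x ∈ N, x ∈ (P : Subgroup G) ∨ ∃ p ∈ (P : Subgroup G), x = t * p := by
    intro x hx
    by_cases hxP : x ∈ (P : Subgroup G)
    · exact Or.inl hxP
    · refine Or.inr ⟨t * x, ?_, by rw [← mul_assoc, htt, one_mul]⟩
      have h2 : ((P : Subgroup G).subgroupOf N).index = 2 := by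
        have h := ((P : Subgroup G).subgroupOf N).card_mul_index
        rw [Nat.card_congr (subgroupOfEquivOfLe hPN).toEquiv, hc27, hN] at h
        omega
      have h := (mul_mem_iff_of_index_two h2 (a := ⟨t, htN⟩) (b := ⟨x, hx⟩)).2
      exact h ⟨fun h => absurd h htP, fun h => absurd h hxP⟩
  have hD : ∀ q ∈ (P : Subgroup G), t * q * t⁻¹ * q⁻¹ ∈ D := by
    intro q hq
    refine ⟨mul_mem (hcj q hq) (inv_mem hq), ?_⟩
    calc t * (t * q * t⁻¹ * q⁻¹) * t⁻¹ = (t * t) * q * (t⁻¹ * q⁻¹ * t⁻¹) := by group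
      _ = q * (t * q⁻¹ * t⁻¹) := by rw [htt, one_mul, hti]
      _ = (t * q * t⁻¹ * q⁻¹)⁻¹ := by group
  have hcomm : ⁅N, N⁆ ≤ D := by
    rw [Subgroup.commutator_le]
    intro a ha b hb
    rcases hNelt a ha with ha' | ⟨p, hp, rfl⟩ <;> rcases hNelt b hb with hb' | ⟨q, hq, rfl⟩
    · rw [commutatorElement_def, hcon a ha' b hb', mul_inv_cancel_right, mul_inv_cancel]
      exact one_mem D
    · have hq' := hcj a ha'
      have e : ⁅a, t * q⁆ = (t * a * t⁻¹ * a⁻¹)⁻¹ := by
        have h1 : q * a⁻¹ * q⁻¹ = a⁻¹ := by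
          rw [hcon q hq _ (inv_mem ha'), mul_inv_cancel_right]
        calc ⁅a, t * q⁆ = a * (t * (q * a⁻¹ * q⁻¹) * t⁻¹) := by rw [commutatorElement_def]; group
          _ = _ := by rw [h1]; group
      rw [e]; exact inv_mem (hD a ha')
    · have e : ⁅t * p, b⁆ = t * b * t⁻¹ * b⁻¹ := by
        have h1 : p * b * p⁻¹ = b := by rw [hcon p hp b hb', mul_inv_cancel_right]
        calc ⁅t * p, b⁆ = t * (p * b * p⁻¹) * t⁻¹ * b⁻¹ := by rw [commutatorElement_def]; group
          _ = _ := by rw [h1]
      rw [e]; exact hD b hb'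
    · have hqp : q * p⁻¹ ∈ (P : Subgroup G) := mul_mem hq (inv_mem hp)
      have e : ⁅t * p, t * q⁆ = t * (t * (q * p⁻¹) * t⁻¹ * (q * p⁻¹)⁻¹) * t⁻¹ := by
        calc ⁅t * p, t * q⁆ = t * (p * (t * (q * p⁻¹) * t⁻¹) * q⁻¹) * t⁻¹ := by
              rw [commutatorElement_def]; group
          _ = t * ((t * (q * p⁻¹) * t⁻¹) * (p * q⁻¹)) * t⁻¹ := by
              rw [hcon p hp _ (hcj _ hqp), mul_assoc (t * (q * p⁻¹) * t⁻¹) p q⁻¹]
          _ = _ := by rw [mul_inv_rev, inv_inv]
      rw [e, (hD _ hqp).2]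
      exact inv_mem (hD _ hqp)
  have hna : ¬ IsMulCommutative G := H36.not_comm_of_simple (by rw [hc]; norm_num)
  have htop : commutator G = ⊤ :=
    (Subgroup.Normal.eq_bot_or_eq_top (H := commutator G) inferInstance).resolve_left fun h =>
      hna (H36.isMulCommutative_of_forall fun a b => by
        have hm := commutator_mem_commutator (mem_top a) (mem_top b)
        rw [← _root_.commutator_def, h, mem_bot] at hm
        exact commutatorElement_eq_one_iff_mul_comm.1 hm)
  have hPc : IsMulCommutative (P : Subgroup G) :=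
    H36.isMulCommutative_of_forall fun a b => Subtype.ext (hcon a a.2 b b.2)
  have hfoc := Fusion.commutator_inf_eq_of_controls P hPN
    (Fusion.controlsElementFusion_normalizer_of_commutative P hPc)
  rw [htop, top_inf_eq] at hfoc
  have hPD : (P : Subgroup G) ≤ D := fun p hp => by
    rw [hfoc] at hp
    exact hcomm (mem_inf.1 hp).1
  refine not_all_invol S hc C P hN htN htP fun p hp => orderOf_eq_prime ?_ ?_
  · have h := (hPD hp).2
    calc (t * p) ^ 2 = (t * p * t⁻¹) * (t * t) * p := by rw [pow_two]; group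
      _ = 1 := by rw [h, htt, mul_one, inv_mul_cancel]
  · intro h
    apply htP
    rw [mul_eq_one_iff_eq_inv] at h
    rw [h]
    exact inv_mem hp

/-- There are `28` Sylow `3`-subgroups. -/
theorem card_sylow_three_eq (C : Chars G) (P : Sylow 3 G) :
    Nat.card (Sylow 3 G) = 28 ∧ Nat.card (normalizer ((P : Subgroup G) : Set G)) = 216 := by
  classical
  refine (card_sylow_three_cases S hc P).resolve_right ?_
  rintro ⟨hn3, hN⟩
  haveI := Fact.mk Nat.prime_three
  haveI := Fact.mk Nat.prime_two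
  haveI : Fact (Nat.Prime 7) := ⟨by norm_num⟩
  have hc27 := card_sylow_three hc P
  have hNall : ∀ R : Sylow 3 G, Nat.card (normalizer ((R : Subgroup G) : Set G)) = 54 := by
    intro R
    rcases card_sylow_three_cases S hc R with ⟨h, -⟩ | ⟨-, h⟩
    · omega
    · exact h
  obtain ⟨z, hzP, hzo, hcen, hvz, hv0⟩ := exists_central S hc C P (not_comm_of_112 S hc C P hN)
  -- a Sylow subgroup meeting `P` in a subgroup of order nine
  obtain ⟨Q, hQ⟩ : ∃ Q : Sylow 3 G,
      Nat.card ((P : Subgroup G) ⊓ (Q : Subgroup G) : Subgroup G) = 9 := by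
    by_contra hno
    push Not at hno
    have hst : ∀ Q : Sylow 3 G, Nat.card (MulAction.stabilizer (P : Subgroup G) Q) =
        Nat.card ((P : Subgroup G) ⊓ (Q : Subgroup G) : Subgroup G) := by
      intro Q
      rw [← IsPGroup.inf_normalizer_sylow P.2 Q]
      refine Nat.card_congr
        { toFun := fun u => ⟨(u : G), mem_inf.2 ⟨u.1.2, Sylow.smul_eq_iff_mem_normalizer.1 u.2⟩⟩
          invFun := fun u => ⟨⟨u, (mem_inf.1 u.2).1⟩,
            Sylow.smul_eq_iff_mem_normalizer.2 (mem_inf.1 u.2).2⟩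
          left_inv := fun u => rfl
          right_inv := fun u => rfl }
    have horb : ∀ Q : Sylow 3 G, Nat.card (MulAction.orbit (P : Subgroup G) Q) *
        Nat.card ((P : Subgroup G) ⊓ (Q : Subgroup G) : Subgroup G) = 27 := fun Q => by
      rw [← hst, ← Nat.card_prod,
        Nat.card_congr (MulAction.orbitProdStabilizerEquivGroup (P : Subgroup G) Q), hc27]
    have hsum := Nat.card_congr (MulAction.selfEquivSigmaOrbits (P : Subgroup G) (Sylow 3 G))
    rw [Nat.card_sigma, hn3] at hsum
    let ωP : Quotient (MulAction.orbitRel (P : Subgroup G) (Sylow 3 G)) := Quotient.mk'' P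
    have hother : ∀ ω : Quotient (MulAction.orbitRel (P : Subgroup G) (Sylow 3 G)), ω ≠ ωP →
        9 ∣ Nat.card (MulAction.orbit (P : Subgroup G) ω.out) := by
      intro ω hω
      have h := horb ω.out
      obtain ⟨k, hk, hk'⟩ := (Nat.dvd_prime_pow Nat.prime_three).1
        (Dvd.intro_left _ h : Nat.card ((P : Subgroup G) ⊓ (ω.out : Subgroup G) : Subgroup G) ∣ 3 ^ 3)
      rw [hk'] at h
      interval_cases k
      · exact ⟨3, by omega⟩
      · exact ⟨1, by omega⟩
      · exact absurd hk' (hno _)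
      · exfalso
        apply hω
        have hle : (P : Subgroup G) ≤ (ω.out : Subgroup G) := by
          have := eq_of_le_of_card_ge (inf_le_left : (P : Subgroup G) ⊓ (ω.out : Subgroup G) ≤ _)
            (by rw [hk', hc27]; norm_num)
          exact this.ge.trans inf_le_right
        have : (P : Sylow 3 G) = ω.out := Sylow.ext (eq_of_le_of_card_ge hle (by
          rw [card_sylow_three hc ω.out, hc27]))
        show ω = Quotient.mk'' P
        exact (Quotient.out_eq' ω).symm.trans (congrArg Quotient.mk'' this.symm)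
    have hP1 : Nat.card (MulAction.orbit (P : Subgroup G) ωP.out) = 1 := by
      have h := Quotient.mk_out' (s₁ := MulAction.orbitRel (P : Subgroup G) (Sylow 3 G)) P
      rw [MulAction.orbitRel_apply] at h
      rw [MulAction.orbit_eq_iff.2 h]
      have h' := horb P
      rw [inf_idem, hc27] at h'
      omega
    rw [← Finset.add_sum_erase _ _ (Finset.mem_univ ωP), hP1] at hsum
    have h9 := Finset.dvd_sum (s := Finset.univ.erase ωP) fun ω hω =>
      hother ω (Finset.mem_erase.1 hω).1
    omega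
  have hQ27 := card_sylow_three hc Q
  set D : Subgroup G := (P : Subgroup G) ⊓ (Q : Subgroup G) with hDdef
  -- commuting elements
  have hDab : ∀ a ∈ D, ∀ b ∈ D, a * b = b * a := fun a ha b hb => by
    have h := IsPGroup.commutative_of_card_eq_prime_sq (p := 3) (G := D) (by rw [hQ]; norm_num)
      ⟨a, ha⟩ ⟨b, hb⟩
    exact congrArg Subtype.val h
  have hzD : z ∈ D := by
    by_contra hzD
    have hle : D ⊔ zpowers z ≤ (P : Subgroup G) := sup_le inf_le_left (zpowers_le.2 hzP)
    have hP' : D ⊔ zpowers z = (P : Subgroup G) := by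
      refine eq_of_le_of_card_ge hle ?_
      obtain ⟨k, hk, hk'⟩ := (Nat.dvd_prime_pow Nat.prime_three).1
        ((card_dvd_of_le hle).trans (by rw [hc27]; norm_num) :
          Nat.card (D ⊔ zpowers z : Subgroup G) ∣ 3 ^ 3)
      have h9 : 9 < Nat.card (D ⊔ zpowers z : Subgroup G) := by
        refine lt_of_le_of_ne (hQ ▸ card_le_of_le le_sup_left) fun h => hzD ?_
        have e := eq_of_le_of_card_ge (le_sup_left : D ≤ D ⊔ zpowers z) (by rw [← h, hQ])
        exact e ▸ mem_sup_right (mem_zpowers z)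
      rw [hk'] at h9 ⊢
      rw [hc27]
      interval_cases k <;> omega
    obtain ⟨a, ha, b, hb, hab⟩ := not_comm_of_112 S hc C P hN
    apply hab
    have hcl : (P : Subgroup G) ≤ centralizer ((P : Subgroup G) : Set G) := by
      nth_rewrite 1 [← hP']
      refine sup_le (fun d hd => ?_) (zpowers_le.2 (mem_centralizer_iff.2 fun h hh =>
        ((hcen z hzP).2 (mem_zpowers z) h hh).symm))
      have h1 : (P : Subgroup G) ≤ centralizer ({d} : Set G) := by
        rw [← hP']
        refine sup_le (fun d' hd' => mem_centralizer_singleton_iff.2 (hDab d' hd' d hd))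
          (zpowers_le.2 (mem_centralizer_singleton_iff.2
            ((hcen z hzP).2 (mem_zpowers z) d (mem_inf.1 hd).1)))
      exact mem_centralizer_iff.2 fun h hh => mem_centralizer_singleton_iff.1 (h1 hh)
    exact (mem_centralizer_iff.1 (hcl hb) a ha)
  obtain ⟨z', hz'Q, hz'o, hcen', hvz', hv0'⟩ :=
    exists_central S hc C Q (not_comm_of_112 S hc C Q (hNall Q))
  have hz1 : z ≠ 1 := fun h => by rw [h, orderOf_one] at hzo; norm_num at hzo
  have hzQ : z ∈ (Q : Subgroup G) := (mem_inf.1 hzD).2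
  have hzz' : z ∈ zpowers z' := by
    by_contra h
    have h1 := hv0' z hzQ h
    rw [hvz z (mem_zpowers z) hz1] at h1
    norm_num at h1
  -- the normalizer of the centre
  set S' := normalizer ((zpowers z : Subgroup G) : Set G) with hS'
  have hPS : (P : Subgroup G) ≤ S' := fun p hp => centralizer_le_normalizer _
    (mem_centralizer_iff.2 fun u hu => (hcen u ((zpowers_le.2 hzP) hu)).2 hu p hp)
  have hQS : (Q : Subgroup G) ≤ S' := fun p hp => centralizer_le_normalizer _
    (mem_centralizer_iff.2 fun u hu => (hcen' u ((zpowers_le.2 hzQ) hu)).2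
      ((zpowers_le.2 hzz') hu) p hp)
  have hNS : normalizer ((P : Subgroup G) : Set G) ≤ S' := by
    intro g hg
    rw [hS', mem_normalizer_iff]
    have hfw : ∀ g ∈ normalizer ((P : Subgroup G) : Set G), ∀ u ∈ zpowers z,
        g * u * g⁻¹ ∈ zpowers z := by
      intro g hg u hu
      have hm : g * u * g⁻¹ ∈ (P : Subgroup G) :=
        (mem_normalizer_iff.1 hg u).1 ((zpowers_le.2 hzP) hu)
      rcases eq_or_ne u 1 with rfl | hu1
      · simp
      by_contra hn
      have h1 := hv0 _ hm hn
      rw [IsIrr.isClassFunction C.χ6.2 u g, hvz u hu hu1] at h1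
      norm_num at h1
    intro u
    refine ⟨hfw g hg u, fun h => ?_⟩
    have h' := hfw g⁻¹ (inv_mem hg) _ h
    simpa [mul_assoc] using h'
  have h7 : ¬ 7 ∣ Nat.card S' := by
    intro h
    obtain ⟨⟨y, hy⟩, hyo⟩ := exists_prime_orderOf_dvd_card' (G := S') 7 h
    rw [Subgroup.orderOf_mk] at hyo
    have hyz : y * z * y⁻¹ ∈ zpowers z := (mem_normalizer_iff.1 hy z).1 (mem_zpowers z)
    have hyc : z ∈ centralizer ({y} : Set G) := by
      rcases mem_zpowers_three hzo hyz with e | e | e
      · exact absurd (conj_eq_one_iff.1 e) hz1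
      · exact mem_centralizer_singleton_iff.2 (mul_inv_eq_iff_eq_mul.1 e).symm
      · exfalso
        have h2 : ∀ n : ℕ, y ^ (2 * n + 1) * z * (y ^ (2 * n + 1))⁻¹ = z⁻¹ := by
          intro n
          induction n with
          | zero => simpa using e
          | succ n ih =>
            calc y ^ (2 * (n + 1) + 1) * z * (y ^ (2 * (n + 1) + 1))⁻¹
                = y * (y * (y ^ (2 * n + 1) * z * (y ^ (2 * n + 1))⁻¹) * y⁻¹) * y⁻¹ := by
                  rw [show 2 * (n + 1) + 1 = 2 * n + 1 + 1 + 1 by ring, pow_succ', pow_succ' y (2 * n + 1)]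
                  group
              _ = (y * (y * z * y⁻¹) * y⁻¹)⁻¹ := by simp only [ih, mul_inv_rev, inv_inv, mul_assoc]
              _ = (y * z⁻¹ * y⁻¹)⁻¹ := by rw [e]
              _ = z⁻¹ := by
                  rw [show y * z⁻¹ * y⁻¹ = (y * z * y⁻¹)⁻¹ by group, inv_inv, e]
        have h3 := h2 3
        have hy7 : y ^ (2 * 3 + 1) = 1 := by
          have := pow_orderOf_eq_one y; rwa [hyo] at this
        rw [hy7, one_mul, inv_one, mul_one] at h3
        have hd : orderOf z ∣ 2 := orderOf_dvd_of_pow_eq_one (by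
          rw [pow_two]; nth_rewrite 2 [h3]; rw [mul_inv_cancel])
        rw [hzo] at hd
        norm_num at hd
    rw [S.centralizer_elt hyo] at hyc
    have := Subgroup.orderOf_dvd_natCard _ hyc
    rw [hzo, Nat.card_zpowers, hyo] at this
    norm_num at this
  have h6S : fixDim (C.χ6 : G → ℂ) S' = 0 := by
    obtain ⟨f, hf, hanti⟩ := exists_fixDim (IsIrr.isCharacter C.χ6.2)
    have h1 := hanti _ _ hPS
    have h2 := hf (P : Subgroup G)
    rw [fixDim_six S hc C P] at h2
    have h2' : f (P : Subgroup G) = 0 := by exact_mod_cast h2.symm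
    rw [hf, show f S' = 0 by omega, Nat.cast_zero]
  have hindex := (C.index_ge h7 h6S).1
  have hmul := S'.card_mul_index
  rw [hc] at hmul
  have hle216 : Nat.card S' ≤ 216 := by nlinarith
  have h54 : 54 ∣ Nat.card S' := hN ▸ card_dvd_of_le hNS
  have h864 : Nat.card S' ∣ 864 := by
    refine Nat.Coprime.dvd_of_dvd_mul_left
      (((Nat.Prime.coprime_iff_not_dvd (by norm_num)).2 h7).symm) ?_
    exact (by norm_num : 7 * 864 = 6048) ▸ (hc ▸ card_subgroup_dvd_card S' : Nat.card S' ∣ 6048)
  -- the orbit of `P`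
  have hQP : Q ≠ P := fun h => by rw [hDdef, h, inf_idem, hc27] at hQ; norm_num at hQ
  have hQorb : Q ∈ MulAction.orbit S' P := by
    obtain ⟨u, hu⟩ := MulAction.exists_smul_eq S' (P.subtype hPS) (Q.subtype hQS)
    refine ⟨u, ?_⟩
    rw [Sylow.smul_subtype hPS] at hu
    exact Sylow.subtype_injective hu
  have horbP : Nat.card (MulAction.orbit (P : Subgroup G) Q) = 3 := by
    have h : Nat.card (MulAction.orbit (P : Subgroup G) Q) *
        Nat.card (MulAction.stabilizer (P : Subgroup G) Q) = 27 := by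
      rw [← Nat.card_prod,
        Nat.card_congr (MulAction.orbitProdStabilizerEquivGroup (P : Subgroup G) Q), hc27]
    have hst : Nat.card (MulAction.stabilizer (P : Subgroup G) Q) = 9 := by
      rw [← hQ, hDdef, ← IsPGroup.inf_normalizer_sylow P.2 Q]
      refine Nat.card_congr
        { toFun := fun u => ⟨(u : G), mem_inf.2 ⟨u.1.2, Sylow.smul_eq_iff_mem_normalizer.1 u.2⟩⟩
          invFun := fun u => ⟨⟨u, (mem_inf.1 u.2).1⟩,
            Sylow.smul_eq_iff_mem_normalizer.2 (mem_inf.1 u.2).2⟩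
          left_inv := fun u => rfl
          right_inv := fun u => rfl }
    rw [hst] at h
    omega
  have hstP : Nat.card (MulAction.stabilizer S' P) = 54 := by
    rw [← hN]
    refine Nat.card_congr
      { toFun := fun u => ⟨(u : G), Sylow.smul_eq_iff_mem_normalizer.1 u.2⟩
        invFun := fun u => ⟨⟨u, hNS u.2⟩, Sylow.smul_eq_iff_mem_normalizer.2 u.2⟩
        left_inv := fun u => rfl
        right_inv := fun u => rfl }
  have hOS : Nat.card (MulAction.orbit S' P) * 54 = Nat.card S' := by
    rw [← hstP, ← Nat.card_prod]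
    exact Nat.card_congr (MulAction.orbitProdStabilizerEquivGroup S' P)
  have hsub : insert P (MulAction.orbit (P : Subgroup G) Q) ⊆ MulAction.orbit S' P := by
    rintro R (rfl | ⟨p, rfl⟩)
    · exact MulAction.mem_orbit_self _
    · obtain ⟨u, hu⟩ := hQorb
      refine ⟨⟨p, hPS p.2⟩ * u, ?_⟩
      show ((p : G) * (u : G)) • P = (p : G) • Q
      rw [mul_smul]
      exact congrArg (fun R => (p : G) • R) hu
  have hPnot : P ∉ MulAction.orbit (P : Subgroup G) Q := by
    rintro ⟨p, hp⟩
    apply hQP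
    have h1 : (p : G) • Q = P := hp
    have h2 : (p : G) • P = P := Sylow.smul_eq_iff_mem_normalizer.2 (le_normalizer p.2)
    exact MulAction.injective (p : G) (h1.trans h2.symm)
  have hins : (insert P (MulAction.orbit (P : Subgroup G) Q)).ncard = 4 := by
    rw [Set.ncard_insert_of_notMem hPnot, ← Nat.card_coe_set_eq, horbP]
  have hge : 4 ≤ Nat.card (MulAction.orbit S' P) := by
    rw [Nat.card_coe_set_eq, ← hins]
    exact Set.ncard_le_ncard hsub
  have h216 : Nat.card S' = 216 :=
    dichotomy_216 _ (List.mem_range.2 (by omega)) h864 h54 (by omega)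
  have hidx : S'.index = 28 := by rw [h216] at hmul; omega
  have hOeq : insert P (MulAction.orbit (P : Subgroup G) Q) = MulAction.orbit S' P :=
    Set.eq_of_subset_of_ncard_le hsub (by rw [hins, ← Nat.card_coe_set_eq]; omega)
  -- `D` lies in the four Sylow subgroups
  have hDnorm : ∀ p ∈ (P : Subgroup G), ∀ d ∈ D, p * d * p⁻¹ ∈ D := by
    intro p hp d hd
    have hm : p * d * p⁻¹ ∈ (P : Subgroup G) :=
      mul_mem (mul_mem hp (mem_inf.1 hd).1) (inv_mem hp)
    by_cases hdz : d ∈ zpowers z
    · rw [← (hcen d (mem_inf.1 hd).1).2 hdz p hp, mul_inv_cancel_right]; exact hd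
    have hw : p * d * p⁻¹ * d⁻¹ ∈ zpowers z := by
      have hdP := (mem_inf.1 hd).1
      have hcard : Nat.card ((P : Subgroup G) ⧸ center (P : Subgroup G)) = 3 ^ 2 := by
        have hz0 : zpowers (⟨z, hzP⟩ : (P : Subgroup G)) = center (P : Subgroup G) := by
          apply le_antisymm
          · exact zpowers_le.2 (mem_center_iff.2 fun x =>
              Subtype.ext ((hcen z hzP).2 (mem_zpowers z) x x.2).symm)
          · intro x hx
            obtain ⟨k, hk⟩ := mem_zpowers_iff.1 ((hcen x x.2).1 fun h hh =>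
              (congrArg Subtype.val (mem_center_iff.1 hx ⟨h, hh⟩)).symm)
            exact mem_zpowers_iff.2 ⟨k, Subtype.ext hk⟩
        have h := card_eq_card_quotient_mul_card_subgroup (center (P : Subgroup G))
        rw [hc27, ← hz0, Nat.card_zpowers, Subgroup.orderOf_mk, hzo] at h
        rw [← hz0]; omega
      refine (hcen _ (mul_mem hm (inv_mem hdP))).1 fun x hx => ?_
      have hm' : (⟨p, hp⟩ * ⟨d, hdP⟩ * (⟨p, hp⟩ : (P : Subgroup G))⁻¹ * ⟨d, hdP⟩⁻¹) ∈
          center (P : Subgroup G) := by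
        rw [← QuotientGroup.eq_one_iff (N := center (P : Subgroup G))]
        have hq := IsPGroup.commutative_of_card_eq_prime_sq hcard
        simp only [QuotientGroup.mk_mul, QuotientGroup.mk_inv]
        rw [hq ((⟨p, hp⟩ : (P : Subgroup G)) : (P : Subgroup G) ⧸ center (P : Subgroup G))]
        group
      exact (congrArg Subtype.val (mem_center_iff.1 hm' ⟨x, hx⟩)).symm
    have := mul_mem ((zpowers_le.2 hzD) hw) hd
    rwa [inv_mul_cancel_right] at this
  have hDle : ∀ R ∈ MulAction.orbit S' P, D ≤ (R : Subgroup G) := by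
    intro R hR
    rw [← hOeq] at hR
    rcases hR with rfl | ⟨p, rfl⟩
    · exact inf_le_left
    · intro d hd
      have h := hDnorm (p : G)⁻¹ (inv_mem p.2) d hd
      rw [inv_inv] at h
      show d ∈ (((p : G) • Q : Sylow 3 G) : Subgroup G)
      rw [Sylow.coe_subgroup_smul]
      exact ⟨_, (mem_inf.1 h).2, by simp [mul_assoc]⟩
  have hDS : ∀ u ∈ S', ∀ d ∈ D, u * d * u⁻¹ ∈ D := by
    intro u hu
    have hin : ∀ R ∈ MulAction.orbit S' P, u⁻¹ • R ∈ MulAction.orbit S' P := by
      rintro R ⟨v, rfl⟩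
      exact ⟨⟨u⁻¹, inv_mem hu⟩ * v, mul_smul _ _ _⟩
    intro d hd
    have key : ∀ R ∈ MulAction.orbit S' P, u * d * u⁻¹ ∈ (R : Subgroup G) := by
      intro R hR
      have h := hDle _ (hin R hR) hd
      rw [Sylow.coe_subgroup_smul] at h
      obtain ⟨r, hr, rfl⟩ := h
      simp [mul_assoc]
      exact hr
    exact mem_inf.2 ⟨key P (MulAction.mem_orbit_self _), key Q hQorb⟩
  -- the centraliser of `D` in `S'`
  obtain ⟨d, hdD, hdz⟩ : ∃ d ∈ D, d ∉ zpowers z := by
    by_contra h
    push Not at h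
    have := card_le_of_le (show D ≤ zpowers z from h)
    rw [hQ, Nat.card_zpowers, hzo] at this
    norm_num at this
  set Cd : Subgroup S' := (centralizer ({d, z} : Set G)).subgroupOf S' with hCd
  have hCdidx : Cd.index ≤ 12 := by
    have hbound : (((D : Set G) \ (zpowers z : Set G)) ×ˢ ((zpowers z : Set G) \ {1})).ncard ≤ 12 := by
      rw [Set.ncard_prod, Set.ncard_diff (zpowers_le.2 hzD), Set.ncard_diff (by simp),
        ← Nat.card_coe_set_eq, ← Nat.card_coe_set_eq (s := (zpowers z : Set G)),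
        Set.ncard_singleton]
      rw [SetLike.coe_sort_coe, SetLike.coe_sort_coe, hQ, Nat.card_zpowers, hzo]
    refine le_trans ?_ hbound
    rw [index_eq_card, ← Nat.card_coe_set_eq]
    let φ : S' ⧸ Cd → G × G := fun q => ((q.out : G) * d * (q.out : G)⁻¹, (q.out : G) * z * (q.out : G)⁻¹)
    have hφ : ∀ q, φ q ∈ ((D : Set G) \ (zpowers z : Set G)) ×ˢ ((zpowers z : Set G) \ {1}) := by
      intro q
      refine ⟨⟨hDS _ q.out.2 d hdD, fun h => hdz ?_⟩, (mem_normalizer_iff.1 q.out.2 z).1
        (mem_zpowers z), fun h => hz1 (conj_eq_one_iff.1 h)⟩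
      exact (mem_normalizer_iff.1 q.out.2 d).2 h
    refine Nat.card_le_card_of_injective (fun q => (⟨φ q, hφ q⟩ :
      ↥(((D : Set G) \ (zpowers z : Set G)) ×ˢ ((zpowers z : Set G) \ {1})))) fun q q' h => ?_
    have h' := congrArg Subtype.val h
    simp only [φ, Prod.mk.injEq] at h'
    rw [← Quotient.out_eq' q, ← Quotient.out_eq' q']
    refine QuotientGroup.eq.2 (mem_subgroupOf.2 (mem_centralizer_iff.2 ?_))
    have hmk : ∀ w : G, (q.out : G) * w * (q.out : G)⁻¹ = (q'.out : G) * w * (q'.out : G)⁻¹ →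
        w * ((q.out : G)⁻¹ * q'.out) = ((q.out : G)⁻¹ * q'.out) * w := by
      intro w hw
      calc w * ((q.out : G)⁻¹ * q'.out)
          = (q.out : G)⁻¹ * ((q.out : G) * w * (q.out : G)⁻¹) * q'.out := by group
        _ = _ := by rw [hw]; group
    intro w hw
    rcases hw with rfl | rfl
    · exact hmk _ h'.1
    · exact hmk _ h'.2
  have hCdmul := Cd.card_mul_index
  rw [h216] at hCdmul
  have hCd18 : 18 ≤ Nat.card Cd := by nlinarith
  have hCd27 : ¬ 27 ∣ Nat.card Cd := by
    intro h27
    obtain ⟨K, hK⟩ := Sylow.exists_subgroup_card_pow_prime (G := Cd) 3 (n := 3) (by simpa using h27)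
    set K' : Subgroup G := (K.map Cd.subtype).map S'.subtype with hK'
    have hK'c : Nat.card K' = 27 := by
      rw [hK', card_map_of_injective (f := S'.subtype) S'.subtype_injective,
        card_map_of_injective (f := Cd.subtype) Cd.subtype_injective, hK]
      norm_num
    obtain ⟨R, hR⟩ : ∃ R : Sylow 3 G, K' ≤ (R : Subgroup G) :=
      (IsPGroup.of_card (n := 3) (by rw [hK'c]; norm_num)).exists_le_sylow
    have hRe : K' = (R : Subgroup G) :=
      eq_of_le_of_card_ge hR (by rw [hK'c, card_sylow_three hc R])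
    have hRS : (R : Subgroup G) ≤ S' := hRe ▸ map_subtype_le _
    have hRorb : R ∈ MulAction.orbit S' P := by
      obtain ⟨u, hu⟩ := MulAction.exists_smul_eq S' (P.subtype hPS) (R.subtype hRS)
      refine ⟨u, ?_⟩
      rw [Sylow.smul_subtype hPS] at hu
      exact Sylow.subtype_injective hu
    have hdR : d ∈ (R : Subgroup G) := hDle R hRorb hdD
    obtain ⟨zR, hzRR, hzRo, hcenR, hvzR, hv0R⟩ :=
      exists_central S hc C R (not_comm_of_112 S hc C R (hNall R))
    have hdzR : d ∈ zpowers zR := by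
      refine (hcenR d hdR).1 fun h hh => ?_
      rw [← hRe] at hh
      obtain ⟨s, ⟨c, -, rfl⟩, rfl⟩ := hh
      exact mem_centralizer_iff.1 (mem_subgroupOf.1 c.2) d (Set.mem_insert _ _)
    have h1 := hvzR d hdzR fun e => hdz (e ▸ one_mem _)
    rw [hv0 d (mem_inf.1 hdD).1 hdz] at h1
    norm_num at h1
  obtain ⟨⟨⟨t, htS⟩, htC⟩, hto⟩ := exists_prime_orderOf_dvd_card' (G := Cd) 2
    (even_of_dvd_216 _ (List.mem_range.2 (by
      have := Nat.le_of_dvd (by norm_num) (Dvd.intro _ hCdmul); omega))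
      (Dvd.intro _ hCdmul) hCd18 hCd27)
  rw [Subgroup.orderOf_mk, Subgroup.orderOf_mk] at hto
  have htd : d * t = t * d ∧ z * t = t * z :=
    ⟨mem_centralizer_iff.1 (mem_subgroupOf.1 htC) d (Set.mem_insert _ _),
      mem_centralizer_iff.1 (mem_subgroupOf.1 htC) z (Set.mem_insert_of_mem _ rfl)⟩
  -- `D` is semiregular
  have hfix4 := C.fixed_invol h7 h6S hidx hto
  obtain ⟨⟨q, hqt⟩, hqb⟩ : ∃ q : MulAction.fixedBy (G ⧸ S') t, q.1 ≠ base S' := by
    by_contra h
    push Not at h
    have : Nat.card (MulAction.fixedBy (G ⧸ S') t) ≤ 1 :=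
      Finite.card_le_one_iff_subsingleton.2 ⟨fun a b => Subtype.ext ((h a).trans (h b).symm)⟩
    omega
  have h8 : Nat.card (MulAction.stabilizer S' q) = 8 := by
    have := C.card_stabilizer h7 h6S hidx (q := q) hqb
    rw [h216] at this
    omega
  have hDt : ∀ a ∈ D, a * t = t * a := by
    have hcz : (zpowers d ⊔ zpowers z : Subgroup G) = D := by
      refine eq_of_le_of_card_ge (sup_le (zpowers_le.2 hdD) (zpowers_le.2 hzD)) ?_
      obtain ⟨k, hk, hk'⟩ := (Nat.dvd_prime_pow Nat.prime_three).1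
        ((card_dvd_of_le (sup_le (zpowers_le.2 hdD) (zpowers_le.2 hzD))).trans
          (by rw [hQ]; norm_num) : Nat.card (zpowers d ⊔ zpowers z : Subgroup G) ∣ 3 ^ 2)
      have h3 : 3 < Nat.card (zpowers d ⊔ zpowers z : Subgroup G) := by
        refine lt_of_le_of_ne ?_ fun h => hdz ?_
        · rw [← hzo, ← Nat.card_zpowers]; exact card_le_of_le le_sup_right
        · have e := eq_of_le_of_card_ge (le_sup_right : zpowers z ≤ zpowers d ⊔ zpowers z)
            (by rw [← h, Nat.card_zpowers, hzo])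
          exact e ▸ mem_sup_left (mem_zpowers d)
      rw [hk'] at h3 ⊢
      rw [hQ]
      interval_cases k <;> omega
    intro a ha
    have hle : D ≤ centralizer ({t} : Set G) := by
      rw [← hcz]
      exact sup_le (zpowers_le.2 (mem_centralizer_singleton_iff.2 htd.1))
        (zpowers_le.2 (mem_centralizer_singleton_iff.2 htd.2))
    exact mem_centralizer_singleton_iff.1 (hle ha)
  have hDle' : D ≤ S' := inf_le_left.trans hPS
  have hinj : Function.Injective (fun a : D => (⟨(a : G) • q, by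
      show t • ((a : G) • q) = (a : G) • q
      rw [← mul_smul, ← hDt a a.2, mul_smul, (hqt : t • q = q)]⟩ :
        MulAction.fixedBy (G ⧸ S') t)) := by
    intro a b h
    have h' : (a : G) • q = (b : G) • q := congrArg Subtype.val h
    have hab : (b : G)⁻¹ * a ∈ D := mul_mem (inv_mem b.2) a.2
    have hst : (⟨_, hDle' hab⟩ : S') ∈ MulAction.stabilizer S' q := by
      show ((b : G)⁻¹ * a) • q = q
      rw [mul_smul, h', inv_smul_smul]
    have h1 := Subgroup.orderOf_dvd_natCard _ hst
    rw [Subgroup.orderOf_mk, h8] at h1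
    have h9 := Subgroup.orderOf_dvd_natCard _ hab
    rw [hQ] at h9
    have h19 := Nat.eq_one_of_dvd_coprimes (by norm_num : Nat.Coprime 8 9) h1 h9
    exact Subtype.ext (inv_mul_eq_one.1 (orderOf_eq_one_iff.1 h19)).symm
  have := Nat.card_le_card_of_injective _ hinj
  rw [hfix4, hQ] at this
  norm_num at this

end Cfsg.Agent.Compute.G22
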