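import Mathlib

/-!
Coordinates for groups of order `27` of exponent three: the code of `(a, b, c)` is `9a + 3b + c`.
Maps on codes are packed in base `32`.
-/

set_option autoImplicit false

namespace Cfsg.Agent.Compute.G22

/-- The product of codes; `k = 0` abelian, `k = 1` extraspecial. -/
def mulC (k i j : ℕ) : ℕ :=
  ((i / 9 + j / 9) % 3) * 9 + ((i / 3 + j / 3) % 3) * 3 + (i + j + k * (i / 9) * (j / 3)) % 3

/-- The inverse code. -/
def invC (k i : ℕ) : ℕ :=
  ((3 - i / 9 % 3) % 3) * 9 + ((3 - i / 3 % 3) % 3) * 3 + (2 * i + k * (i / 9) * (i / 3)) % 3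

/-- Powers of codes. -/
def powC (k i : ℕ) : ℕ → ℕ
  | 0 => 0
  | n + 1 => mulC k (powC k i n) i

/-- Evaluation at `(a, b, c)` of the endomorphism with images `x`, `y`, `w` of the generators. -/
def endC (k x y w i : ℕ) : ℕ :=
  mulC k (mulC k (powC k y (i / 3 % 3)) (powC k x (i / 9 % 3))) (powC k w (i % 3))

/-- Reading a packed table. -/
def getT (T i : ℕ) : ℕ := T / 32 ^ i % 32

/-- Packing a table. -/
def packT (f : ℕ → ℕ) : ℕ → ℕ
  | 0 => 0
  | n + 1 => packT f n + f n % 32 * 32 ^ n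

/-- Composition of packed tables. -/
def compT (A B : ℕ) : ℕ := packT (fun i => getT A (getT B i)) 27

/-- The packed identity. -/
def idT : ℕ := packT (fun i => i) 27

/-- The packed endomorphism. -/
def endT (k x y w : ℕ) : ℕ := packT (endC k x y w) 27

theorem getT_lt (T i : ℕ) : getT T i < 32 := Nat.mod_lt _ (by norm_num)

theorem packT_lt (f : ℕ → ℕ) : ∀ n, packT f n < 32 ^ n
  | 0 => by simp [packT]
  | n + 1 => by
    have h1 := packT_lt f n
    have h2 : f n % 32 < 32 := Nat.mod_lt _ (by norm_num)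
    rw [packT, pow_succ]
    nlinarith

theorem getT_packT (f : ℕ → ℕ) : ∀ {n i : ℕ}, i < n → getT (packT f n) i = f i % 32 := by
  intro n
  induction n with
  | zero => intro i h; omega
  | succ n ih =>
    intro i h
    rcases Nat.lt_or_ge i n with h' | h'
    · obtain ⟨d, rfl⟩ : ∃ d, n = i + 1 + d := ⟨n - (i + 1), by omega⟩
      rw [← ih h', packT, getT, getT,
        show f (i + 1 + d) % 32 * 32 ^ (i + 1 + d) = 32 ^ i * (32 * (f (i + 1 + d) % 32 * 32 ^ d)) by
          rw [pow_add, pow_succ]; ring,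
        Nat.add_mul_div_left _ _ (by positivity), Nat.add_mul_mod_self_left]
    · obtain rfl : i = n := by omega
      rw [packT, getT, Nat.add_mul_div_right _ _ (by positivity),
        Nat.div_eq_of_lt (packT_lt f i), zero_add, Nat.mod_mod]

theorem packT_congr {f g : ℕ → ℕ} : ∀ {n : ℕ}, (∀ i, i < n → f i % 32 = g i % 32) →
    packT f n = packT g n
  | 0, _ => rfl
  | n + 1, h => by
    rw [packT, packT, packT_congr fun i hi => h i (by omega), h n (by omega)]

theorem getT_compT {A B i : ℕ} (hi : i < 27) : getT (compT A B) i = getT A (getT B i) := by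
  rw [compT, getT_packT _ hi, Nat.mod_eq_of_lt (getT_lt _ _)]

theorem getT_idT {i : ℕ} (hi : i < 27) : getT idT i = i := by
  rw [idT, getT_packT _ hi, Nat.mod_eq_of_lt (by omega)]

theorem mulC_lt (k i j : ℕ) : mulC k i j < 27 := by
  unfold mulC
  have h1 := Nat.mod_lt (i / 9 + j / 9) (by norm_num : 3 > 0)
  have h2 := Nat.mod_lt (i / 3 + j / 3) (by norm_num : 3 > 0)
  have h3 := Nat.mod_lt (i + j + k * (i / 9) * (j / 3)) (by norm_num : 3 > 0)
  omega

theorem invC_lt (k i : ℕ) : invC k i < 27 := by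
  unfold invC
  have h1 := Nat.mod_lt (3 - i / 9 % 3) (by norm_num : 3 > 0)
  have h2 := Nat.mod_lt (3 - i / 3 % 3) (by norm_num : 3 > 0)
  have h3 := Nat.mod_lt (2 * i + k * (i / 9) * (i / 3)) (by norm_num : 3 > 0)
  omega

theorem powC_lt (k i : ℕ) : ∀ n, powC k i n < 27
  | 0 => by norm_num [powC]
  | n + 1 => mulC_lt _ _ _

theorem endC_lt (k x y w i : ℕ) : endC k x y w i < 27 := mulC_lt _ _ _

theorem getT_endT {k x y w i : ℕ} (hi : i < 27) : getT (endT k x y w) i = endC k x y w i := by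
  rw [endT, getT_packT _ hi, Nat.mod_eq_of_lt (lt_trans (endC_lt k x y w i) (by norm_num))]

theorem invC_spec : ∀ k ∈ List.range 2, ∀ i ∈ List.range 27,
    mulC k (invC k i) i = 0 ∧ mulC k i (invC k i) = 0 := by
  decide +kernel

section Hom

variable {G : Type*} [Group G] {X Y W : G}

/-- The element with a given code. -/
def elem (X Y W : G) (i : ℕ) : G := Y ^ (i / 3) * X ^ (i / 9) * W ^ i

theorem pow_three_mod {a : G} (ha : a ^ 3 = 1) (n : ℕ) : a ^ (n % 3) = a ^ n := by
  conv_rhs => rw [← Nat.div_add_mod n 3, pow_add, pow_mul, ha, one_pow, one_mul]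

theorem elem_zero : elem X Y W 0 = 1 := by simp [elem]

theorem swap_one {k : ℕ} (hXW : Commute X W) (hXY : X * Y = Y * X * W ^ k) :
    ∀ n : ℕ, X ^ n * Y = Y * X ^ n * W ^ (k * n) := by
  intro n
  induction n with
  | zero => simp
  | succ n ih =>
    calc X ^ (n + 1) * Y = X * (X ^ n * Y) := by rw [pow_succ', mul_assoc]
      _ = (X * Y) * X ^ n * W ^ (k * n) := by rw [ih]; group
      _ = Y * X * (W ^ k * X ^ n) * W ^ (k * n) := by rw [hXY]; group
      _ = Y * X * (X ^ n * W ^ k) * W ^ (k * n) := by rw [((hXW.symm.pow_left k).pow_right n).eq]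
      _ = Y * (X * X ^ n) * (W ^ k * W ^ (k * n)) := by group
      _ = Y * X ^ (n + 1) * W ^ (k * (n + 1)) := by
          rw [← pow_succ', ← pow_add]; congr 2; ring

theorem swap {k : ℕ} (hXW : Commute X W) (hYW : Commute Y W) (hXY : X * Y = Y * X * W ^ k) :
    ∀ n m : ℕ, X ^ n * Y ^ m = Y ^ m * X ^ n * W ^ (k * n * m) := by
  intro n m
  induction m with
  | zero => simp
  | succ m ih =>
    calc X ^ n * Y ^ (m + 1) = (X ^ n * Y ^ m) * Y := by rw [pow_succ, mul_assoc]
      _ = Y ^ m * X ^ n * (W ^ (k * n * m) * Y) := by rw [ih]; group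
      _ = Y ^ m * X ^ n * (Y * W ^ (k * n * m)) := by rw [(hYW.symm.pow_left _).eq]
      _ = Y ^ m * (X ^ n * Y) * W ^ (k * n * m) := by group
      _ = Y ^ m * Y * X ^ n * (W ^ (k * n) * W ^ (k * n * m)) := by
          rw [swap_one hXW hXY n]; group
      _ = Y ^ (m + 1) * X ^ n * W ^ (k * n * (m + 1)) := by
          rw [← pow_succ, ← pow_add]; congr 2; ring

theorem elem_mul {k : ℕ} (hX : X ^ 3 = 1) (hY : Y ^ 3 = 1) (hW : W ^ 3 = 1) (hXW : Commute X W)
    (hYW : Commute Y W) (hXY : X * Y = Y * X * W ^ k) (i j : ℕ) :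
    elem X Y W (mulC k i j) = elem X Y W i * elem X Y W j := by
  have e : elem X Y W i * elem X Y W j = Y ^ (i / 3 + j / 3) * X ^ (i / 9 + j / 9) *
      W ^ (i + j + k * (i / 9) * (j / 3)) := by
    have hX' : ∀ a b : ℕ, Commute (W ^ a) (X ^ b) := fun a b => (hXW.symm.pow_pow a b)
    have hY' : ∀ a b : ℕ, Commute (W ^ a) (Y ^ b) := fun a b => (hYW.symm.pow_pow a b)
    calc elem X Y W i * elem X Y W j
        = Y ^ (i / 3) * X ^ (i / 9) * (W ^ i * Y ^ (j / 3)) * X ^ (j / 9) * W ^ j := by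
          simp only [elem]; group
      _ = Y ^ (i / 3) * (X ^ (i / 9) * Y ^ (j / 3)) * (W ^ i * X ^ (j / 9)) * W ^ j := by
          rw [(hY' i _).eq]; group
      _ = Y ^ (i / 3) * (Y ^ (j / 3) * X ^ (i / 9) * W ^ (k * (i / 9) * (j / 3))) *
            (X ^ (j / 9) * W ^ i) * W ^ j := by
          rw [swap hXW hYW hXY, (hX' i _).eq]
      _ = Y ^ (i / 3) * Y ^ (j / 3) * X ^ (i / 9) * (W ^ (k * (i / 9) * (j / 3)) * X ^ (j / 9)) *
            (W ^ i * W ^ j) := by group
      _ = (Y ^ (i / 3) * Y ^ (j / 3)) * (X ^ (i / 9) * X ^ (j / 9)) *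
            (W ^ (k * (i / 9) * (j / 3)) * (W ^ i * W ^ j)) := by
          rw [(hX' _ _).eq]; group
      _ = _ := by rw [← pow_add, ← pow_add, ← pow_add, ← pow_add]; congr 2; ring
  rw [e, ← pow_three_mod hY (i / 3 + j / 3), ← pow_three_mod hX (i / 9 + j / 9),
    ← pow_three_mod hW (i + j + k * (i / 9) * (j / 3))]
  have h1 := Nat.mod_lt (i / 9 + j / 9) (by norm_num : 3 > 0)
  have h2 := Nat.mod_lt (i / 3 + j / 3) (by norm_num : 3 > 0)
  have h3 := Nat.mod_lt (i + j + k * (i / 9) * (j / 3)) (by norm_num : 3 > 0)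
  unfold elem mulC
  rw [← pow_three_mod hY (_ / 3), ← pow_three_mod hX (_ / 9),
    ← pow_three_mod hW ((i / 9 + j / 9) % 3 * 9 + _ + _)]
  congr 1
  · congr 1
    · congr 1; omega
    · congr 1; omega
  · congr 1; omega

end Hom

end Cfsg.Agent.Compute.G22
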