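import Cfsg.Agent.Compute.G22.Small

/-!
There is no simple group of order `4032` satisfying `Spec`.
-/

set_option autoImplicit false
set_option maxHeartbeats 1000000

namespace Cfsg.Agent.Compute.G22

open Cfsg Subgroup Cfsg.Agent.BlockBasic Cfsg.Agent.CharBasic

variable {G : Type*} [Group G] [Fintype G] [IsSimpleGroup G]

theorem cand_mem {N d : ℕ} (h2 : 2 ≤ d) (hd : d < 78) (hN : d ∣ N) {s : ℤ}
    (hm : (s = 1 ∧ d % 7 = 1) ∨ (s = -1 ∧ d % 7 = 6)) : s * d ∈ cand N := by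
  refine List.mem_map.2 ⟨d, List.mem_filter.2 ⟨List.mem_range.2 hd, ?_⟩, ?_⟩
  · rcases hm with ⟨-, hm⟩ | ⟨-, hm⟩ <;> simp [h2, hN, hm]
  · rcases hm with ⟨rfl, hm⟩ | ⟨rfl, hm⟩ <;> simp [hm]

theorem candExc_mem {N r d : ℕ} (h2 : 2 ≤ d) (hd : d < 78) (hN : d ∣ N) (hr : r < 7) {s : ℤ}
    (hm : (s = 1 ∧ d % 7 = r) ∨ (s = -1 ∧ d % 7 = 7 - r)) : s * d ∈ candExc N r := by
  refine List.mem_map.2 ⟨d, List.mem_filter.2 ⟨List.mem_range.2 hd, ?_⟩, ?_⟩
  · rcases hm with ⟨-, hm⟩ | ⟨-, hm⟩ <;> simp [h2, hN, hm]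
  · rcases hm with ⟨rfl, hm⟩ | ⟨rfl, hm⟩
    · simp [hm]
    · rw [if_neg (by omega)]; simp

/-- No simple group of order `4032` satisfies `Spec`. -/
theorem not_simple_4032 (S : Spec G) (hc : Nat.card G = 4032) : False := by
  classical
  haveI : Fact (Nat.Prime 7) := ⟨by norm_num⟩
  have hn : ¬ (Nat.card G).Prime := by rw [hc]; norm_num
  obtain ⟨P⟩ := Sylow.nonempty (p := 7) (G := G)
  obtain ⟨e, he6, hN, hrel, hn7, hmod⟩ := S.exists_e P
  obtain rfl : e = 2 := by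
    rw [hc] at hn7
    have : e ≤ 6 := Nat.le_of_dvd (by norm_num) he6
    interval_cases e <;> first | omega | norm_num at he6
  obtain ⟨B⟩ := exists_pblock P (S.card_sylow P) hrel
  obtain ⟨x, hx, hxx, -⟩ := S.exists_class P (by rw [hN]; norm_num)
  obtain ⟨v, hv, hv1, hv'⟩ := Spec.exists_values hn hx
  obtain ⟨hlin, hquad, -⟩ := B.eqs hx v v hv hv hv1 hv1 7 hxx
  obtain ⟨χ, hχ⟩ := Finset.card_eq_one.1 B.card_X'
  have hχm : χ ∈ B.X' := by rw [hχ]; exact Finset.mem_singleton_self _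
  have hdeg := B.deg_sum
  have hbnd := B.deg_bound
  rw [hχ, Finset.sum_singleton] at hdeg hbnd hlin hquad
  obtain ⟨h2, hd, hdd, hmd⟩ := B.deg_X' hn hχm
  obtain ⟨h2', hd', hdd', hmd'⟩ := B.deg_θ hn (by norm_num) (by norm_num)
  rw [hc] at hd hdd hd' hdd' hbnd hquad
  have hsq : ∀ s : ℤ, (s = 1 ∨ s = -1) → ∀ z : ℤ, s * z * (s * z) = z * z := by
    rintro s (rfl | rfl) z <;> ring
  obtain ⟨h8, h9⟩ := opts_small _ (cand_mem h2 (by nlinarith) hd hmd)
    _ (candExc_mem h2' (by nlinarith) hd' (by norm_num) hmd') hdeg (by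
      have := hsq _ (B.s_sign χ (B.mem_X'.1 hχm).2) (dg χ)
      have := hsq _ B.ε_sign (dg B.θ)
      have h3 : ((7 - 1) / 2 : ℕ) = 3 := rfl
      rw [h3] at hbnd
      unfold dg at *
      push_cast at hbnd
      linarith)
  have hs : B.s χ = 1 ∧ dg χ = 8 := by unfold dg; rcases hmd with ⟨h, -⟩ | ⟨h, -⟩ <;> rw [h] at h8 <;> omega
  have he : B.ε = 1 ∧ dg B.θ = 9 := by unfold dg; rcases hmd' with ⟨h, -⟩ | ⟨h, -⟩ <;> rw [h] at h9 <;> omega
  rw [hs.1, he.1, one_mul, one_mul] at hlin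
  rw [hs.1, hs.2, he.1, he.2, ← hlin] at hquad
  obtain ⟨-, hlt⟩ := hv' χ (B.mem_X'.1 hχm).1
  obtain ⟨h4, -⟩ := hv' χ (B.mem_X'.1 hχm).1
  rw [hs.2] at hlt h4
  have ha : v χ = -4 ∨ v χ = 0 ∨ v χ = 4 := by
    have h1 : -8 < v χ := by nlinarith
    have h1' : v χ < 8 := by nlinarith
    omega
  have hidx := index_mul_card (centralizer ({x} : Set G))
  rw [hc] at hidx
  set i := (centralizer ({x} : Set G)).index
  set k := Nat.card (centralizer ({x} : Set G))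
  have hik : (i : ℚ) * k = 4032 := by exact_mod_cast hidx
  have hi0 : (i : ℚ) ≠ 0 := by
    intro h; rw [h, zero_mul] at hik; norm_num at hik
  have key : ((k * k : ℕ) : ℤ) = 8 * ((v χ - 8) * (v χ - 8)) := by
    apply (Int.cast_inj (α := ℚ)).1
    push_cast at hquad ⊢
    apply mul_left_cancel₀ (pow_ne_zero 2 hi0)
    linear_combination ((i : ℚ) * k + 4032) * hik - 576 * hquad
  have hk2 : k * k = 1152 ∨ k * k = 512 ∨ k * k = 128 := by
    rcases ha with h | h | h <;> rw [h] at key <;> norm_num at key <;> omega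
  have hk : k < 34 := by rcases hk2 with h | h | h <;> nlinarith
  interval_cases k <;> omega

end Cfsg.Agent.Compute.G22
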