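import Cfsg.Agent.Compute.G22.Simple12096
import Cfsg.Agent.Compute.G22.Simple4032
import Cfsg.Agent.Hall.MinimalNormal
import Cfsg.Agent.H67.TwoR.Basic

/-!
A group of order `12096` satisfying `Spec` with an element of order four embeds into the
automorphism group of a simple normal subgroup of order `6048`.
-/

set_option autoImplicit false

namespace Cfsg.Agent.Compute.G22

open Subgroup

variable {G : Type*} [Group G] [Finite G]

theorem Spec.of_subgroup (S : Spec G) (M : Subgroup G) (h7 : 7 ∣ Nat.card M) : Spec M where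
  dvd := (card_subgroup_dvd_card M).trans S.dvd
  seven := h7
  no9 g := by rw [← orderOf_coe]; exact S.no9 _
  no14 g := by rw [← orderOf_coe]; exact S.no14 _
  no21 g := by rw [← orderOf_coe]; exact S.no21 _

/-- Fixed points of a conjugation on an abelian group of exponent two. -/
theorem sq_fix_ge (A : Subgroup G) [hA : A.Normal] (hab : ∀ a ∈ A, ∀ b ∈ A, a * b = b * a)
    (h2 : ∀ a ∈ A, a * a = 1) {x : G} (hx : x * x = 1) :
    Nat.card A ≤ Nat.card (A ⊓ centralizer ({x} : Set G) : Subgroup G) *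
      Nat.card (A ⊓ centralizer ({x} : Set G) : Subgroup G) := by
  classical
  have hxi : x⁻¹ = x := inv_eq_of_mul_eq_one_right hx
  let f : A →* A :=
    { toFun := fun a => ⟨(a : G) * (x * a * x⁻¹), mul_mem a.2 (hA.conj_mem _ a.2 x)⟩
      map_one' := by ext; simp
      map_mul' := fun a b => by
        ext
        show (a : G) * b * (x * (a * b) * x⁻¹) =
          (a : G) * (x * a * x⁻¹) * ((b : G) * (x * b * x⁻¹))
        have hcomm := hab _ b.2 _ (hA.conj_mem _ a.2 x)
        calc (a : G) * b * (x * (a * b) * x⁻¹) = a * (b * (x * a * x⁻¹)) * (x * b * x⁻¹) := by group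
          _ = a * ((x * a * x⁻¹) * b) * (x * b * x⁻¹) := by rw [hcomm]
          _ = a * (x * a * x⁻¹) * (b * (x * b * x⁻¹)) := by group }
  let F := A ⊓ centralizer ({x} : Set G)
  have hker : f.ker ≤ F.subgroupOf A := fun a ha => by
    rw [MonoidHom.mem_ker, Subtype.ext_iff] at ha
    refine ⟨a.2, mem_centralizer_singleton_iff.2 ?_⟩
    have h1 : (a : G) * (x * a * x⁻¹) = 1 := ha
    have h3 : x * (a : G) * x⁻¹ = a := by
      rw [← inv_eq_of_mul_eq_one_right h1]
      exact inv_eq_of_mul_eq_one_right (h2 _ a.2)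
    exact (mul_inv_eq_iff_eq_mul.1 h3).symm
  have hran : f.range ≤ F.subgroupOf A := by
    rintro _ ⟨a, rfl⟩
    refine ⟨(f a).2, mem_centralizer_singleton_iff.2 ?_⟩
    show (a : G) * (x * a * x⁻¹) * x = x * ((a : G) * (x * a * x⁻¹))
    have hcomm := hab _ (hA.conj_mem _ a.2 x) _ a.2
    calc (a : G) * (x * a * x⁻¹) * x = (x * a * x⁻¹) * a * x := by rw [← hcomm]
      _ = x * a * x⁻¹ * a * (x⁻¹ * x * x) := by group
      _ = x * a * x⁻¹ * a * x⁻¹ := by rw [mul_assoc x⁻¹, hx, mul_one]
      _ = x * ((a : G) * (x⁻¹ * a * x⁻¹)) := by group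
      _ = x * ((a : G) * (x * a * x⁻¹)) := by rw [hxi]
  have hF : Nat.card (F.subgroupOf A) = Nat.card F :=
    Nat.card_congr (subgroupOfEquivOfLe (inf_le_left : F ≤ A)).toEquiv
  calc Nat.card A = Nat.card f.ker * f.ker.index := f.ker.card_mul_index.symm
    _ = Nat.card f.ker * Nat.card f.range := by rw [index_ker]
    _ ≤ Nat.card (F.subgroupOf A) * Nat.card (F.subgroupOf A) :=
      Nat.mul_le_mul (card_le_of_le hker) (card_le_of_le hran)
    _ = _ := by rw [hF]

/-- Two subgroups with trivial intersection inside `A`. -/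
theorem mul_card_le {A H K : Subgroup G} (hH : H ≤ A) (hK : K ≤ A) (h : H ⊓ K = ⊥) :
    Nat.card H * Nat.card K ≤ Nat.card A := by
  rw [← Nat.card_prod]
  refine Nat.card_le_card_of_injective
    (fun p : H × K => (⟨(p.1 : G) * p.2, mul_mem (hH p.1.2) (hK p.2.2)⟩ : A)) fun p q e => ?_
  have e' : (p.1 : G) * p.2 = q.1 * q.2 := congrArg Subtype.val e
  have e'' : (q.1 : G)⁻¹ * p.1 = q.2 * (p.2 : G)⁻¹ := by
    calc (q.1 : G)⁻¹ * p.1 = (q.1 : G)⁻¹ * (p.1 * p.2) * (p.2 : G)⁻¹ := by group
      _ = _ := by rw [e']; group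
  have hm : (q.1 : G)⁻¹ * p.1 ∈ H ⊓ K :=
    Subgroup.mem_inf.2 ⟨H.mul_mem (H.inv_mem q.1.2) p.1.2,
      e''.symm ▸ K.mul_mem q.2.2 (K.inv_mem p.2.2)⟩
  rw [h, mem_bot, inv_mul_eq_one] at hm
  refine Prod.ext (Subtype.ext hm.symm) (Subtype.ext ?_)
  rw [hm] at e'
  exact mul_left_cancel e'

variable (S : Spec G) (hc : Nat.card G = 12096) (h4 : ∃ g : G, orderOf g = 4)

include S hc

theorem n_seven [Fact (Nat.Prime 7)] (P : Sylow 7 G) :
    Nat.card (Sylow 7 G) = 288 ∧
      Nat.card (normalizer ((P : Subgroup G) : Set G)) = 42 := by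
  obtain ⟨e, he6, hN, -, hn7, hmod⟩ := S.exists_e P
  rw [hc] at hn7
  have : e ≤ 6 := Nat.le_of_dvd (by norm_num) he6
  interval_cases e <;> first | omega | norm_num at he6

include h4 in
theorem seven_dvd_normal {M : Subgroup G} (hM : M.Normal) (hne : M ≠ ⊥) : 7 ∣ Nat.card M := by
  by_contra h7
  haveI : Fact (Nat.Prime 7) := ⟨by norm_num⟩
  haveI := Fact.mk Nat.prime_two
  haveI := Fact.mk Nat.prime_three
  obtain ⟨A, hAn, hA, hAM, hmin⟩ := Hall.exists_minimal_normal_le M hne
  haveI := hAn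
  have h7A : ¬ 7 ∣ Nat.card A := fun h => h7 (h.trans (card_dvd_of_le hAM))
  have hd : Nat.card A ∣ 1728 := by
    have h := (card_subgroup_dvd_card A).trans S.dvd
    rw [show (12096 : ℕ) = 7 * 1728 by norm_num] at h
    exact Nat.Coprime.dvd_of_dvd_mul_left
      (((Nat.Prime.coprime_iff_not_dvd (by norm_num)).2 h7A).symm) h
  have hsol : Group.IsSolvable A := H67.TwoR.isSolvable_two_primes 2 3 Nat.prime_two Nat.prime_three
    fun d hd' hdp => by
      have h := hdp.trans hd
      rw [show (1728 : ℕ) = 2 ^ 6 * 3 ^ 3 by norm_num, hd'.dvd_mul] at h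
      rcases h with h | h
      · exact Or.inl ((Nat.prime_dvd_prime_iff_eq hd' Nat.prime_two).1 (hd'.dvd_of_dvd_pow h))
      · exact Or.inr ((Nat.prime_dvd_prime_iff_eq hd' Nat.prime_three).1 (hd'.dvd_of_dvd_pow h))
  obtain ⟨hab, q, hq, hAq, hexp⟩ := Hall.minimal_normal_elementary hA hmin hsol
  haveI := Fact.mk hq
  obtain ⟨k, hk⟩ := hAq.exists_card_eq
  -- congruence from the action of an element of order seven
  obtain ⟨P⟩ := Sylow.nonempty (p := 7) (G := G)
  obtain ⟨y, hy, -⟩ := S.exists_gen P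
  have hcong : Nat.card A % 7 = 1 := by
    let φ : zpowers y →* MulAut A := (MulAut.conjNormal).comp (zpowers y).subtype
    letI : MulAction (zpowers y) A := MulAction.compHom A φ
    have hp : IsPGroup 7 (zpowers y) :=
      IsPGroup.of_card (n := 1) (by rw [Nat.card_zpowers, hy, pow_one])
    have hfix := hp.card_modEq_card_fixedPoints A
    have hone : Nat.card (MulAction.fixedPoints (zpowers y) A) = 1 := by
      rw [Nat.card_eq_one_iff_unique]
      refine ⟨⟨fun a b => ?_⟩, ⟨⟨1, fun g => map_one (φ g)⟩⟩⟩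
      suffices h : ∀ a : MulAction.fixedPoints (zpowers y) A, (a.1 : G) = 1 by
        exact Subtype.ext (Subtype.ext ((h a).trans (h b).symm))
      rintro ⟨⟨a, haA⟩, ha⟩
      have hay : y * a * y⁻¹ = a := congrArg Subtype.val (ha ⟨y, mem_zpowers y⟩)
      have hc' : a ∈ centralizer ({y} : Set G) :=
        mem_centralizer_singleton_iff.2 (mul_inv_eq_iff_eq_mul.1 hay).symm
      rw [S.centralizer_elt hy] at hc'
      by_contra hne1
      have ho := Subgroup.orderOf_dvd_natCard _ hc'
      rw [Nat.card_zpowers, hy] at ho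
      rcases (Nat.dvd_prime (by norm_num)).1 ho with h | h
      · exact hne1 (orderOf_eq_one_iff.1 h)
      · exact h7A (h ▸ Subgroup.orderOf_dvd_natCard _ haA)
    rw [hone] at hfix
    exact hfix
  rw [hk] at hcong hd
  have hk0 : k ≠ 0 := by
    rintro rfl
    exact hA (Subgroup.card_eq_one.1 (by rw [hk, pow_zero]))
  have hq23 : q = 2 ∨ q = 3 := by
    have h := (dvd_pow_self q hk0).trans hd
    rw [show (1728 : ℕ) = 2 ^ 6 * 3 ^ 3 by norm_num, hq.dvd_mul] at h
    rcases h with h | h
    · exact Or.inl ((Nat.prime_dvd_prime_iff_eq hq Nat.prime_two).1 (hq.dvd_of_dvd_pow h))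
    · exact Or.inr ((Nat.prime_dvd_prime_iff_eq hq Nat.prime_three).1 (hq.dvd_of_dvd_pow h))
  rcases hq23 with rfl | rfl
  swap
  · have h3 : 3 ^ k ∣ 3 ^ 3 := by
      rw [show (1728 : ℕ) = 3 ^ 3 * 2 ^ 6 by norm_num] at hd
      exact (Nat.Coprime.pow k 6 (by norm_num)).dvd_of_dvd_mul_right hd
    have hk3 : k ≤ 3 := (Nat.pow_dvd_pow_iff_le_right (by norm_num)).1 h3
    interval_cases k <;> omega
  have h2 : 2 ^ k ∣ 2 ^ 6 := by
    rw [show (1728 : ℕ) = 2 ^ 6 * 3 ^ 3 by norm_num] at hd
    exact (Nat.Coprime.pow k 3 (by norm_num)).dvd_of_dvd_mul_right hd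
  have hk6 : k ≤ 6 := (Nat.pow_dvd_pow_iff_le_right (by norm_num)).1 h2
  have hcases : k = 3 ∨ k = 6 := by interval_cases k <;> omega
  rcases hcases with rfl | rfl
  · -- order eight
    obtain ⟨-, hN⟩ := n_seven S hc P
    obtain ⟨x, hx, hxy⟩ := S.exists_inverter P (by rw [hN]; norm_num) hy
    have hxx : x * x = 1 := by rw [← pow_two, ← hx, pow_orderOf_eq_one]
    have hab' : ∀ a ∈ A, ∀ b ∈ A, a * b = b * a := fun a ha b hb =>
      congrArg Subtype.val (hab.is_comm.comm ⟨a, ha⟩ ⟨b, hb⟩)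
    have hsq : ∀ a ∈ A, a * a = 1 := fun a ha => by rw [← pow_two]; exact hexp a ha
    have hx' : (y * x * y⁻¹) * (y * x * y⁻¹) = 1 := by
      calc (y * x * y⁻¹) * (y * x * y⁻¹) = y * (x * x) * y⁻¹ := by group
        _ = 1 := by rw [hxx]; group
    have b1 := sq_fix_ge A hab' hsq hxx
    have b2 := sq_fix_ge A hab' hsq hx'
    have hbot : (A ⊓ centralizer ({x} : Set G)) ⊓
        (A ⊓ centralizer ({y * x * y⁻¹} : Set G)) = ⊥ := by
      rw [Subgroup.eq_bot_iff_forall]
      intro a ha
      obtain ⟨h1, h2⟩ := Subgroup.mem_inf.1 ha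
      obtain ⟨haA, hax⟩ := Subgroup.mem_inf.1 h1
      obtain ⟨-, hax'⟩ := Subgroup.mem_inf.1 h2
      rw [mem_centralizer_singleton_iff] at hax hax'
      by_contra hne1
      have hyy : x * (y * x * y⁻¹) = y⁻¹ * y⁻¹ := by
        calc x * (y * x * y⁻¹) = x * y * x⁻¹ * (x * x) * y⁻¹ := by group
          _ = _ := by rw [hxy, hxx, mul_one]
      have hac : a * (y⁻¹ * y⁻¹) = y⁻¹ * y⁻¹ * a := by
        rw [← hyy, ← mul_assoc, hax, mul_assoc, hax', ← mul_assoc]
      have ha' : a ∈ centralizer ({y⁻¹ * y⁻¹} : Set G) := mem_centralizer_singleton_iff.2 hac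
      have ho : orderOf (y⁻¹ * y⁻¹) = 7 := by
        rw [← pow_two, orderOf_pow' _ (by norm_num), orderOf_inv, hy]
        norm_num
      rw [S.centralizer_elt ho] at ha'
      have ho' := Subgroup.orderOf_dvd_natCard _ ha'
      rw [Nat.card_zpowers, ho] at ho'
      rcases (Nat.dvd_prime (by norm_num)).1 ho' with h | h
      · exact hne1 (orderOf_eq_one_iff.1 h)
      · exact h7A (h ▸ Subgroup.orderOf_dvd_natCard _ haA)
    have h3 := mul_card_le (A := A) inf_le_left inf_le_left hbot
    rw [hk] at b1 b2 h3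
    generalize Nat.card (A ⊓ centralizer ({x} : Set G) : Subgroup G) = n1 at b1 h3
    generalize Nat.card (A ⊓ centralizer ({y * x * y⁻¹} : Set G) : Subgroup G) = n2 at b2 h3
    norm_num at b1 b2 h3
    have c1 : 3 ≤ n1 := by nlinarith
    have c2 : 3 ≤ n2 := by nlinarith
    nlinarith
  · -- order sixty four
    obtain ⟨g, hg⟩ := h4
    obtain ⟨Q, hQ⟩ : ∃ Q : Sylow 2 G, zpowers g ≤ (Q : Subgroup G) :=
      (IsPGroup.of_card (n := 2) (by rw [Nat.card_zpowers, hg]; norm_num)).exists_le_sylow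
    have hQc : Nat.card (Q : Subgroup G) = 64 :=
      (H36.card_sylow_eq (a := 6) hc Q (m := 189) (by norm_num) (by norm_num)).trans (by norm_num)
    obtain ⟨Q', hQ'⟩ : ∃ Q' : Sylow 2 G, A ≤ (Q' : Subgroup G) := hAq.exists_le_sylow
    have hAQ' : A = (Q' : Subgroup G) := eq_of_le_of_card_ge hQ' (by
      rw [hk, H36.card_sylow_eq (a := 6) hc Q' (m := 189) (by norm_num) (by norm_num)])
    obtain ⟨c, hc'⟩ := MulAction.exists_smul_eq G Q' Q
    have hgA : g ∈ A := by
      have h := hQ (mem_zpowers g)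
      rw [← hc', Sylow.coe_subgroup_smul, ← hAQ'] at h
      obtain ⟨a, ha, he⟩ := h
      rw [← he]
      exact hAn.conj_mem a ha c
    have := orderOf_dvd_of_pow_eq_one (hexp g hgA)
    rw [hg] at this
    norm_num at this

include h4 in
/-- The simple normal subgroup. -/
theorem exists_simple : ∃ M : Subgroup G, M.Normal ∧ IsSimpleGroup M ∧ Nat.card M = 6048 ∧
    Spec M ∧ ∃ f : G →* MulAut M, Function.Injective f := by
  classical
  haveI : Fact (Nat.Prime 7) := ⟨by norm_num⟩
  have htop : (⊤ : Subgroup G) ≠ ⊥ := by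
    intro h
    have h' : Nat.card (⊤ : Subgroup G) = 1 := by rw [h]; exact Subgroup.card_bot
    rw [Subgroup.card_top, hc] at h'
    norm_num at h'
  obtain ⟨M, hMn, hM, -, hmin⟩ := Hall.exists_minimal_normal_le (⊤ : Subgroup G) htop
  haveI := hMn
  have h7 := seven_dvd_normal S hc h4 hMn hM
  have hall : ∀ y : G, orderOf y = 7 → y ∈ M := by
    intro y hy
    by_contra hyM
    have hd : 7 ∣ M.index := by
      have hym : orderOf (QuotientGroup.mk' M y) ∣ 7 := hy ▸ orderOf_map_dvd _ y
      rcases (Nat.dvd_prime (by norm_num)).1 hym with h | h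
      · exact absurd ((QuotientGroup.eq_one_iff y).1 (orderOf_eq_one_iff.1 h)) hyM
      · rw [index_eq_card, ← h]; exact orderOf_dvd_natCard _
    exact S.not_sq (by rw [← M.card_mul_index]; exact Nat.mul_dvd_mul h7 hd)
  have SM := S.of_subgroup M h7
  -- normal subgroups of `M`
  have hnormal : ∀ K : Subgroup M, K.Normal → 7 ∣ Nat.card K → K = ⊤ := by
    intro K hK hK7
    have hmem : ∀ y : M, orderOf y = 7 → y ∈ K := by
      intro y hy
      obtain ⟨Q, hQ⟩ : ∃ Q : Sylow 7 M, zpowers y ≤ (Q : Subgroup M) :=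
        (IsPGroup.of_card (n := 1) (by rw [Nat.card_zpowers, hy, pow_one])).exists_le_sylow
      obtain ⟨⟨z, hz⟩, hzo⟩ := exists_prime_orderOf_dvd_card' (G := K) 7 hK7
      rw [Subgroup.orderOf_mk] at hzo
      obtain ⟨R, hR⟩ : ∃ R : Sylow 7 M, zpowers z ≤ (R : Subgroup M) :=
        (IsPGroup.of_card (n := 1) (by rw [Nat.card_zpowers, hzo, pow_one])).exists_le_sylow
      have hRK : (R : Subgroup M) ≤ K := by
        rw [← eq_of_le_of_card_ge hR (by rw [Nat.card_zpowers, hzo, SM.card_sylow R])]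
        exact zpowers_le.2 hz
      obtain ⟨c, hc'⟩ := MulAction.exists_smul_eq M R Q
      have h := hQ (mem_zpowers y)
      rw [← hc', Sylow.coe_subgroup_smul] at h
      obtain ⟨a, ha, rfl⟩ := h
      exact hK.conj_mem a (hRK ha) c
    let L : Subgroup G := normalClosure {y | orderOf y = 7}
    have hLK : L ≤ K.map M.subtype := by
      show Subgroup.closure _ ≤ _
      rw [closure_le]
      intro y hy
      obtain ⟨a, ha, hay⟩ := Group.mem_conjugatesOfSet_iff.1 hy
      obtain ⟨c, rfl⟩ := isConj_iff.1 hay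
      have ho : orderOf (c * a * c⁻¹) = 7 := by rw [orderOf_conj_eq]; exact ha
      exact ⟨⟨_, hall _ ho⟩, hmem _ (by rw [← orderOf_coe]; exact ho), rfl⟩
    rcases hmin L inferInstance (hLK.trans (map_subtype_le K)) with h | h
    · exfalso
      obtain ⟨y, hy⟩ := exists_prime_orderOf_dvd_card' (G := G) 7 S.seven
      have hyL : y ∈ L := subset_normalClosure hy
      rw [h, mem_bot] at hyL
      rw [hyL, orderOf_one] at hy
      norm_num at hy
    · rw [h] at hLK
      rw [eq_top_iff]
      rintro ⟨m, hm⟩ -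
      obtain ⟨k, hk, he⟩ := hLK hm
      rwa [show (⟨m, hm⟩ : M) = k from Subtype.ext he.symm]
  haveI : Nontrivial M := (nontrivial_iff_ne_bot M).2 hM
  have hsimple : IsSimpleGroup M := by
    refine ⟨fun K hK => ?_⟩
    by_contra hcon
    push Not at hcon
    obtain ⟨hKb, hKt⟩ := hcon
    let T : Set (Subgroup M) := {K' | K'.Normal ∧ ¬ 7 ∣ Nat.card K'}
    obtain ⟨R, hR⟩ := T.toFinite.exists_maximal ⟨K, hK, fun h => hKt (hnormal K hK h)⟩
    obtain ⟨hRn, hR7⟩ := hR.prop
    haveI := hRn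
    have hinv : ∀ g : G, ∀ r ∈ R, (MulAut.conjNormal g : MulAut M) r ∈ R := by
      intro g r hr
      let R' : Subgroup M := R.map (MulAut.conjNormal g : MulAut M).toMonoidHom
      haveI : R'.Normal := hRn.map _ (MulEquiv.surjective _)
      have h' : ¬ 7 ∣ Nat.card (R ⊔ R' : Subgroup M) := by
        intro h
        have hd := h.trans (Dvd.intro (Nat.card (R ⊓ R' : Subgroup M))
          (Cfsg.Agent.Cores.card_sup_mul_card_inf R R'))
        rcases (Nat.Prime.dvd_mul (by norm_num)).1 hd with h1 | h1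
        · exact hR7 h1
        · refine hR7 ?_
          rwa [card_map_of_injective (f := (MulAut.conjNormal g : MulAut M).toMonoidHom)
            (MulEquiv.injective _)] at h1
      exact (hR.le_of_ge (⟨inferInstance, h'⟩ : R ⊔ R' ∈ T) le_sup_left)
        (mem_sup_right ⟨r, hr, rfl⟩)
    let RG : Subgroup G := R.map M.subtype
    haveI : RG.Normal := ⟨by
      rintro _ ⟨r, hr, rfl⟩ g
      exact ⟨_, hinv g r hr, MulAut.conjNormal_apply g r⟩⟩
    rcases hmin RG inferInstance (map_subtype_le R) with h | h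
    · have hRb : R = ⊥ := (map_eq_bot_iff_of_injective _ M.subtype_injective).1 h
      have hKR : K ≤ R := hR.le_of_ge ⟨hK, fun h => hKt (hnormal K hK h)⟩ (hRb ▸ bot_le)
      exact hKb (le_bot_iff.1 (hRb ▸ hKR))
    · refine hR7 ?_
      rw [Nat.card_congr (R.equivMapOfInjective _ M.subtype_injective).toEquiv]
      show 7 ∣ Nat.card RG
      rw [h]; exact h7
  -- the centraliser
  obtain ⟨P⟩ := Sylow.nonempty (p := 7) (G := G)
  obtain ⟨hn288, hN42⟩ := n_seven S hc P
  have hM7 : Nat.card M ≠ 7 := by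
    intro hM7
    obtain ⟨Q, hQ⟩ : ∃ Q : Sylow 7 G, M ≤ (Q : Subgroup G) :=
      (IsPGroup.of_card (n := 1) (by rw [hM7, pow_one])).exists_le_sylow
    have hQe : M = (Q : Subgroup G) := eq_of_le_of_card_ge hQ (by rw [hM7, S.card_sylow Q])
    have hN : normalizer ((Q : Subgroup G) : Set G) = ⊤ := by
      rw [← hQe, eq_top_iff]; exact fun g _ => mem_normalizer_iff.2 fun m =>
        ⟨fun hm => hMn.conj_mem m hm g, fun hm => by
          have h := hMn.conj_mem _ hm g⁻¹
          simpa [mul_assoc] using h⟩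
    have hN' := (n_seven S hc Q).2
    rw [hN, Subgroup.card_top, hc] at hN'
    norm_num at hN'
  have hcent : centralizer (M : Set G) = ⊥ := by
    by_contra hC
    haveI : (centralizer (M : Set G)).Normal := inferInstance
    have h7C := seven_dvd_normal S hc h4 inferInstance hC
    obtain ⟨⟨y, hy⟩, hyo⟩ := exists_prime_orderOf_dvd_card' (G := centralizer (M : Set G)) 7 h7C
    rw [Subgroup.orderOf_mk] at hyo
    apply hM7
    have hle : M ≤ zpowers y := by
      rw [← S.centralizer_elt hyo]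
      exact fun m hm => mem_centralizer_singleton_iff.2 (mem_centralizer_iff.1 hy m hm)
    rw [eq_of_le_of_card_ge hle (by
      rw [Nat.card_zpowers, hyo]; exact Nat.le_of_dvd Nat.card_pos h7), Nat.card_zpowers, hyo]
  let f : G →* MulAut M := MulAut.conjNormal
  have hf : Function.Injective f := by
    rw [injective_iff_map_eq_one]
    intro g hg
    rw [← mem_bot, ← hcent, mem_centralizer_iff]
    intro m hm
    have h := congrArg Subtype.val (DFunLike.congr_fun hg ⟨m, hm⟩)
    rw [MulAut.conjNormal_apply] at h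
    exact (mul_inv_eq_iff_eq_mul.1 h).symm
  -- the order
  obtain ⟨Q⟩ := Sylow.nonempty (p := 7) (G := M)
  obtain ⟨e, he6, hNQ, -, hn7, hmod⟩ := SM.exists_e Q
  have h288 : 288 ∣ Nat.card M := by
    have hsup := Q.normalizer_sup_eq_top
    have hd : Nat.card G ∣
        Nat.card (normalizer (((Q : Subgroup M).map M.subtype : Subgroup G) : Set G)) * Nat.card M := by
      have h := Cfsg.Agent.Cores.card_sup_mul_card_inf
        (normalizer (((Q : Subgroup M).map M.subtype : Subgroup G) : Set G)) M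
      rw [hsup, Subgroup.card_top] at h
      exact Dvd.intro _ h
    obtain ⟨R, hR⟩ : ∃ R : Sylow 7 G, (Q : Subgroup M).map M.subtype ≤ (R : Subgroup G) :=
      (Q.2.map M.subtype).exists_le_sylow
    have hRe : (Q : Subgroup M).map M.subtype = (R : Subgroup G) := eq_of_le_of_card_ge hR (by
      rw [card_map_of_injective (f := M.subtype) M.subtype_injective, SM.card_sylow Q,
        S.card_sylow R])
    rw [hRe, (n_seven S hc R).2, hc, show (12096 : ℕ) = 42 * 288 by norm_num] at hd
    exact Nat.dvd_of_mul_dvd_mul_left (by norm_num) hd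
  have hle : Nat.card M ≤ 12096 := Nat.le_of_dvd (by norm_num) SM.dvd
  have h2016 : 2016 ∣ Nat.card M := by
    have := Nat.Coprime.mul_dvd_of_dvd_of_dvd (by norm_num : Nat.Coprime 7 288) h7 h288
    norm_num at this
    exact this
  obtain ⟨j, hj⟩ := h2016
  have hjd : j ∣ 6 := Nat.dvd_of_mul_dvd_mul_left (by norm_num : (0 : ℕ) < 2016)
    (hj ▸ SM.dvd : 2016 * j ∣ 2016 * 6)
  have hMnot : ¬ (Nat.card M).Prime := fun hp => hM7
    ((Nat.prime_dvd_prime_iff_eq (by norm_num) hp).1 h7).symm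
  have hna := H36.not_comm_of_simple hMnot
  haveI := hsimple
  have hj6 : j ≤ 6 := Nat.le_of_dvd (by norm_num) hjd
  have hj3 : j = 3 := by
    interval_cases j
    · norm_num at hjd
    · exfalso
      have he : e = 1 := by
        rw [hj] at hn7
        have : e ≤ 6 := Nat.le_of_dvd (by norm_num) he6
        interval_cases e <;> first | omega | norm_num at he6
      refine H36.not_normalizer_le_centralizer hna Q h7 ?_
      rw [SM.centralizer_sylow Q]
      exact (eq_of_le_of_card_ge le_normalizer (by rw [hNQ, he, SM.card_sylow Q])).ge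
    · exfalso
      haveI := Fintype.ofFinite M
      exact not_simple_4032 SM (by rw [hj])
    · rfl
    · norm_num at hjd
    · norm_num at hjd
    · exfalso
      haveI := Fintype.ofFinite M
      exact not_simple_12096 SM (by rw [hj])
  exact ⟨M, hMn, hsimple, by rw [hj, hj3], SM, f, hf⟩

end Cfsg.Agent.Compute.G22
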