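import Cfsg.Agent.Compute.G22.Arith

/-!
Soundness of the searches.
-/

set_option autoImplicit false

namespace Cfsg.Agent.Compute.G22

theorem tbl_mem {F a : ℤ} (hF : F ∈ degs) (ha : a ∈ vals F) : a ∈ tbl F := by
  rw [tbl_eq F hF]; exact ha

theorem mem_vals {F a : ℤ} (h1 : (4 : ℤ) ∣ F.natAbs - a) (h2 : a * a < F * F)
    (h3 : a * a ≤ 1728) : a ∈ vals F := by
  have h4 : -(F.natAbs : ℤ) < a ∧ a < F.natAbs := by
    rcases Int.natAbs_eq F with e | e <;> constructor <;> nlinarith
  refine List.mem_filter.2 ⟨List.mem_map.2 ⟨(a + F.natAbs).toNat, List.mem_range.2 ?_, ?_⟩, ?_⟩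
  · omega
  · omega
  · rw [Bool.and_eq_true, Bool.and_eq_true]
    exact ⟨⟨decide_eq_true h1, decide_eq_true h2⟩, decide_eq_true h3⟩

theorem vals_spec {F a : ℤ} (h : a ∈ vals F) : (4 : ℤ) ∣ F.natAbs - a ∧ a * a < F * F := by
  simp only [vals, List.mem_filter, Bool.and_eq_true, decide_eq_true_eq] at h
  exact ⟨h.2.1.1, h.2.1.2⟩

theorem sgn_mul_self (F : ℤ) : sgn F * sgn F = 1 := by
  unfold sgn; split <;> norm_num

theorem leaf_sound {sq T k : ℤ} {acc : List (ℤ × ℤ)} (hk : k ∈ centOrders) (hle : sq ≤ k)
    (hT : k * k = T) (h : leaf sq T acc = true) : acc.reverse = surv := by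
  have h864 : k ≤ 864 := by
    have : ∀ k ∈ centOrders, k ≤ (864 : ℤ) := by decide
    exact this k hk
  simp only [leaf, Bool.or_eq_true, decide_eq_true_eq, List.all_eq_true] at h
  rcases h with (h | h) | h
  · omega
  · rcases h k hk with h | h
    · exact absurd hT h
    · omega
  · exact h

theorem go_sound : ∀ (R : List (ℤ × ℤ)) (pF pa lin sq T k : ℤ) (acc : List (ℤ × ℤ)),
    go (R.map Prod.fst) pF pa lin sq T acc = true →
    List.Pairwise (fun p q : ℤ × ℤ => p.1 = q.1 → p.2 ≤ q.2) ((pF, pa) :: R) →
    (∀ p ∈ R, p.1 ∈ degs ∧ p.2 ∈ vals p.1) →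
    lin + (R.map fun p => sgn p.1 * p.2).sum = 0 →
    k ∈ centOrders → sq + (R.map fun p => p.2 * p.2).sum ≤ k →
    k * k = T + (R.map fun p => p.2 * p.2 * (1728 / p.1)).sum →
    acc.reverse ++ R = surv := by
  intro R
  induction R with
  | nil =>
    intro pF pa lin sq T k acc h _ _ hlin hk hle hT
    simp only [List.map_nil, List.sum_nil, add_zero] at hlin hle hT h
    simp only [go, hlin, ne_eq, not_true_eq_false, decide_false, Bool.false_or] at h
    rw [List.append_nil]
    exact leaf_sound hk hle hT h
  | cons p R ih =>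
    intro pF pa lin sq T k acc h hsort hmem hlin hk hle hT
    obtain ⟨hF, ha⟩ := hmem p (List.mem_cons_self ..)
    obtain ⟨F, a⟩ := p
    have hchain : ¬ (F = pF ∧ a < pa) := fun hh => by
      have := (List.pairwise_cons.1 hsort).1 (F, a) (List.mem_cons_self ..) hh.1.symm
      exact absurd this (not_le.2 hh.2)
    simp only [List.map_cons, List.sum_cons] at hlin hle hT h
    rcases R with _ | ⟨q, R'⟩
    · simp only [List.map_nil, List.sum_nil, add_zero] at hlin hle hT h
      simp only [go] at h
      have ha' : -(lin * sgn F) = a := by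
        have e := sgn_mul_self F
        linear_combination (-sgn F) * hlin + a * e
      rw [ha'] at h
      simp only [Bool.or_eq_true, Bool.and_eq_true, decide_eq_true_eq] at h
      obtain ⟨h4, hlt⟩ := vals_spec ha
      rcases h with ((h | h) | h) | h
      · exact absurd h hchain
      · exact absurd h4 h
      · exact absurd hlt (not_lt.2 h)
      · have := leaf_sound hk hle hT h
        rwa [List.reverse_cons] at this
    · have hstep : ((decide (F = pF) && decide (a < pa)) || decide (864 < sq + a * a) ||
          go ((q :: R').map Prod.fst) F a (lin + sgn F * a) (sq + a * a)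
            (T + a * a * (1728 / F)) ((F, a) :: acc)) = true := by
        simp only [List.map_cons, go, List.all_eq_true] at h
        exact h a (tbl_mem hF ha)
      simp only [Bool.or_eq_true, Bool.and_eq_true, decide_eq_true_eq] at hstep
      rcases hstep with (h | h) | h
      · exact absurd h hchain
      · exfalso
        have h864 : k ≤ 864 := by
          have : ∀ k ∈ centOrders, k ≤ (864 : ℤ) := by decide
          exact this k hk
        have h0 : 0 ≤ ((q :: R').map fun p : ℤ × ℤ => p.2 * p.2).sum :=
          List.sum_nonneg fun x hx => by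
            obtain ⟨y, -, rfl⟩ := List.mem_map.1 hx
            exact mul_self_nonneg _
        omega
      · have := ih F a _ _ _ k _ h (List.pairwise_cons.1 hsort).2
          (fun p hp => hmem p (List.mem_cons_of_mem _ hp)) (by rw [← hlin]; ring) hk
          (le_trans (le_of_eq (by ring)) hle) (hT.trans (by ring))
        rw [List.reverse_cons, List.append_assoc] at this
        exact this

end Cfsg.Agent.Compute.G22
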