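import Cfsg.Agent.Compute.G22.WDefs

/-!
The search for representative 6.
-/

set_option autoImplicit false
set_option Elab.async false

namespace Cfsg.Agent.Compute.G22

theorem search_6_0_0 : searchB 6 0 0 [] = true := by decide +kernel
theorem search_6_0_1 : searchB 6 0 1 [] = true := by decide +kernel
theorem search_6_0_2 : searchB 6 0 2 [] = true := by decide +kernel
theorem search_6_0_3 : searchB 6 0 3 [] = true := by decide +kernel
theorem search_6_0_4 : searchB 6 0 4 [] = true := by decide +kernel
theorem search_6_0_5 : searchB 6 0 5 [] = true := by decide +kernel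
theorem search_6_0_6 : searchB 6 0 6 [] = true := by decide +kernel
theorem search_6_0_7 : searchB 6 0 7 [] = true := by decide +kernel

theorem search_6_0 : searchRow 6 0 [] = true := by
  simp only [searchRow, List.all_eq_true, List.mem_range]
  intro sb h
  rcases (by omega : sb = 0 ∨ sb = 1 ∨ sb = 2 ∨ sb = 3 ∨ sb = 4 ∨ sb = 5 ∨ sb = 6 ∨ sb = 7) with
    rfl | rfl | rfl | rfl | rfl | rfl | rfl | rfl
  · exact search_6_0_0
  · exact search_6_0_1
  · exact search_6_0_2
  · exact search_6_0_3
  · exact search_6_0_4
  · exact search_6_0_5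
  · exact search_6_0_6
  · exact search_6_0_7

theorem search_6_1_0 : searchB 6 1 0 [] = true := by decide +kernel
theorem search_6_1_1 : searchB 6 1 1 [] = true := by decide +kernel
theorem search_6_1_2 : searchB 6 1 2 [] = true := by decide +kernel
theorem search_6_1_3 : searchB 6 1 3 [] = true := by decide +kernel
theorem search_6_1_4 : searchB 6 1 4 [] = true := by decide +kernel
theorem search_6_1_5 : searchB 6 1 5 [] = true := by decide +kernel
theorem search_6_1_6 : searchB 6 1 6 [] = true := by decide +kernel
theorem search_6_1_7 : searchB 6 1 7 [] = true := by decide +kernel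

theorem search_6_1 : searchRow 6 1 [] = true := by
  simp only [searchRow, List.all_eq_true, List.mem_range]
  intro sb h
  rcases (by omega : sb = 0 ∨ sb = 1 ∨ sb = 2 ∨ sb = 3 ∨ sb = 4 ∨ sb = 5 ∨ sb = 6 ∨ sb = 7) with
    rfl | rfl | rfl | rfl | rfl | rfl | rfl | rfl
  · exact search_6_1_0
  · exact search_6_1_1
  · exact search_6_1_2
  · exact search_6_1_3
  · exact search_6_1_4
  · exact search_6_1_5
  · exact search_6_1_6
  · exact search_6_1_7

theorem search_6_2_0 : searchB 6 2 0 [] = true := by decide +kernel
theorem search_6_2_1 : searchB 6 2 1 [] = true := by decide +kernel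
theorem search_6_2_2 : searchB 6 2 2 [] = true := by decide +kernel
theorem search_6_2_3 : searchB 6 2 3 [] = true := by decide +kernel
theorem search_6_2_4 : searchB 6 2 4 [] = true := by decide +kernel
theorem search_6_2_5 : searchB 6 2 5 [] = true := by decide +kernel
theorem search_6_2_6 : searchB 6 2 6 [] = true := by decide +kernel
theorem search_6_2_7 : searchB 6 2 7 [] = true := by decide +kernel

theorem search_6_2 : searchRow 6 2 [] = true := by
  simp only [searchRow, List.all_eq_true, List.mem_range]
  intro sb h
  rcases (by omega : sb = 0 ∨ sb = 1 ∨ sb = 2 ∨ sb = 3 ∨ sb = 4 ∨ sb = 5 ∨ sb = 6 ∨ sb = 7) with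
    rfl | rfl | rfl | rfl | rfl | rfl | rfl | rfl
  · exact search_6_2_0
  · exact search_6_2_1
  · exact search_6_2_2
  · exact search_6_2_3
  · exact search_6_2_4
  · exact search_6_2_5
  · exact search_6_2_6
  · exact search_6_2_7

theorem search_6_3_0 : searchB 6 3 0 [] = true := by decide +kernel
theorem search_6_3_1 : searchB 6 3 1 [] = true := by decide +kernel
theorem search_6_3_2 : searchB 6 3 2 [] = true := by decide +kernel
theorem search_6_3_3 : searchB 6 3 3 [] = true := by decide +kernel
theorem search_6_3_4 : searchB 6 3 4 [] = true := by decide +kernel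
theorem search_6_3_5 : searchB 6 3 5 [] = true := by decide +kernel
theorem search_6_3_6 : searchB 6 3 6 [] = true := by decide +kernel
theorem search_6_3_7 : searchB 6 3 7 [] = true := by decide +kernel

theorem search_6_3 : searchRow 6 3 [] = true := by
  simp only [searchRow, List.all_eq_true, List.mem_range]
  intro sb h
  rcases (by omega : sb = 0 ∨ sb = 1 ∨ sb = 2 ∨ sb = 3 ∨ sb = 4 ∨ sb = 5 ∨ sb = 6 ∨ sb = 7) with
    rfl | rfl | rfl | rfl | rfl | rfl | rfl | rfl
  · exact search_6_3_0
  · exact search_6_3_1
  · exact search_6_3_2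
  · exact search_6_3_3
  · exact search_6_3_4
  · exact search_6_3_5
  · exact search_6_3_6
  · exact search_6_3_7

theorem search_6_4_0 : searchB 6 4 0 [] = true := by decide +kernel
theorem search_6_4_1 : searchB 6 4 1 [] = true := by decide +kernel
theorem search_6_4_2 : searchB 6 4 2 [] = true := by decide +kernel
theorem search_6_4_3 : searchB 6 4 3 [] = true := by decide +kernel
theorem search_6_4_4 : searchB 6 4 4 [] = true := by decide +kernel
theorem search_6_4_5 : searchB 6 4 5 [] = true := by decide +kernel
theorem search_6_4_6 : searchB 6 4 6 [] = true := by decide +kernel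
theorem search_6_4_7 : searchB 6 4 7 [] = true := by decide +kernel

theorem search_6_4 : searchRow 6 4 [] = true := by
  simp only [searchRow, List.all_eq_true, List.mem_range]
  intro sb h
  rcases (by omega : sb = 0 ∨ sb = 1 ∨ sb = 2 ∨ sb = 3 ∨ sb = 4 ∨ sb = 5 ∨ sb = 6 ∨ sb = 7) with
    rfl | rfl | rfl | rfl | rfl | rfl | rfl | rfl
  · exact search_6_4_0
  · exact search_6_4_1
  · exact search_6_4_2
  · exact search_6_4_3
  · exact search_6_4_4
  · exact search_6_4_5
  · exact search_6_4_6
  · exact search_6_4_7

theorem search_6_5_0 : searchB 6 5 0 [] = true := by decide +kernel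
theorem search_6_5_1 : searchB 6 5 1 [] = true := by decide +kernel
theorem search_6_5_2 : searchB 6 5 2 [] = true := by decide +kernel
theorem search_6_5_3 : searchB 6 5 3 [] = true := by decide +kernel
theorem search_6_5_4 : searchB 6 5 4 [] = true := by decide +kernel
theorem search_6_5_5 : searchB 6 5 5 [] = true := by decide +kernel
theorem search_6_5_6 : searchB 6 5 6 [] = true := by decide +kernel
theorem search_6_5_7 : searchB 6 5 7 [] = true := by decide +kernel

theorem search_6_5 : searchRow 6 5 [] = true := by
  simp only [searchRow, List.all_eq_true, List.mem_range]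
  intro sb h
  rcases (by omega : sb = 0 ∨ sb = 1 ∨ sb = 2 ∨ sb = 3 ∨ sb = 4 ∨ sb = 5 ∨ sb = 6 ∨ sb = 7) with
    rfl | rfl | rfl | rfl | rfl | rfl | rfl | rfl
  · exact search_6_5_0
  · exact search_6_5_1
  · exact search_6_5_2
  · exact search_6_5_3
  · exact search_6_5_4
  · exact search_6_5_5
  · exact search_6_5_6
  · exact search_6_5_7

theorem search_6_6_0 : searchB 6 6 0 [] = true := by decide +kernel
theorem search_6_6_1 : searchB 6 6 1 [] = true := by decide +kernel
theorem search_6_6_2 : searchB 6 6 2 [] = true := by decide +kernel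
theorem search_6_6_3 : searchB 6 6 3 [] = true := by decide +kernel
theorem search_6_6_4 : searchB 6 6 4 [] = true := by decide +kernel
theorem search_6_6_5 : searchB 6 6 5 [] = true := by decide +kernel
theorem search_6_6_6 : searchB 6 6 6 [] = true := by decide +kernel
theorem search_6_6_7 : searchB 6 6 7 [] = true := by decide +kernel

theorem search_6_6 : searchRow 6 6 [] = true := by
  simp only [searchRow, List.all_eq_true, List.mem_range]
  intro sb h
  rcases (by omega : sb = 0 ∨ sb = 1 ∨ sb = 2 ∨ sb = 3 ∨ sb = 4 ∨ sb = 5 ∨ sb = 6 ∨ sb = 7) with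
    rfl | rfl | rfl | rfl | rfl | rfl | rfl | rfl
  · exact search_6_6_0
  · exact search_6_6_1
  · exact search_6_6_2
  · exact search_6_6_3
  · exact search_6_6_4
  · exact search_6_6_5
  · exact search_6_6_6
  · exact search_6_6_7

theorem search_6_7_0 : searchB 6 7 0 [] = true := by decide +kernel
theorem search_6_7_1 : searchB 6 7 1 [] = true := by decide +kernel
theorem search_6_7_2 : searchB 6 7 2 [] = true := by decide +kernel
theorem search_6_7_3 : searchB 6 7 3 [] = true := by decide +kernel
theorem search_6_7_4 : searchB 6 7 4 [] = true := by decide +kernel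
theorem search_6_7_5 : searchB 6 7 5 [] = true := by decide +kernel
theorem search_6_7_6 : searchB 6 7 6 [] = true := by decide +kernel
theorem search_6_7_7 : searchB 6 7 7 [] = true := by decide +kernel

theorem search_6_7 : searchRow 6 7 [] = true := by
  simp only [searchRow, List.all_eq_true, List.mem_range]
  intro sb h
  rcases (by omega : sb = 0 ∨ sb = 1 ∨ sb = 2 ∨ sb = 3 ∨ sb = 4 ∨ sb = 5 ∨ sb = 6 ∨ sb = 7) with
    rfl | rfl | rfl | rfl | rfl | rfl | rfl | rfl
  · exact search_6_7_0
  · exact search_6_7_1
  · exact search_6_7_2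
  · exact search_6_7_3
  · exact search_6_7_4
  · exact search_6_7_5
  · exact search_6_7_6
  · exact search_6_7_7

end Cfsg.Agent.Compute.G22
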