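import Cfsg.Agent.Compute.G22.WDefs

/-!
The search for representative 2.
-/

set_option autoImplicit false
set_option Elab.async false

namespace Cfsg.Agent.Compute.G22

theorem search_2_0_0 : searchB 2 0 0 [] = true := by decide +kernel
theorem search_2_0_1 : searchB 2 0 1 [] = true := by decide +kernel
theorem search_2_0_2 : searchB 2 0 2 [] = true := by decide +kernel
theorem search_2_0_3 : searchB 2 0 3 [] = true := by decide +kernel
theorem search_2_0_4 : searchB 2 0 4 [] = true := by decide +kernel
theorem search_2_0_5 : searchB 2 0 5 [] = true := by decide +kernel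
theorem search_2_0_6 : searchB 2 0 6 [] = true := by decide +kernel
theorem search_2_0_7 : searchB 2 0 7 [] = true := by decide +kernel

theorem search_2_0 : searchRow 2 0 [] = true := by
  simp only [searchRow, List.all_eq_true, List.mem_range]
  intro sb h
  rcases (by omega : sb = 0 ∨ sb = 1 ∨ sb = 2 ∨ sb = 3 ∨ sb = 4 ∨ sb = 5 ∨ sb = 6 ∨ sb = 7) with
    rfl | rfl | rfl | rfl | rfl | rfl | rfl | rfl
  · exact search_2_0_0
  · exact search_2_0_1
  · exact search_2_0_2
  · exact search_2_0_3
  · exact search_2_0_4
  · exact search_2_0_5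
  · exact search_2_0_6
  · exact search_2_0_7

theorem search_2_1_0 : searchB 2 1 0 [] = true := by decide +kernel
theorem search_2_1_1 : searchB 2 1 1 [] = true := by decide +kernel
theorem search_2_1_2 : searchB 2 1 2 [] = true := by decide +kernel
theorem search_2_1_3 : searchB 2 1 3 [] = true := by decide +kernel
theorem search_2_1_4 : searchB 2 1 4 [] = true := by decide +kernel
theorem search_2_1_5 : searchB 2 1 5 [] = true := by decide +kernel
theorem search_2_1_6 : searchB 2 1 6 [] = true := by decide +kernel
theorem search_2_1_7 : searchB 2 1 7 [] = true := by decide +kernel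

theorem search_2_1 : searchRow 2 1 [] = true := by
  simp only [searchRow, List.all_eq_true, List.mem_range]
  intro sb h
  rcases (by omega : sb = 0 ∨ sb = 1 ∨ sb = 2 ∨ sb = 3 ∨ sb = 4 ∨ sb = 5 ∨ sb = 6 ∨ sb = 7) with
    rfl | rfl | rfl | rfl | rfl | rfl | rfl | rfl
  · exact search_2_1_0
  · exact search_2_1_1
  · exact search_2_1_2
  · exact search_2_1_3
  · exact search_2_1_4
  · exact search_2_1_5
  · exact search_2_1_6
  · exact search_2_1_7

theorem search_2_2_0 : searchB 2 2 0 [] = true := by decide +kernel
theorem search_2_2_1 : searchB 2 2 1 [] = true := by decide +kernel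
theorem search_2_2_2 : searchB 2 2 2 [] = true := by decide +kernel
theorem search_2_2_3 : searchB 2 2 3 [] = true := by decide +kernel
theorem search_2_2_4 : searchB 2 2 4 [] = true := by decide +kernel
theorem search_2_2_5 : searchB 2 2 5 [] = true := by decide +kernel
theorem search_2_2_6 : searchB 2 2 6 [] = true := by decide +kernel
theorem search_2_2_7 : searchB 2 2 7 [] = true := by decide +kernel

theorem search_2_2 : searchRow 2 2 [] = true := by
  simp only [searchRow, List.all_eq_true, List.mem_range]
  intro sb h
  rcases (by omega : sb = 0 ∨ sb = 1 ∨ sb = 2 ∨ sb = 3 ∨ sb = 4 ∨ sb = 5 ∨ sb = 6 ∨ sb = 7) with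
    rfl | rfl | rfl | rfl | rfl | rfl | rfl | rfl
  · exact search_2_2_0
  · exact search_2_2_1
  · exact search_2_2_2
  · exact search_2_2_3
  · exact search_2_2_4
  · exact search_2_2_5
  · exact search_2_2_6
  · exact search_2_2_7

theorem search_2_3_0 : searchB 2 3 0 [] = true := by decide +kernel
theorem search_2_3_1 : searchB 2 3 1 [] = true := by decide +kernel
theorem search_2_3_2 : searchB 2 3 2 [] = true := by decide +kernel
theorem search_2_3_3 : searchB 2 3 3 [] = true := by decide +kernel
theorem search_2_3_4 : searchB 2 3 4 [] = true := by decide +kernel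
theorem search_2_3_5 : searchB 2 3 5 [] = true := by decide +kernel
theorem search_2_3_6 : searchB 2 3 6 [] = true := by decide +kernel
theorem search_2_3_7 : searchB 2 3 7 [] = true := by decide +kernel

theorem search_2_3 : searchRow 2 3 [] = true := by
  simp only [searchRow, List.all_eq_true, List.mem_range]
  intro sb h
  rcases (by omega : sb = 0 ∨ sb = 1 ∨ sb = 2 ∨ sb = 3 ∨ sb = 4 ∨ sb = 5 ∨ sb = 6 ∨ sb = 7) with
    rfl | rfl | rfl | rfl | rfl | rfl | rfl | rfl
  · exact search_2_3_0
  · exact search_2_3_1
  · exact search_2_3_2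
  · exact search_2_3_3
  · exact search_2_3_4
  · exact search_2_3_5
  · exact search_2_3_6
  · exact search_2_3_7

theorem search_2_4_0 : searchB 2 4 0 [] = true := by decide +kernel
theorem search_2_4_1 : searchB 2 4 1 [] = true := by decide +kernel
theorem search_2_4_2 : searchB 2 4 2 [] = true := by decide +kernel
theorem search_2_4_3 : searchB 2 4 3 [] = true := by decide +kernel
theorem search_2_4_4 : searchB 2 4 4 [] = true := by decide +kernel
theorem search_2_4_5 : searchB 2 4 5 [] = true := by decide +kernel
theorem search_2_4_6 : searchB 2 4 6 [] = true := by decide +kernel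
theorem search_2_4_7 : searchB 2 4 7 [] = true := by decide +kernel

theorem search_2_4 : searchRow 2 4 [] = true := by
  simp only [searchRow, List.all_eq_true, List.mem_range]
  intro sb h
  rcases (by omega : sb = 0 ∨ sb = 1 ∨ sb = 2 ∨ sb = 3 ∨ sb = 4 ∨ sb = 5 ∨ sb = 6 ∨ sb = 7) with
    rfl | rfl | rfl | rfl | rfl | rfl | rfl | rfl
  · exact search_2_4_0
  · exact search_2_4_1
  · exact search_2_4_2
  · exact search_2_4_3
  · exact search_2_4_4
  · exact search_2_4_5
  · exact search_2_4_6
  · exact search_2_4_7

theorem search_2_5_0 : searchB 2 5 0 [] = true := by decide +kernel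
theorem search_2_5_1 : searchB 2 5 1 [] = true := by decide +kernel
theorem search_2_5_2 : searchB 2 5 2 [] = true := by decide +kernel
theorem search_2_5_3 : searchB 2 5 3 [] = true := by decide +kernel
theorem search_2_5_4 : searchB 2 5 4 [] = true := by decide +kernel
theorem search_2_5_5 : searchB 2 5 5 [] = true := by decide +kernel
theorem search_2_5_6 : searchB 2 5 6 [] = true := by decide +kernel
theorem search_2_5_7 : searchB 2 5 7 [] = true := by decide +kernel

theorem search_2_5 : searchRow 2 5 [] = true := by
  simp only [searchRow, List.all_eq_true, List.mem_range]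
  intro sb h
  rcases (by omega : sb = 0 ∨ sb = 1 ∨ sb = 2 ∨ sb = 3 ∨ sb = 4 ∨ sb = 5 ∨ sb = 6 ∨ sb = 7) with
    rfl | rfl | rfl | rfl | rfl | rfl | rfl | rfl
  · exact search_2_5_0
  · exact search_2_5_1
  · exact search_2_5_2
  · exact search_2_5_3
  · exact search_2_5_4
  · exact search_2_5_5
  · exact search_2_5_6
  · exact search_2_5_7

theorem search_2_6_0 : searchB 2 6 0 [] = true := by decide +kernel
theorem search_2_6_1 : searchB 2 6 1 [] = true := by decide +kernel
theorem search_2_6_2 : searchB 2 6 2 [] = true := by decide +kernel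
theorem search_2_6_3 : searchB 2 6 3 [] = true := by decide +kernel
theorem search_2_6_4 : searchB 2 6 4 [] = true := by decide +kernel
theorem search_2_6_5 : searchB 2 6 5 [] = true := by decide +kernel
theorem search_2_6_6 : searchB 2 6 6 [] = true := by decide +kernel
theorem search_2_6_7 : searchB 2 6 7 [] = true := by decide +kernel

theorem search_2_6 : searchRow 2 6 [] = true := by
  simp only [searchRow, List.all_eq_true, List.mem_range]
  intro sb h
  rcases (by omega : sb = 0 ∨ sb = 1 ∨ sb = 2 ∨ sb = 3 ∨ sb = 4 ∨ sb = 5 ∨ sb = 6 ∨ sb = 7) with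
    rfl | rfl | rfl | rfl | rfl | rfl | rfl | rfl
  · exact search_2_6_0
  · exact search_2_6_1
  · exact search_2_6_2
  · exact search_2_6_3
  · exact search_2_6_4
  · exact search_2_6_5
  · exact search_2_6_6
  · exact search_2_6_7

theorem search_2_7_0 : searchB 2 7 0 [] = true := by decide +kernel
theorem search_2_7_1 : searchB 2 7 1 [] = true := by decide +kernel
theorem search_2_7_2 : searchB 2 7 2 [] = true := by decide +kernel
theorem search_2_7_3 : searchB 2 7 3 [] = true := by decide +kernel
theorem search_2_7_4 : searchB 2 7 4 [] = true := by decide +kernel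
theorem search_2_7_5 : searchB 2 7 5 [] = true := by decide +kernel
theorem search_2_7_6 : searchB 2 7 6 [] = true := by decide +kernel
theorem search_2_7_7 : searchB 2 7 7 [] = true := by decide +kernel

theorem search_2_7 : searchRow 2 7 [] = true := by
  simp only [searchRow, List.all_eq_true, List.mem_range]
  intro sb h
  rcases (by omega : sb = 0 ∨ sb = 1 ∨ sb = 2 ∨ sb = 3 ∨ sb = 4 ∨ sb = 5 ∨ sb = 6 ∨ sb = 7) with
    rfl | rfl | rfl | rfl | rfl | rfl | rfl | rfl
  · exact search_2_7_0
  · exact search_2_7_1
  · exact search_2_7_2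
  · exact search_2_7_3
  · exact search_2_7_4
  · exact search_2_7_5
  · exact search_2_7_6
  · exact search_2_7_7

end Cfsg.Agent.Compute.G22
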