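import Cfsg.Agent.Compute.G22.SearchZero
import Cfsg.Agent.Compute.G22.SearchOne
import Cfsg.Agent.Compute.G22.SearchTwo
import Cfsg.Agent.Compute.G22.SearchThree
import Cfsg.Agent.Compute.G22.SearchFour
import Cfsg.Agent.Compute.G22.SearchFive
import Cfsg.Agent.Compute.G22.SearchSix
import Cfsg.Agent.Compute.G22.SearchSeven
import Mathlib.Tactic.IntervalCases

/-!
The results of the searches.
-/

set_option autoImplicit false

namespace Cfsg.Agent.Compute.G22

/-- The solutions for a representative. -/
def solutions (r : ℕ) : List ℕ := if r = 7 then [wA, wB] else []

theorem search_all : ∀ r, r < 8 → ∀ sa, sa < 8 → searchRow r sa (solutions r) = true := by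
  intro r hr sa hs
  interval_cases r <;> interval_cases sa
  · exact search_0_0
  · exact search_0_1
  · exact search_0_2
  · exact search_0_3
  · exact search_0_4
  · exact search_0_5
  · exact search_0_6
  · exact search_0_7
  · exact search_1_0
  · exact search_1_1
  · exact search_1_2
  · exact search_1_3
  · exact search_1_4
  · exact search_1_5
  · exact search_1_6
  · exact search_1_7
  · exact search_2_0
  · exact search_2_1
  · exact search_2_2
  · exact search_2_3
  · exact search_2_4
  · exact search_2_5
  · exact search_2_6
  · exact search_2_7
  · exact search_3_0
  · exact search_3_1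
  · exact search_3_2
  · exact search_3_3
  · exact search_3_4
  · exact search_3_5
  · exact search_3_6
  · exact search_3_7
  · exact search_4_0
  · exact search_4_1
  · exact search_4_2
  · exact search_4_3
  · exact search_4_4
  · exact search_4_5
  · exact search_4_6
  · exact search_4_7
  · exact search_5_0
  · exact search_5_1
  · exact search_5_2
  · exact search_5_3
  · exact search_5_4
  · exact search_5_5
  · exact search_5_6
  · exact search_5_7
  · exact search_6_0
  · exact search_6_1
  · exact search_6_2
  · exact search_6_3
  · exact search_6_4
  · exact search_6_5
  · exact search_6_6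
  · exact search_6_7
  · exact search_7_0
  · exact search_7_1
  · exact search_7_2
  · exact search_7_3
  · exact search_7_4
  · exact search_7_5
  · exact search_7_6
  · exact search_7_7

end Cfsg.Agent.Compute.G22
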