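import Cfsg.Agent.Compute.G22.Block
import Cfsg.Agent.H36.Basic

/-!
The Sylow subgroups of order seven of a group whose order divides `12096` and which has no
elements of order `14` or `21`.
-/

set_option autoImplicit false

namespace Cfsg.Agent.Compute.G22

open Subgroup

/-- The hypotheses on orders. -/
structure Spec (G : Type*) [Group G] : Prop where
  dvd : Nat.card G ∣ 12096
  seven : 7 ∣ Nat.card G
  no9 : ∀ g : G, orderOf g ≠ 9
  no14 : ∀ g : G, orderOf g ≠ 14
  no21 : ∀ g : G, orderOf g ≠ 21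

variable {G : Type*} [Group G] [Finite G]

namespace Spec

variable (S : Spec G)

include S

theorem prime_cases {q : ℕ} (hq : q.Prime) (h : q ∣ Nat.card G) : q = 2 ∨ q = 3 ∨ q = 7 := by
  have h' := h.trans S.dvd
  rw [show (12096 : ℕ) = 2 ^ 6 * 3 ^ 3 * 7 by norm_num, hq.dvd_mul, hq.dvd_mul] at h'
  rcases h' with (h' | h') | h'
  · exact Or.inl ((Nat.prime_dvd_prime_iff_eq hq Nat.prime_two).1 (hq.dvd_of_dvd_pow h'))
  · exact Or.inr (Or.inl ((Nat.prime_dvd_prime_iff_eq hq Nat.prime_three).1 (hq.dvd_of_dvd_pow h')))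
  · exact Or.inr (Or.inr ((Nat.prime_dvd_prime_iff_eq hq (by norm_num)).1 h'))

theorem not_sq : ¬ 7 ^ 2 ∣ Nat.card G := fun h => by
  have := h.trans S.dvd; norm_num at this

theorem orderOf_seven {g : G} (h : 7 ∣ orderOf g) : orderOf g = 7 := by
  obtain ⟨m, hm⟩ := h
  rcases eq_or_ne m 1 with rfl | h1
  · simpa using hm
  exfalso
  obtain ⟨q, hq, hqm⟩ := Nat.exists_prime_and_dvd h1
  obtain ⟨c, hc⟩ := hqm
  have hdvd : orderOf g ∣ Nat.card G := orderOf_dvd_natCard g
  have h0 : c ≠ 0 := by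
    rintro rfl
    exact (orderOf_pos g).ne' (by rw [hm, hc]; simp)
  have hpow : orderOf (g ^ c) = 7 * q := by
    rw [orderOf_pow' g h0, hm, hc, show 7 * (q * c) = 7 * q * c by ring,
      Nat.gcd_eq_right (dvd_mul_left c _), Nat.mul_div_cancel _ (Nat.pos_of_ne_zero h0)]
  rcases S.prime_cases hq ((dvd_mul_of_dvd_right (hc ▸ dvd_mul_right q c) 7).trans (hm ▸ hdvd))
    with rfl | rfl | rfl
  · exact S.no14 _ hpow
  · exact S.no21 _ hpow
  · exact S.not_sq ((by rw [hm, hc]; exact ⟨c, by ring⟩ : 7 ^ 2 ∣ orderOf g).trans hdvd)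

variable [Fact (Nat.Prime 7)]

theorem card_sylow (P : Sylow 7 G) : Nat.card (P : Subgroup G) = 7 := by
  obtain ⟨m, hm⟩ := S.seven
  refine (H36.card_sylow_eq (a := 1) hm P (by ring) fun h => S.not_sq ?_).trans (pow_one 7)
  rw [hm]
  exact mul_dvd_mul_left 7 h

theorem centralizer_elt {g : G} (hg : orderOf g = 7) :
    centralizer ({g} : Set G) = zpowers g := by
  refine le_antisymm ?_ fun y hy => mem_centralizer_singleton_iff.2 ?_
  swap
  · obtain ⟨k, rfl⟩ := mem_zpowers_iff.1 hy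
    exact (Commute.refl g).zpow_left k
  have hle : zpowers g ≤ centralizer ({g} : Set G) := fun y hy => by
    obtain ⟨k, rfl⟩ := mem_zpowers_iff.1 hy
    exact mem_centralizer_singleton_iff.2 ((Commute.refl g).zpow_left k)
  refine (eq_of_le_of_card_ge hle ?_).ge
  rw [Nat.card_zpowers, hg]
  obtain ⟨c, hc⟩ : 7 ∣ Nat.card (centralizer ({g} : Set G)) := by
    have := card_dvd_of_le hle
    rwa [Nat.card_zpowers, hg] at this
  rcases eq_or_ne c 1 with rfl | h1
  · omega
  exfalso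
  obtain ⟨q, hq, hqc⟩ := Nat.exists_prime_and_dvd h1
  have hqC : q ∣ Nat.card (centralizer ({g} : Set G)) := hc ▸ dvd_mul_of_dvd_right hqc 7
  have hq7 : q ≠ 7 := by
    rintro rfl
    exact S.not_sq ((hc ▸ mul_dvd_mul_left 7 hqc : 7 * 7 ∣ _).trans
      (card_subgroup_dvd_card (centralizer ({g} : Set G))))
  haveI := Fact.mk hq
  obtain ⟨⟨y, hy⟩, hyo⟩ := exists_prime_orderOf_dvd_card' (G := centralizer ({g} : Set G)) q hqC
  rw [Subgroup.orderOf_mk] at hyo
  have ho : orderOf (g * y) = 7 * q := by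
    rw [(show Commute g y from (mem_centralizer_singleton_iff.1 hy).symm).orderOf_mul_eq_mul_orderOf_of_coprime,
      hg, hyo]
    rw [hg, hyo]
    exact (Nat.coprime_primes (by norm_num) hq).2 hq7.symm
  rcases S.prime_cases hq (hqC.trans (card_subgroup_dvd_card _)) with rfl | rfl | rfl
  · exact S.no14 _ ho
  · exact S.no21 _ ho
  · exact hq7 rfl

theorem exists_gen (P : Sylow 7 G) : ∃ g : G, orderOf g = 7 ∧ zpowers g = (P : Subgroup G) := by
  obtain ⟨⟨g, hg⟩, hgo⟩ := exists_prime_orderOf_dvd_card' (G := (P : Subgroup G)) 7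
    (by rw [S.card_sylow P])
  rw [Subgroup.orderOf_mk] at hgo
  exact ⟨g, hgo, eq_of_le_of_card_ge (zpowers_le.2 hg)
    (by rw [Nat.card_zpowers, hgo, S.card_sylow P])⟩

theorem centralizer_sylow (P : Sylow 7 G) :
    centralizer ((P : Subgroup G) : Set G) = (P : Subgroup G) := by
  obtain ⟨g, hg, hP⟩ := S.exists_gen P
  rw [← hP]
  refine le_antisymm ((centralizer_le (Set.singleton_subset_iff.2 (mem_zpowers g))).trans
    (S.centralizer_elt hg).le) fun y hy z hz => ?_
  obtain ⟨i, rfl⟩ := mem_zpowers_iff.1 hy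
  obtain ⟨j, rfl⟩ := mem_zpowers_iff.1 hz
  exact (Commute.refl g).zpow_zpow j i

/-- `|N(P)| = 7 e` and `n₇ * 7 e = |G|`. -/
theorem exists_e (P : Sylow 7 G) :
    ∃ e : ℕ, e ∣ 6 ∧ Nat.card (normalizer ((P : Subgroup G) : Set G)) = 7 * e ∧
      (centralizer ((P : Subgroup G) : Set G)).relIndex
        (normalizer ((P : Subgroup G) : Set G)) = e ∧
      Nat.card (Sylow 7 G) * (7 * e) = Nat.card G ∧ Nat.card (Sylow 7 G) % 7 = 1 := by
  refine ⟨_, H36.relIndex_centralizer_dvd_of_prime (p := 7) (by norm_num) _ (S.card_sylow P), ?_,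
    rfl, ?_, ?_⟩
  · rw [H36.card_normalizer_eq_mul, S.centralizer_sylow P, S.card_sylow P]
  · have h := H36.card_sylow_mul_normalizer P
    rw [H36.card_normalizer_eq_mul, S.centralizer_sylow P, S.card_sylow P] at h
    rw [S.centralizer_sylow P]
    exact h
  · have := card_sylow_modEq_one 7 G
    rwa [Nat.ModEq, Nat.one_mod] at this

/-- If `|N(P)|` is even, every element of order seven is inverted by an involution. -/
theorem exists_inverter (P : Sylow 7 G)
    (h2 : 2 ∣ Nat.card (normalizer ((P : Subgroup G) : Set G))) {y : G} (hy : orderOf y = 7) :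
    ∃ a : G, orderOf a = 2 ∧ a * y * a⁻¹ = y⁻¹ := by
  haveI := Fact.mk Nat.prime_two
  obtain ⟨Q, hQ⟩ : ∃ Q : Sylow 7 G, zpowers y ≤ (Q : Subgroup G) :=
    (IsPGroup.of_card (n := 1) (by rw [Nat.card_zpowers, hy, pow_one])).exists_le_sylow
  have hQe : zpowers y = (Q : Subgroup G) :=
    eq_of_le_of_card_ge hQ (by rw [Nat.card_zpowers, hy, S.card_sylow Q])
  have h2Q : 2 ∣ Nat.card (normalizer ((Q : Subgroup G) : Set G)) := by
    have h1 := H36.card_sylow_mul_normalizer P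
    have h2' := H36.card_sylow_mul_normalizer Q
    rw [← h1] at h2'
    rw [Nat.eq_of_mul_eq_mul_left Nat.card_pos h2']
    exact h2
  obtain ⟨⟨a, ha⟩, hao⟩ := exists_prime_orderOf_dvd_card'
    (G := normalizer ((Q : Subgroup G) : Set G)) 2 h2Q
  rw [Subgroup.orderOf_mk] at hao
  refine ⟨a, hao, ?_⟩
  have hz : a * y * a⁻¹ ∈ zpowers y := by
    rw [hQe]; exact (mem_normalizer_iff.1 ha y).1 (hQ (mem_zpowers y))
  obtain ⟨k, hk⟩ := mem_zpowers_iff.1 hz
  have haa : a * a = 1 := by rw [← pow_two, ← hao, pow_orderOf_eq_one]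
  have hai : a⁻¹ = a := inv_eq_of_mul_eq_one_right haa
  have hzy : a * y * a⁻¹ * y = y * (a * y * a⁻¹) := by
    rw [← hk]; exact ((Commute.refl y).zpow_left k).eq
  set z := y * (a * y * a⁻¹) with hzdef
  have hzfix : a * z * a⁻¹ = z := by
    rw [hzdef]
    calc a * (y * (a * y * a⁻¹)) * a⁻¹ = a * y * a⁻¹ * (a * a) * y * (a * a)⁻¹ := by group
      _ = a * y * a⁻¹ * y := by rw [haa]; group
      _ = y * (a * y * a⁻¹) := hzy
  have hzQ : z ∈ zpowers y := mul_mem (mem_zpowers y) hz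
  have hz7 : z ^ 7 = 1 := by
    have := Subgroup.orderOf_dvd_natCard _ hzQ
    rw [Nat.card_zpowers, hy] at this
    exact orderOf_dvd_iff_pow_eq_one.1 this
  by_cases hz1 : z = 1
  · exact eq_inv_of_mul_eq_one_right hz1
  exfalso
  have ho : orderOf z = 7 := orderOf_eq_prime hz7 hz1
  have hmem : a ∈ centralizer ({z} : Set G) :=
    mem_centralizer_singleton_iff.2 (mul_inv_eq_iff_eq_mul.1 hzfix)
  rw [S.centralizer_elt ho] at hmem
  have := Subgroup.orderOf_dvd_natCard _ hmem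
  rw [hao, Nat.card_zpowers, ho] at this
  norm_num at this

/-- The involutions inverting an element of order seven. -/
theorem inverter_eq {y a b : G} (hy : orderOf y = 7) (ha : orderOf a = 2) (hb : orderOf b = 2)
    (hay : a * y * a⁻¹ = y⁻¹) (hby : b * y * b⁻¹ = y⁻¹) : ∃ k : ℕ, k < 7 ∧ b = a * y ^ k := by
  have hai : a⁻¹ = a := inv_eq_of_mul_eq_one_right (by rw [← pow_two, ← ha, pow_orderOf_eq_one])
  have hmem : a⁻¹ * b ∈ centralizer ({y} : Set G) := by
    rw [mem_centralizer_singleton_iff]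
    calc a⁻¹ * b * y = a⁻¹ * (b * y * b⁻¹) * b := by group
      _ = a⁻¹ * (a * y * a⁻¹) * b := by rw [hby, hay]
      _ = y * (a⁻¹ * b) := by group
  rw [S.centralizer_elt hy] at hmem
  classical
  have hm := ((isOfFinOrder_of_finite y).mem_zpowers_iff_mem_range_orderOf).1 hmem
  rw [Finset.mem_image, hy] at hm
  obtain ⟨k, hk, hk'⟩ := hm
  exact ⟨k, Finset.mem_range.1 hk, by rw [hk', mul_inv_cancel_left]⟩

/-- Involutions inverting the same element of order seven are conjugate. -/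
theorem inverter_isConj {y a b : G} (hy : orderOf y = 7) (ha : orderOf a = 2) (hb : orderOf b = 2)
    (hay : a * y * a⁻¹ = y⁻¹) (hby : b * y * b⁻¹ = y⁻¹) : IsConj a b := by
  obtain ⟨k, hk, rfl⟩ := S.inverter_eq hy ha hb hay hby
  refine isConj_iff.2 ⟨y ^ (3 * k), ?_⟩
  have h1 : a * (y ^ (3 * k))⁻¹ * a⁻¹ = y ^ (3 * k) := by
    have : a * y ^ (3 * k) * a⁻¹ = (y ^ (3 * k))⁻¹ := by
      rw [← inv_pow, ← hay, conj_pow]
    calc a * (y ^ (3 * k))⁻¹ * a⁻¹ = (a * y ^ (3 * k) * a⁻¹)⁻¹ := by group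
      _ = y ^ (3 * k) := by rw [this, inv_inv]
  have h2 : y ^ (3 * k) * a = a * (y ^ (3 * k))⁻¹ := by
    calc y ^ (3 * k) * a = a * (y ^ (3 * k))⁻¹ * a⁻¹ * a := by rw [h1]
      _ = a * (y ^ (3 * k))⁻¹ := by group
  rw [h2, mul_assoc, ← mul_inv_rev, ← pow_add]
  congr 1
  rw [inv_eq_iff_mul_eq_one, ← pow_add, ← orderOf_dvd_iff_pow_eq_one, hy]
  omega

end Spec

end Cfsg.Agent.Compute.G22
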