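import Cfsg.Agent.Compute.G22.Small

/-!
There is no simple group of order `12096` satisfying `Spec`.
-/

set_option autoImplicit false
set_option maxHeartbeats 1000000

namespace Cfsg.Agent.Compute.G22

open Cfsg Subgroup Cfsg.Agent.BlockBasic Cfsg.Agent.CharBasic

variable {G : Type*} [Group G] [Fintype G]

namespace Spec

variable (S : Spec G)

include S

omit [Fintype G] in
theorem exists_factor [Finite G] : ∃ m : ℕ, Nat.card G = 7 * m ∧ m ∣ 1728 := by
  obtain ⟨m, hm⟩ := S.seven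
  refine ⟨m, hm, Nat.dvd_of_mul_dvd_mul_left (by norm_num : (0 : ℕ) < 7) ?_⟩
  rw [← hm]
  exact S.dvd

variable [Fact (Nat.Prime 7)]

omit [Fintype G] in
/-- Some involution inverting an element of order seven commutes with an element of order three. -/
theorem exists_inverter_three [Finite G] (P : Sylow 7 G)
    (h6 : 6 ∣ Nat.card (normalizer ((P : Subgroup G) : Set G))) :
    ∃ g b u : G, orderOf g = 7 ∧ orderOf b = 2 ∧ b * g * b⁻¹ = g⁻¹ ∧ orderOf u = 3 ∧
      u * b = b * u := by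
  classical
  cases nonempty_fintype G
  haveI := Fact.mk Nat.prime_three
  obtain ⟨g, hg, hP⟩ := S.exists_gen P
  obtain ⟨a, ha, hag⟩ := S.exists_inverter P (dvd_trans (by norm_num) h6) hg
  obtain ⟨⟨u, hu⟩, huo⟩ := exists_prime_orderOf_dvd_card'
    (G := normalizer ((P : Subgroup G) : Set G)) 3 (dvd_trans (by norm_num) h6)
  rw [Subgroup.orderOf_mk] at huo
  obtain ⟨m, hm⟩ : u * g * u⁻¹ ∈ zpowers g := by
    rw [hP]
    exact (mem_normalizer_iff.1 hu g).1 (hP ▸ mem_zpowers g)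
  simp only at hm
  obtain ⟨m', hm'⟩ : u⁻¹ * g * u ∈ zpowers g := by
    rw [hP]
    have h1 := (mem_normalizer_iff.1 (inv_mem hu) g).1 (hP ▸ mem_zpowers g)
    rwa [inv_inv] at h1
  simp only at hm'
  have hok : ∀ b : G, (orderOf b = 2 ∧ b * g * b⁻¹ = g⁻¹) ↔
      (orderOf (MulAut.conj u b) = 2 ∧ MulAut.conj u b * g * (MulAut.conj u b)⁻¹ = g⁻¹) := by
    intro b
    rw [MulEquiv.orderOf_eq]
    refine and_congr_right fun _ => ⟨fun hb => ?_, fun hb => ?_⟩
    · have h1 : b * g ^ m' * b⁻¹ = (g ^ m')⁻¹ := by rw [← conj_zpow, hb, inv_zpow]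
      rw [hm'] at h1
      rw [MulAut.conj_apply]
      calc u * b * u⁻¹ * g * (u * b * u⁻¹)⁻¹ = u * (b * (u⁻¹ * g * u) * b⁻¹) * u⁻¹ := by group
        _ = g⁻¹ := by rw [h1]; group
    · rw [MulAut.conj_apply] at hb
      have h1 : u * b * u⁻¹ * g ^ m * (u * b * u⁻¹)⁻¹ = (g ^ m)⁻¹ := by
        rw [← conj_zpow, hb, inv_zpow]
      rw [hm] at h1
      calc b * g * b⁻¹ = u⁻¹ * (u * b * u⁻¹ * (u * g * u⁻¹) * (u * b * u⁻¹)⁻¹) * u := by group
        _ = g⁻¹ := by rw [h1]; group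
  let σ : Equiv.Perm {b : G // orderOf b = 2 ∧ b * g * b⁻¹ = g⁻¹} :=
    (MulAut.conj u).toEquiv.subtypeEquiv hok
  have hcard : Fintype.card {b : G // orderOf b = 2 ∧ b * g * b⁻¹ = g⁻¹} = 7 := by
    rw [← Nat.card_eq_fintype_card]
    have hbij : Nat.card (Fin 7) = Nat.card {b : G // orderOf b = 2 ∧ b * g * b⁻¹ = g⁻¹} := by
      refine Nat.card_congr (Equiv.ofBijective (fun k : Fin 7 => ⟨a * g ^ (k : ℕ), ?_, ?_⟩) ⟨?_, ?_⟩)
      · have hai : a⁻¹ = a :=
          inv_eq_of_mul_eq_one_right (by rw [← pow_two, ← ha, pow_orderOf_eq_one])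
        refine orderOf_eq_prime ?_ ?_
        · have h1 : a * g ^ (k : ℕ) * a⁻¹ = (g ^ (k : ℕ))⁻¹ := by rw [← conj_pow, hag, inv_pow]
          rw [hai] at h1
          rw [pow_two, ← mul_assoc, h1, inv_mul_cancel]
        · intro h
          have hmem : a ∈ zpowers g := by
            rw [mul_eq_one_iff_eq_inv] at h
            exact h ▸ inv_mem (pow_mem (mem_zpowers g) _)
          have := Subgroup.orderOf_dvd_natCard _ hmem
          rw [ha, Nat.card_zpowers, hg] at this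
          norm_num at this
      · calc a * g ^ (k : ℕ) * g * (a * g ^ (k : ℕ))⁻¹ = a * g * a⁻¹ := by group
          _ = g⁻¹ := hag
      · intro i j h
        exact Fin.ext (pow_injOn_Iio_orderOf (show _ < orderOf g by rw [hg]; exact i.2)
          (show _ < orderOf g by rw [hg]; exact j.2) (mul_left_cancel (congrArg Subtype.val h)))
      · rintro ⟨b, hb2, hbg⟩
        obtain ⟨k, hk, rfl⟩ := S.inverter_eq hg ha hb2 hag hbg
        exact ⟨⟨k, hk⟩, rfl⟩
    rw [← hbij, Nat.card_fin]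
  obtain ⟨⟨b, hb2, hbg⟩, hb⟩ := Equiv.Perm.exists_fixed_point_of_prime (p := 3) (n := 1) (σ := σ)
    (by rw [hcard]; norm_num) (by
      ext b
      have h3 : u * (u * u) = 1 := by
        have h := pow_orderOf_eq_one u
        rwa [huo, pow_succ', pow_two] at h
      simp only [pow_one, pow_succ, pow_zero, one_mul, Equiv.Perm.mul_apply, σ,
        Equiv.subtypeEquiv_apply, MulEquiv.toEquiv_eq_coe, EquivLike.coe_coe, MulAut.conj_apply,
        Equiv.Perm.one_apply]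
      calc u * (u * (u * ↑b * u⁻¹) * u⁻¹) * u⁻¹ = u * (u * u) * ↑b * (u * (u * u))⁻¹ := by group
        _ = ↑b := by rw [h3]; group)
  refine ⟨g, b, u, hg, hb2, hbg, huo, ?_⟩
  have hb' : u * b * u⁻¹ = b := congrArg Subtype.val hb
  exact mul_inv_eq_iff_eq_mul.1 hb'

end Spec

theorem invDiv_spec : ∀ F ∈ degs, F * (1728 / F) = (1728 : ℤ) := by decide +kernel

theorem centOrders_spec :
    ∀ k ∈ List.range 1728, 6 ∣ k → k ∣ 1728 → ((k : ℕ) : ℤ) ∈ centOrders := by decide +kernel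

theorem sgn_sign {s : ℤ} {d : ℕ} (hd : 0 < d) (hs : s = 1 ∨ s = -1) : sgn (s * d) = s := by
  rcases hs with rfl | rfl <;> unfold sgn
  · rw [if_neg (by omega)]
  · rw [if_pos (by omega)]

theorem weight_eq {s : ℤ} {d : ℕ} (hd : 0 < d) (hs : s = 1 ∨ s = -1) (hF : s * (d : ℤ) ∈ degs) :
    ((1728 / (s * (d : ℤ)) : ℤ) : ℚ) = 1728 * (s : ℚ) / d := by
  have h := invDiv_spec _ hF
  have hd' : (d : ℚ) ≠ 0 := by exact_mod_cast hd.ne'
  rw [eq_div_iff hd']
  have h' : (s : ℚ) * d * ((1728 / (s * (d : ℤ)) : ℤ) : ℚ) = 1728 := by exact_mod_cast h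
  have hs2 : (s : ℚ) * s = 1 := by rcases hs with rfl | rfl <;> norm_num
  linear_combination (s : ℚ) * h' - ((1728 / (s * (d : ℤ)) : ℤ) : ℚ) * d * hs2

variable [IsSimpleGroup G]

omit [IsSimpleGroup G] in
theorem PBlock.value_sq_le [Fact (Nat.Prime 7)] {r : ℕ} (B : PBlock G 7 r) {s : G}
    (hs : ¬ 7 ∣ orderOf s) (w : IrrCharacter G → ℤ) (hw : ∀ χ : IrrCharacter G, (χ : G → ℂ) s = w χ)
    (hr : 0 < (7 - 1) / r) :
    (∀ χ ∈ B.X, w χ * w χ ≤ Nat.card (centralizer ({s} : Set G))) ∧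
      w B.θ * w B.θ ≤ Nat.card (centralizer ({s} : Set G)) := by
  have h := B.centralizer_ge s hs
  simp only [hw, Complex.norm_intCast, sq_abs] at h
  have h' : ∑ χ ∈ B.X, w χ ^ 2 + ((7 - 1) / r : ℕ) * w B.θ ^ 2 ≤
      (Nat.card (centralizer ({s} : Set G)) : ℤ) := by
    apply (Int.cast_le (R := ℝ)).1
    push_cast
    exact h
  have h1 : (1 : ℤ) ≤ ((7 - 1) / r : ℕ) := by exact_mod_cast hr
  refine ⟨fun χ hχ => ?_, ?_⟩
  · have h2 := Finset.single_le_sum (f := fun χ => w χ ^ 2) (fun χ _ => sq_nonneg _) hχ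
    nlinarith [sq_nonneg (w B.θ), sq_nonneg (w χ)]
  · have h2 : 0 ≤ ∑ χ ∈ B.X, w χ ^ 2 := Finset.sum_nonneg fun χ _ => sq_nonneg _
    nlinarith [sq_nonneg (w B.θ)]

/-- No simple group of order `12096` satisfies `Spec`. -/
theorem not_simple_12096 (S : Spec G) (hc : Nat.card G = 12096) : False := by
  classical
  haveI : Fact (Nat.Prime 7) := ⟨by norm_num⟩
  haveI : Fact (Nat.Prime 2) := ⟨Nat.prime_two⟩
  have hn : ¬ (Nat.card G).Prime := by rw [hc]; norm_num
  obtain ⟨P⟩ := Sylow.nonempty (p := 7) (G := G)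
  obtain ⟨e, he6, hN, hrel, hn7, hmod⟩ := S.exists_e P
  obtain rfl : e = 6 := by
    rw [hc] at hn7
    have : e ≤ 6 := Nat.le_of_dvd (by norm_num) he6
    interval_cases e <;> first | omega | norm_num at he6
  obtain ⟨B⟩ := exists_pblock P (S.card_sylow P) hrel
  obtain ⟨x, hx, hxx, hother⟩ := S.exists_class P (by rw [hN]; norm_num)
  obtain ⟨g, b, u, hg, hb, hbg, hu, hub⟩ := S.exists_inverter_three P (by rw [hN]; norm_num)
  have hbb : b * g = (b * g)⁻¹ := by
    have hbi : b⁻¹ = b := inv_eq_of_mul_eq_one_right (by rw [← pow_two, ← hb, pow_orderOf_eq_one])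
    calc b * g = b * g * b⁻¹ * b⁻¹ := by rw [mul_assoc _ b⁻¹, hbi, ← pow_two, ← hb, pow_orderOf_eq_one, mul_one]
      _ = (b * g)⁻¹ := by rw [hbg, mul_inv_rev]
  have hbg2 : orderOf (b * g) = 2 := by
    refine orderOf_eq_prime (by rw [pow_two]; nth_rewrite 2 [hbb]; rw [mul_inv_cancel]) fun h => ?_
    have hm : b ∈ zpowers g := by
      rw [mul_eq_one_iff_eq_inv] at h
      exact h ▸ inv_mem (mem_zpowers g)
    have := Subgroup.orderOf_dvd_natCard _ hm
    rw [hb, Nat.card_zpowers, hg] at this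
    norm_num at this
  have hbx : IsConj x b := by
    by_contra hne
    have h0 := hother b b hb hb hne g (by rw [hg])
    rw [PBlock.cnt, Nat.cast_inj] at h0
    have hconj : IsConj b (b⁻¹ * g) := by
      rw [inv_eq_of_mul_eq_one_right (by rw [← pow_two, ← hb, pow_orderOf_eq_one] : b * b = 1)]
      refine S.inverter_isConj hg hb hbg2 hbg ?_
      calc b * g * g * (b * g)⁻¹ = b * g * b⁻¹ := by group
        _ = g⁻¹ := hbg
    haveI : Nonempty {a : G // IsConj b a ∧ IsConj b (a⁻¹ * g)} := ⟨⟨b, IsConj.refl b, hconj⟩⟩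
    exact (Nat.card_pos (α := {a : G // IsConj b a ∧ IsConj b (a⁻¹ * g)})).ne' h0
  -- the centraliser of `x`
  obtain ⟨c, hc'⟩ := isConj_iff.1 hbx.symm
  have hu' : c * u * c⁻¹ ∈ centralizer ({x} : Set G) := by
    rw [mem_centralizer_singleton_iff, ← hc']
    calc c * u * c⁻¹ * (c * b * c⁻¹) = c * (u * b) * c⁻¹ := by group
      _ = c * b * c⁻¹ * (c * u * c⁻¹) := by rw [hub]; group
  have h2C : 2 ∣ Nat.card (centralizer ({x} : Set G)) :=
    hx ▸ Subgroup.orderOf_dvd_natCard _ (mem_centralizer_singleton_iff.2 rfl)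
  have h3C : 3 ∣ Nat.card (centralizer ({x} : Set G)) := by
    have h := Subgroup.orderOf_dvd_natCard _ hu'
    rwa [orderOf_conj_eq, hu] at h
  have hdvd := S.centralizer_invol hx (m := 1728) (by rw [hc])
  have hlt : Nat.card (centralizer ({x} : Set G)) < 1728 := by
    rcases Nat.lt_or_eq_of_le (Nat.le_of_dvd (by norm_num) hdvd) with h | h
    · exact h
    · have := H36.card_dvd_factorial_of_card hc h (by norm_num)
      exact absurd this (by decide)
  have hk : ((Nat.card (centralizer ({x} : Set G)) : ℕ) : ℤ) ∈ centOrders :=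
    centOrders_spec _ (List.mem_range.2 hlt)
      (Nat.Coprime.mul_dvd_of_dvd_of_dvd (by norm_num : Nat.Coprime 2 3) h2C h3C) hdvd
  -- a central involution
  obtain ⟨T⟩ := Sylow.nonempty (p := 2) (G := G)
  have hT : Nat.card (T : Subgroup G) = 64 :=
    (H36.card_sylow_eq (a := 6) hc T (m := 189) (by norm_num) (by norm_num)).trans (by norm_num)
  obtain ⟨s, hs, hsT⟩ : ∃ s : G, orderOf s = 2 ∧
      (T : Subgroup G) ≤ centralizer ({s} : Set G) := by
    have hT2 : IsPGroup 2 (T : Subgroup G) := T.2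
    haveI : Nontrivial (T : Subgroup G) := Finite.one_lt_card_iff_nontrivial.1 (by rw [hT]; norm_num)
    haveI := hT2.center_nontrivial
    obtain ⟨n, hn0, hnc⟩ := (hT2.to_subgroup (center (T : Subgroup G))).nontrivial_iff_card.1 ‹_›
    obtain ⟨⟨⟨z, hz⟩, hzc⟩, hzo⟩ := exists_prime_orderOf_dvd_card'
      (G := center (T : Subgroup G)) 2 (hnc ▸ dvd_pow_self 2 hn0.ne')
    rw [Subgroup.orderOf_mk, Subgroup.orderOf_mk] at hzo
    exact ⟨z, hzo, fun t ht => mem_centralizer_singleton_iff.2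
      (congrArg Subtype.val (mem_center_iff.1 hzc ⟨t, ht⟩))⟩
  have h64 : 64 ∣ Nat.card (centralizer ({s} : Set G)) := hT ▸ card_dvd_of_le hsT
  -- values
  obtain ⟨v, hv, hv1, hv'⟩ := Spec.exists_values hn hx
  obtain ⟨w, hw, hw1, hw'⟩ := Spec.exists_values hn hs
  obtain ⟨hlinx, hquadx, hbndx⟩ := B.eqs hx v v hv hv hv1 hv1 7 hxx
  -- the list of signed degrees and values
  let tx : IrrCharacter G → ℤ × ℤ × ℤ := fun χ => (B.s χ * dg χ, v χ, w χ)
  let te : ℤ × ℤ × ℤ := (-B.ε * dg B.θ, v B.θ, w B.θ)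
  let key : ℤ × ℤ × ℤ → ℤ ×ₗ ℤ := fun q => toLex (q.1, q.2.1)
  let rr : ℤ × ℤ × ℤ → ℤ × ℤ × ℤ → Prop := fun p q => key p ≤ key q
  haveI : Std.Total rr := ⟨fun p q => le_total (key p) (key q)⟩
  haveI : IsTrans (ℤ × ℤ × ℤ) rr := ⟨fun p q r' h1 h2 => le_trans h1 h2⟩
  obtain ⟨L, hperm, hsorted⟩ : ∃ L : List (ℤ × ℤ × ℤ),
      L.Perm (te :: B.X'.toList.map tx) ∧ L.Pairwise rr :=
    ⟨_, List.perm_insertionSort rr _, List.pairwise_insertionSort rr _⟩
  have hsum : ∀ f : ℤ × ℤ × ℤ → ℚ,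
      (L.map f).sum = f te + ∑ χ ∈ B.X', f (tx χ) := fun f => by
    rw [(hperm.map f).sum_eq, List.map_cons, List.sum_cons, List.map_map, Finset.sum_map_toList]
    rfl
  have hsumZ : ∀ f : ℤ × ℤ × ℤ → ℤ,
      (L.map f).sum = f te + ∑ χ ∈ B.X', f (tx χ) := fun f => by
    rw [(hperm.map f).sum_eq, List.map_cons, List.sum_cons, List.map_map, Finset.sum_map_toList]
    rfl
  have hlen : L.length = 6 := by
    rw [hperm.length_eq, List.length_cons, List.length_map, Finset.length_toList, B.card_X']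
  have hyc : ((7 - 1) / 6 : ℕ) = 1 := rfl
  have hdeg := B.deg_sum
  have hbnd := B.deg_bound
  rw [hyc, Nat.cast_one, one_mul, hc] at hbnd
  rw [hyc, Nat.cast_one, one_mul] at hbndx
  have hmemF : ∀ q ∈ L, q.1 ∈ degs ∧ q.2.1 ∈ vals q.1 ∧ q.2.2 ∈ vals q.1 := by
    have hval : ∀ (χ : IrrCharacter G), χ ≠ trivialIrr → ∀ s' : ℤ, (s' = 1 ∨ s' = -1) →
        v χ * v χ ≤ 1728 → w χ * w χ ≤ 1728 →
          v χ ∈ vals (s' * dg χ) ∧ w χ ∈ vals (s' * dg χ) := by
      intro χ hne s' hs' hb1 hb2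
      have habs : ((s' * dg χ).natAbs : ℤ) = dg χ := by
        rcases hs' with rfl | rfl <;> simp [dg]
      have hsq : s' * dg χ * (s' * dg χ) = dg χ * dg χ := by rcases hs' with rfl | rfl <;> ring
      exact ⟨mem_vals (by rw [habs]; exact (hv' χ hne).1) (by rw [hsq]; exact (hv' χ hne).2) hb1,
        mem_vals (by rw [habs]; exact (hw' χ hne).1) (by rw [hsq]; exact (hw' χ hne).2) hb2⟩
    obtain ⟨hvX, hvY⟩ := B.value_sq_le (Spec.not_seven_two hx) v hv (by norm_num)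
    obtain ⟨hwX, hwY⟩ := B.value_sq_le (Spec.not_seven_two hs) w hw (by norm_num)
    have hdvds := Nat.le_of_dvd (by norm_num) (S.centralizer_invol hs (m := 1728) (by rw [hc]))
    intro q hq
    rcases List.mem_cons.1 (hperm.mem_iff.1 hq) with rfl | hq'
    · obtain ⟨h2, hd, hdd, hmd⟩ := B.deg_θ hn (by norm_num) (by norm_num)
      rw [hc] at hd hdd
      have hlt : charDegree (B.θ : G → ℂ) < 110 := by nlinarith
      obtain ⟨hd1, hd6⟩ := degs_spec _ (List.mem_range.2 hlt) h2 hd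
      refine ⟨?_, hval B.θ B.θ_ne_triv (-B.ε) (by omega) (by omega) (by omega)⟩
      show -B.ε * dg B.θ ∈ degs
      rcases hmd with ⟨he, hm⟩ | ⟨he, hm⟩ <;> rw [he]
      · simpa [dg] using hd6 hm
      · simpa [dg] using hd1 (by omega)
    · obtain ⟨χ, hχ, rfl⟩ := List.mem_map.1 hq'
      rw [Finset.mem_toList] at hχ
      obtain ⟨hne, hX⟩ := B.mem_X'.1 hχ
      obtain ⟨h2, hd, hdd, hmd⟩ := B.deg_X' hn hχ
      rw [hc] at hd hdd
      have hlt : charDegree (χ : G → ℂ) < 110 := by nlinarith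
      obtain ⟨hd1, hd6⟩ := degs_spec _ (List.mem_range.2 hlt) h2 hd
      have := hvX χ hX
      have := hwX χ hX
      refine ⟨?_, hval χ hne (B.s χ) (B.s_sign χ hX) (by omega) (by omega)⟩
      show B.s χ * dg χ ∈ degs
      rcases hmd with ⟨he, hm⟩ | ⟨he, hm⟩ <;> rw [he]
      · simpa [dg] using hd1 hm
      · simpa [dg] using hd6 hm
  -- signs and weights
  have hposd : ∀ χ : IrrCharacter G, 0 < charDegree (χ : G → ℂ) := fun χ =>
    (H83.charDegree_eq χ.2).2
  have hεs : -B.ε = 1 ∨ -B.ε = -1 := by have := B.ε_sign; omega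
  have hte := hmemF te (hperm.mem_iff.2 (List.mem_cons_self ..))
  have htx : ∀ χ ∈ B.X', tx χ ∈ L := fun χ hχ =>
    hperm.mem_iff.2 (List.mem_cons_of_mem _ (List.mem_map.2 ⟨χ, Finset.mem_toList.2 hχ, rfl⟩))
  -- sums
  have hsgn : ∀ χ ∈ B.X', sgn (tx χ).1 = B.s χ := fun χ hχ =>
    sgn_sign (hposd χ) (B.s_sign χ (B.mem_X'.1 hχ).2)
  have hsgne : sgn te.1 = -B.ε := sgn_sign (hposd B.θ) hεs
  have hF : 1 + (L.map fun q => q.1).sum = 0 := by
    rw [hsumZ]
    show 1 + (-B.ε * dg B.θ + ∑ χ ∈ B.X', B.s χ * dg χ) = 0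
    linear_combination hdeg
  have hFF : 1 + (L.map fun q => q.1 * q.1).sum ≤ 12096 := by
    rw [hsumZ]
    show 1 + (-B.ε * dg B.θ * (-B.ε * dg B.θ) + ∑ χ ∈ B.X', B.s χ * dg χ * (B.s χ * dg χ)) ≤ 12096
    rw [Finset.sum_congr rfl (g := fun χ => dg χ * dg χ) (fun χ hχ => by
      rcases B.s_sign χ (B.mem_X'.1 hχ).2 with h | h <;> rw [h] <;> ring)]
    have : -B.ε * dg B.θ * (-B.ε * dg B.θ) = dg B.θ * dg B.θ := by
      rcases B.ε_sign with h | h <;> rw [h] <;> ring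
    omega
  have hlinL : ∀ z : IrrCharacter G → ℤ, ∀ pr : ℤ × ℤ × ℤ → ℤ, pr te = z B.θ →
      (∀ χ ∈ B.X', pr (tx χ) = z χ) →
      (L.map fun q => sgn q.1 * pr q).sum = ∑ χ ∈ B.X', B.s χ * z χ - B.ε * z B.θ := by
    intro z pr h0 h1
    rw [hsumZ, hsgne, h0, Finset.sum_congr rfl fun χ hχ => by rw [hsgn χ hχ, h1 χ hχ]]
    ring
  have hwtL : ∀ (z z' : IrrCharacter G → ℤ) (pr : ℤ × ℤ × ℤ → ℤ), pr te = z B.θ * z' B.θ →
      (∀ χ ∈ B.X', pr (tx χ) = z χ * z' χ) →
      (((L.map fun q => pr q * (1728 / q.1)).sum : ℤ) : ℚ) =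
        1728 * (∑ χ ∈ B.X', (B.s χ : ℚ) * ((z χ : ℚ) * z' χ / (dg χ : ℚ)) -
          (B.ε : ℚ) * ((z B.θ : ℚ) * z' B.θ / (dg B.θ : ℚ))) := by
    intro z z' pr h0 h1
    rw [Int.cast_list_sum, List.map_map, hsum]
    simp only [Function.comp_apply, Int.cast_mul]
    rw [Finset.sum_congr rfl (g := fun χ => 1728 * ((B.s χ : ℚ) * ((z χ : ℚ) * z' χ / (dg χ : ℚ))))
      (fun χ hχ => by
        rw [h1 χ hχ, show (tx χ).1 = B.s χ * ((charDegree (χ : G → ℂ) : ℕ) : ℤ) from rfl,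
          weight_eq (hposd χ) (B.s_sign χ (B.mem_X'.1 hχ).2) (hmemF _ (htx χ hχ)).1]
        simp only [dg, Int.cast_natCast, Int.cast_mul]
        ring)]
    rw [h0, show te.1 = -B.ε * ((charDegree (B.θ : G → ℂ) : ℕ) : ℤ) from rfl,
      weight_eq (hposd B.θ) hεs hte.1, ← Finset.mul_sum]
    simp only [dg, Int.cast_natCast, Int.cast_mul, Int.cast_neg]
    ring
  -- the options
  obtain ⟨q1, q2, q3, q4, q5, q6, hL⟩ : ∃ q1 q2 q3 q4 q5 q6, L = [q1, q2, q3, q4, q5, q6] := by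
    match L, hlen with
    | [a, b, c, d, e, f], _ => exact ⟨a, b, c, d, e, f, rfl⟩
  have hle : L.Pairwise (fun p q => p.1 ≤ q.1) := hsorted.imp fun {p q} h => by
    rcases (Prod.Lex.le_iff.1 h) with h' | h'
    · exact le_of_lt h'
    · exact le_of_eq h'.1
  have hle2 : L.Pairwise (fun p q => p.1 = q.1 → p.2.1 ≤ q.2.1) := hsorted.imp fun {p q} h e => by
    rcases (Prod.Lex.le_iff.1 h) with h' | h'
    · exact absurd e (ne_of_lt h')
    · exact h'.2
  have hopt : L.map (fun q => q.1) ∈ options := by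
    rw [hL] at hle hF hFF hmemF ⊢
    simp only [List.map_cons, List.map_nil, List.sum_cons, List.sum_nil, add_zero] at hF hFF ⊢
    simp only [List.pairwise_cons, List.mem_cons, List.not_mem_nil, or_false, forall_eq_or_imp,
      forall_eq] at hle
    refine options_spec _ (hmemF _ (by simp)).1 _ (hmemF _ (by simp)).1 hle.1.1
      _ (hmemF _ (by simp)).1 hle.2.1.1 _ (hmemF _ (by simp)).1 hle.2.2.1.1
      _ (hmemF _ (by simp)).1 hle.2.2.2.1.1 _ (hmemF _ (by simp)).1 hle.2.2.2.2.1 ?_ ?_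
    · linarith
    · linarith
  -- the values at `x`
  have hwx := hwtL v v (fun q => q.2.1 * q.2.1) rfl (fun χ _ => rfl)
  have hkk : ((Nat.card (centralizer ({x} : Set G)) : ℕ) : ℤ) *
      (Nat.card (centralizer ({x} : Set G)) : ℕ) =
        1728 + (L.map fun q => q.2.1 * q.2.1 * (1728 / q.1)).sum := by
    have hidx : ((centralizer ({x} : Set G)).index : ℚ) *
        (Nat.card (centralizer ({x} : Set G)) : ℚ) = 12096 := by
      rw [← Nat.cast_mul, index_mul_card, hc]; norm_num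
    have hi0 : ((centralizer ({x} : Set G)).index : ℚ) ≠ 0 :=
      Nat.cast_ne_zero.2 FiniteIndex.index_ne_zero
    rw [hc] at hquadx
    apply (Int.cast_inj (α := ℚ)).1
    rw [Int.cast_add, hwx]
    push_cast
    apply mul_left_cancel₀ (pow_ne_zero 2 hi0)
    push_cast at hquadx
    linear_combination
      (((centralizer ({x} : Set G)).index : ℚ) * (Nat.card (centralizer ({x} : Set G)) : ℚ) + 12096)
        * hidx - 1728 * hquadx
  have hsurv : L.map (fun q => (q.1, q.2.1)) = surv := by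
    have hgo := go_sound (L.map fun q => (q.1, q.2.1)) 0 0 1 1 1728
      ((Nat.card (centralizer ({x} : Set G)) : ℕ) : ℤ) []
    simp only [List.map_map, List.reverse_nil, List.nil_append] at hgo
    refine hgo (options_go _ hopt) ?_ ?_ ?_ hk ?_ hkk
    · refine List.pairwise_cons.2 ⟨fun p hp e => ?_, List.pairwise_map.2 hle2⟩
      obtain ⟨q, hq, rfl⟩ := List.mem_map.1 hp
      have := (hmemF q hq).1
      simp only at e
      rw [← e] at this
      exact absurd this (by decide)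
    · intro p hp
      obtain ⟨q, hq, rfl⟩ := List.mem_map.1 hp
      exact ⟨(hmemF q hq).1, (hmemF q hq).2.1⟩
    · show 1 + (L.map fun q => sgn q.1 * q.2.1).sum = 0
      rw [hlinL v (fun q => q.2.1) rfl (fun χ _ => rfl)]
      linarith
    · show 1 + (L.map fun q => q.2.1 * q.2.1).sum ≤ _
      rw [hsumZ]
      show 1 + (v B.θ * v B.θ + ∑ χ ∈ B.X', v χ * v χ) ≤ _
      linarith
  rw [hL] at hsurv hkk
  simp only [List.map_cons, List.map_nil, surv, List.cons.injEq, Prod.mk.injEq] at hsurv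
  obtain ⟨⟨f1, a1⟩, ⟨f2, a2⟩, ⟨f3, a3⟩, ⟨f4, a4⟩, ⟨f5, a5⟩, ⟨f6, a6⟩, -⟩ := hsurv
  simp only [List.map_cons, List.map_nil, List.sum_cons, List.sum_nil, f1, a1, f2, a2, f3, a3, f4,
    a4, f5, a5, f6, a6] at hkk
  have hk48 : Nat.card (centralizer ({x} : Set G)) = 48 := by
    generalize Nat.card (centralizer ({x} : Set G)) = k at hkk ⊢
    norm_num at hkk
    have h2 : ((k : ℕ) : ℤ) = 48 := by nlinarith
    exact_mod_cast h2
  have hxs : ¬ IsConj x s := by
    intro h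
    obtain ⟨d, hd⟩ := isConj_iff.1 h
    have hmap : (centralizer ({x} : Set G)).map (MulAut.conj d).toMonoidHom =
        centralizer ({s} : Set G) := by
      ext y
      simp only [mem_map, mem_centralizer_singleton_iff, MulEquiv.coe_toMonoidHom,
        MulAut.conj_apply, ← hd]
      constructor
      · rintro ⟨z, hz, rfl⟩
        calc d * z * d⁻¹ * (d * x * d⁻¹) = d * (z * x) * d⁻¹ := by group
          _ = d * x * d⁻¹ * (d * z * d⁻¹) := by rw [hz]; group
      · intro hy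
        refine ⟨d⁻¹ * y * d, ?_, by group⟩
        calc d⁻¹ * y * d * x = d⁻¹ * (y * (d * x * d⁻¹)) * d := by group
          _ = x * (d⁻¹ * y * d) := by rw [hy]; group
    have h := hk48
    rw [← card_map_of_injective (f := (MulAut.conj d).toMonoidHom) (MulAut.conj d).injective,
      hmap] at h
    rw [h] at h64
    norm_num at h64
  -- the values at `s`
  obtain ⟨hlins, hquads, -⟩ := B.eqs hs w w hw hw hw1 hw1 0 (hother s s hs hs hxs)
  obtain ⟨-, hquadxs, -⟩ := B.eqs hs w v hw hv hw1 hv1 0 (hother s x hs hx hxs)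
  have hne : ∀ g : G, ((centralizer ({g} : Set G)).index : ℚ) ≠ 0 :=
    fun g => Nat.cast_ne_zero.2 FiniteIndex.index_ne_zero
  rw [Nat.cast_zero, zero_mul] at hquads hquadxs
  replace hquads := (mul_eq_zero.1 hquads).resolve_left (mul_ne_zero (hne s) (hne s))
  replace hquadxs := (mul_eq_zero.1 hquadxs).resolve_left (mul_ne_zero (hne s) (hne x))
  have e1 := hlinL w (fun q => q.2.2) rfl (fun χ _ => rfl)
  have e2 := hwtL w w (fun q => q.2.2 * q.2.2) rfl (fun χ _ => rfl)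
  have e3 := hwtL w v (fun q => q.2.2 * q.2.1) rfl (fun χ _ => rfl)
  simp only [hL, List.map_cons, List.map_nil, List.sum_cons, List.sum_nil, f1, a1, f2, a2, f3, a3,
    f4, a4, f5, a5, f6, a6, sgn] at e1 e2 e3
  norm_num at e1 e2 e3
  rw [hL] at hmemF
  have m1 := (hmemF q1 (by simp)).2.2
  have m2 := (hmemF q2 (by simp)).2.2
  have m3 := (hmemF q3 (by simp)).2.2
  have m4 := (hmemF q4 (by simp)).2.2
  have m5 := (hmemF q5 (by simp)).2.2
  have m6 := (hmemF q6 (by simp)).2.2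
  rw [f1] at m1
  rw [f2] at m2
  rw [f3] at m3
  rw [f4] at m4
  rw [f5] at m5
  rw [f6] at m6
  have hlinsQ : (1 : ℚ) + ∑ χ ∈ B.X', (B.s χ : ℚ) * w χ = (B.ε : ℚ) * w B.θ := by
    exact_mod_cast hlins
  have l2 : q3.2.2 = 3 * q5.2.2 - 27 - q1.2.2 - q2.2.2 := by
    have h : (q3.2.2 : ℚ) = ((3 * q5.2.2 - 27 - q1.2.2 - q2.2.2 : ℤ) : ℚ) := by
      push_cast
      linear_combination e3 / 64 + 27 * hquadxs
    exact_mod_cast h
  have l1 : q6.2.2 = 2 * q5.2.2 - 28 - q4.2.2 := by linarith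
  refine surv_second _ m4 _ m1 _ m2 _ m5 ?_ ?_ ?_
  · rw [← l2]; exact m3
  · rw [← l1]; exact m6
  · rw [← l2, ← l1]
    have h : ((1728 + 216 * q4.2.2 * q4.2.2 - 64 * (q1.2.2 * q1.2.2 + q2.2.2 * q2.2.2 +
        q3.2.2 * q3.2.2) + 48 * (q5.2.2 * q5.2.2 + q6.2.2 * q6.2.2) : ℤ) : ℚ) = ((0 : ℤ) : ℚ) := by
      push_cast
      linear_combination e2 + 1728 * hquads
    exact_mod_cast h

end Cfsg.Agent.Compute.G22
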