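import Cfsg.Agent.Compute.G22.Simple4032
import Cfsg.Agent.CharInduce.Ops

/-!
The principal `7`-block of a simple group of order `6048` satisfying `Spec`.
-/

set_option autoImplicit false
set_option maxHeartbeats 1000000

namespace Cfsg.Agent.Compute.G22

open Cfsg Subgroup Cfsg.Agent.BlockBasic Cfsg.Agent.CharBasic
open scoped ComplexConjugate

variable {G : Type*} [Group G] [Fintype G]

/-- The characters of degree `6`, `27` and `32` of a simple group of order `6048`. -/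
structure Chars (G : Type*) [Group G] [Fintype G] where
  χ6 : IrrCharacter G
  χ27 : IrrCharacter G
  θ : IrrCharacter G
  d6 : charDegree (χ6 : G → ℂ) = 6
  d27 : charDegree (χ27 : G → ℂ) = 27
  d32 : charDegree (θ : G → ℂ) = 32
  rel : ∀ g : G, ¬ 7 ∣ orderOf g →
    (χ6 : G → ℂ) g + (χ27 : G → ℂ) g = 1 + (θ : G → ℂ) g
  val6 : ∀ t : G, orderOf t = 2 → (χ6 : G → ℂ) t = -2
  val27 : ∀ t : G, orderOf t = 2 → (χ27 : G → ℂ) t = 3
  real6 : ∀ g : G, conj ((χ6 : G → ℂ) g) = (χ6 : G → ℂ) g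

theorem orderOf_eq_three {G : Type*} [Group G] [Finite G] (S : Spec G) (P : Sylow 3 G)
    (hP : Nat.card (P : Subgroup G) ∣ 27) {g : G} (hg : g ∈ (P : Subgroup G)) (h1 : g ≠ 1) :
    orderOf g = 3 := by
  obtain ⟨k, hk, hk'⟩ := (Nat.dvd_prime_pow Nat.prime_three).1
    ((Subgroup.orderOf_dvd_natCard _ hg).trans hP : orderOf g ∣ 3 ^ 3)
  interval_cases k
  · exact absurd (orderOf_eq_one_iff.1 (by simpa using hk')) h1
  · simpa using hk'
  · exact absurd hk' (S.no9 g)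
  · exfalso
    refine S.no9 (g ^ 3) ?_
    rw [orderOf_pow' g (by norm_num), hk']
    norm_num

theorem card_sylow_three {G : Type*} [Group G] [Finite G] (hc : Nat.card G = 6048)
    (P : Sylow 3 G) : Nat.card (P : Subgroup G) = 27 :=
  haveI := Fact.mk Nat.prime_three
  (H36.card_sylow_eq (a := 3) hc P (m := 224) (by norm_num) (by norm_num)).trans (by norm_num)

variable [IsSimpleGroup G]

/-- The characters of a simple group of order `6048`. -/
theorem exists_chars (S : Spec G) (hc : Nat.card G = 6048) : Nonempty (Chars G) := by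
  classical
  haveI : Fact (Nat.Prime 7) := ⟨by norm_num⟩
  haveI : Fact (Nat.Prime 2) := ⟨Nat.prime_two⟩
  haveI : Fact (Nat.Prime 3) := ⟨Nat.prime_three⟩
  have hn : ¬ (Nat.card G).Prime := by rw [hc]; norm_num
  obtain ⟨P⟩ := Sylow.nonempty (p := 7) (G := G)
  obtain ⟨e, he6, hN, hrel, hn7, hmod⟩ := S.exists_e P
  obtain rfl : e = 3 := by
    rw [hc] at hn7
    have : e ≤ 6 := Nat.le_of_dvd (by norm_num) he6
    interval_cases e <;> first | omega | norm_num at he6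
  obtain ⟨B⟩ := exists_pblock P (S.card_sylow P) hrel
  have h2N : ¬ 2 ∣ Nat.card (normalizer ((P : Subgroup G) : Set G)) := by rw [hN]; norm_num
  obtain ⟨χa, χb, hab, hX⟩ := Finset.card_eq_two.1 B.card_X'
  have hma : χa ∈ B.X' := by rw [hX]; simp
  have hmb : χb ∈ B.X' := by rw [hX]; simp
  have hdeg := B.deg_sum
  have hbnd := B.deg_bound
  rw [hX, Finset.sum_pair hab] at hdeg hbnd
  obtain ⟨h2a, hda, hdda, hmda⟩ := B.deg_X' hn hma
  obtain ⟨h2b, hdb, hddb, hmdb⟩ := B.deg_X' hn hmb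
  obtain ⟨h2', hd', hdd', hmd'⟩ := B.deg_θ hn (by norm_num) (by norm_num)
  rw [hc] at hda hdda hdb hddb hd' hdd' hbnd
  have hsq : ∀ s : ℤ, (s = 1 ∨ s = -1) → ∀ z : ℤ, s * z * (s * z) = z * z := by
    rintro s (rfl | rfl) z <;> ring
  have hopt := opts_mid _ (cand_mem h2a (by nlinarith) hda hmda)
    _ (cand_mem h2b (by nlinarith) hdb hmdb)
    _ (candExc_mem h2' (by nlinarith) hd' (by norm_num) hmd') (by unfold dg at hdeg; linarith) (by
      have := hsq _ (B.s_sign χa (B.mem_X'.1 hma).2) (dg χa)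
      have := hsq _ (B.s_sign χb (B.mem_X'.1 hmb).2) (dg χb)
      have := hsq _ B.ε_sign (dg B.θ)
      have h3 : ((7 - 1) / 3 : ℕ) = 2 := rfl
      rw [h3] at hbnd
      unfold dg at *
      push_cast at hbnd
      linarith)
  obtain ⟨t₀, ht₀⟩ := exists_prime_orderOf_dvd_card' (G := G) 2 (by rw [hc]; norm_num)
  have hθne : B.θ ≠ trivialIrr := B.θ_ne_triv
  -- the case of degree three
  by_cases hT : B.ε * ((charDegree (B.θ : G → ℂ) : ℕ) : ℤ) = 3
  · exfalso
    have h3 : charDegree (B.θ : G → ℂ) = 3 := by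
      rcases hmd' with ⟨h, -⟩ | ⟨h, -⟩ <;> rw [h] at hT <;> omega
    obtain ⟨Q⟩ := Sylow.nonempty (p := 3) (G := G)
    obtain ⟨m, hm⟩ := fixDim_nat (IsIrr.isCharacter B.θ.2) (Q : Subgroup G)
    rw [fixDim_eq, card_sylow_three hc Q, Finset.sum_eq_single (1 : (Q : Subgroup G)), OneMemClass.coe_one,
      (H83.charDegree_eq B.θ.2).1, h3] at hm
    · have h : ((3 : ℕ) : ℂ) = ((27 * m : ℕ) : ℂ) := by
        push_cast; rw [← hm]; ring
      have h' : 3 = 27 * m := by exact_mod_cast h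
      omega
    · intro q _ hq
      exact three_value (Spec.hna hn) (ne_const hθne) h3 (orderOf_eq_three S Q
        (card_sylow_three hc Q).dvd q.2 fun h => hq (Subtype.ext h))
    · exact fun h => absurd (Finset.mem_univ _) h
  -- sort the two characters
  obtain ⟨χ, χ', hXp, hne, hX₁, hX₂, hopt'⟩ : ∃ χ χ' : IrrCharacter G, B.X' = {χ, χ'} ∧ χ ≠ χ' ∧
      χ ∈ B.X' ∧ χ' ∈ B.X' ∧ B.s χ' * dg χ' = -27 ∧
        ((B.s χ * dg χ = 8 ∧ B.ε * dg B.θ = -18) ∨ (B.s χ * dg χ = -6 ∧ B.ε * dg B.θ = -32)) := by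
    rcases hopt with ⟨-, -, h⟩ | ⟨-, -, h⟩ | ⟨ha, hb, h⟩ | ⟨ha, hb, h⟩ | ⟨ha, hb, h⟩ | ⟨ha, hb, h⟩
    · exact absurd h hT
    · exact absurd h hT
    · exact ⟨χa, χb, hX, hab, hma, hmb, hb, Or.inl ⟨ha, h⟩⟩
    · exact ⟨χb, χa, by rw [hX, Finset.pair_comm], hab.symm, hmb, hma, ha, Or.inl ⟨hb, h⟩⟩
    · exact ⟨χa, χb, hX, hab, hma, hmb, hb, Or.inr ⟨ha, h⟩⟩
    · exact ⟨χb, χa, by rw [hX, Finset.pair_comm], hab.symm, hmb, hma, ha, Or.inr ⟨hb, h⟩⟩
  obtain ⟨h27, hopt'⟩ := hopt'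
  have hs27 : B.s χ' = -1 ∧ dg χ' = 27 := by
    have h0 : 0 ≤ dg χ' := Int.natCast_nonneg _
    rcases B.s_sign χ' (B.mem_X'.1 hX₂).2 with h | h <;> rw [h] at h27 <;> omega
  have hε : B.ε = -1 := by
    have h0 : 0 ≤ dg B.θ := Int.natCast_nonneg _
    rcases B.ε_sign with h | h <;> rcases hopt' with ⟨-, h'⟩ | ⟨-, h'⟩ <;> rw [h] at h' <;> omega
  have hval : ∀ t : G, orderOf t = 2 → ∃ a c : ℤ, (χ : G → ℂ) t = a ∧
      (χ' : G → ℂ) t = ((1 + B.s χ * a + c : ℤ) : ℂ) ∧ (B.θ : G → ℂ) t = c ∧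
      (4 : ℤ) ∣ dg χ - a ∧ a * a < dg χ * dg χ ∧ (4 : ℤ) ∣ dg B.θ - c ∧
      c * c < dg B.θ * dg B.θ ∧
      (1 : ℚ) + B.s χ * ((a : ℚ) * a / (dg χ : ℚ)) -
        (((1 + B.s χ * a + c : ℤ) : ℚ) * ((1 + B.s χ * a + c : ℤ) : ℚ)) / 27 +
          (c : ℚ) * c / (dg B.θ : ℚ) = 0 ∧
      1 + a * a + (1 + B.s χ * a + c) * (1 + B.s χ * a + c) + 2 * (c * c) ≤
        Nat.card (centralizer ({t} : Set G)) := by
    intro t ht
    obtain ⟨v, hv, hv1, hv'⟩ := Spec.exists_values hn ht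
    obtain ⟨hlin, hquad, hb⟩ := B.eqs ht v v hv hv hv1 hv1 0
      fun g hg => S.cnt_eq_zero_of_odd P h2N ht ht g hg
    rw [hXp, Finset.sum_pair hne] at hlin hquad hb
    rw [hs27.1, hε] at hlin hquad
    rw [hs27.2] at hquad
    have hb2 : v χ' = 1 + B.s χ * v χ + v B.θ := by linarith
    obtain ⟨h4, hlt⟩ := hv' χ (B.mem_X'.1 hX₁).1
    obtain ⟨h4', hlt'⟩ := hv' B.θ hθne
    refine ⟨v χ, v B.θ, hv χ, by rw [← hb2]; exact hv χ', hv B.θ, h4, hlt, h4', hlt', ?_, ?_⟩
    · rw [Nat.cast_zero, zero_mul] at hquad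
      have h := (mul_eq_zero.1 hquad).resolve_left
        (mul_ne_zero (Nat.cast_ne_zero.2 FiniteIndex.index_ne_zero)
          (Nat.cast_ne_zero.2 FiniteIndex.index_ne_zero))
      rw [← hb2]
      push_cast at h ⊢
      linear_combination h
    · rw [← hb2]
      have h3 : ((7 - 1) / 3 : ℕ) = 2 := rfl
      rw [h3] at hb
      push_cast at hb
      linarith
  rcases hopt' with ⟨h8, h18⟩ | ⟨h6, h32⟩
  · exfalso
    have hd8 : B.s χ = 1 ∧ dg χ = 8 := by
      have h0 : 0 ≤ dg χ := Int.natCast_nonneg _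
      rcases B.s_sign χ (B.mem_X'.1 hX₁).2 with h | h <;> rw [h] at h8 <;> omega
    have hd18 : dg B.θ = 18 := by rw [hε] at h18; omega
    obtain ⟨a, c, -, -, -, h4, hlt, h4', hlt', hq, -⟩ := hval t₀ ht₀
    rw [hd8.2] at h4 hlt hq
    rw [hd18] at h4' hlt' hq
    rw [hd8.1] at hq
    refine mid_eighteen a (mem_vals h4 hlt (by linarith)) c (mem_vals h4' hlt' (by linarith)) ?_
    apply (Int.cast_inj (α := ℚ)).1
    push_cast at hq ⊢
    linear_combination 216 * hq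
  have hd6 : B.s χ = -1 ∧ dg χ = 6 := by
    have h0 : 0 ≤ dg χ := Int.natCast_nonneg _
    rcases B.s_sign χ (B.mem_X'.1 hX₁).2 with h | h <;> rw [h] at h6 <;> omega
  have hd32 : dg B.θ = 32 := by rw [hε] at h32; omega
  have hval' : ∀ t : G, orderOf t = 2 → (χ : G → ℂ) t = -2 ∧ (χ' : G → ℂ) t = 3 := by
    intro t ht
    obtain ⟨a, c, ha, hb, -, h4, hlt, h4', hlt', hq, hbd⟩ := hval t ht
    rw [hd6.2] at h4 hlt hq
    rw [hd32] at h4' hlt' hq
    rw [hd6.1] at hq hb hbd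
    have hz : 864 - 144 * a * a - 32 * (1 - a + c) * (1 - a + c) + 27 * c * c = 0 := by
      apply (Int.cast_inj (α := ℚ)).1
      push_cast at hq ⊢
      linear_combination 864 * hq
    rcases mid_thirtytwo a (mem_vals h4 (by linarith) (by linarith)) c
      (mem_vals h4' (by linarith) (by linarith)) hz with ⟨rfl, rfl⟩ | ⟨rfl, rfl⟩
    · exact ⟨by rw [ha]; norm_num, by rw [hb]; norm_num⟩
    · exfalso
      have hdvd := S.centralizer_invol ht (m := 864) (by rw [hc])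
      have heq : Nat.card (centralizer ({t} : Set G)) = 864 := by
        obtain ⟨k, hk⟩ := hdvd
        rcases Nat.lt_or_ge k 2 with h | h
        · interval_cases k <;> omega
        · nlinarith
      exact absurd (H36.card_dvd_factorial_of_card hc heq (by norm_num)) (by decide)
  have h7 : ¬ 7 ∣ orderOf (1 : G) := by rw [orderOf_one, Nat.dvd_one]; norm_num
  have deg1 : ∀ ψ : IrrCharacter G, (ψ : G → ℂ) 1 = (charDegree (ψ : G → ℂ) : ℂ) :=
    fun ψ => (H83.charDegree_eq ψ.2).1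
  have hdχ : charDegree (χ : G → ℂ) = 6 := by have := hd6.2; unfold dg at this; omega
  have hdθ : charDegree (B.θ : G → ℂ) = 32 := by have := hd32; unfold dg at this; omega
  have hd' : charDegree (χ' : G → ℂ) = 27 := by have := hs27.2; unfold dg at this; omega
  refine ⟨⟨χ, χ', B.θ, hdχ, hd', hdθ, fun g hg => ?_, fun t ht => (hval' t ht).1,
    fun t ht => (hval' t ht).2, fun g => ?_⟩⟩
  · have h := B.rel g hg
    rw [B.sum_X, hXp, Finset.sum_pair hne, B.s_triv, hd6.1, hs27.1, hε, triv_apply] at h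
    push_cast at h
    linear_combination h
  · have hreal := B.real χ (Finset.mem_union_left _ (B.mem_X'.1 hX₁).2)
    have hc6 : (H80.conjIrr χ : G → ℂ) 1 = 6 := by
      rw [H80.conjIrr_apply, deg1, hdχ, map_natCast]; norm_num
    have heq : H80.conjIrr χ = χ := by
      rcases Finset.mem_union.1 hreal with h | h
      · rcases eq_or_ne (H80.conjIrr χ) trivialIrr with e | e
        · rw [e, triv_apply] at hc6; norm_num at hc6
        · have hm : H80.conjIrr χ ∈ B.X' := B.mem_X'.2 ⟨e, h⟩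
          rw [hXp, Finset.mem_insert, Finset.mem_singleton] at hm
          rcases hm with e' | e'
          · exact e'
          · rw [e', deg1, hd'] at hc6; norm_num at hc6
      · rw [B.same _ h 1 h7, deg1, hdθ] at hc6; norm_num at hc6
    have := congrFun (congrArg Subtype.val heq) g
    rw [H80.conjIrr_apply] at this
    exact this

end Cfsg.Agent.Compute.G22
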