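import Cfsg.Agent.Compute.G22.Values
import Cfsg.Agent.Compute.G22.Search

/-!
The principal `7`-block of a simple group satisfying `Spec`, in numbers.
-/

set_option autoImplicit false

namespace Cfsg.Agent.Compute.G22

open Cfsg Subgroup Cfsg.Agent.BlockBasic Cfsg.Agent.CharBasic
open scoped ComplexConjugate

variable {G : Type*} [Group G] [Fintype G]

theorem triv_apply (g : G) : ((trivialIrr : IrrCharacter G) : G → ℂ) g = 1 := rfl

theorem deg_triv : charDegree ((trivialIrr : IrrCharacter G) : G → ℂ) = 1 := by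
  have h := (H83.charDegree_eq (trivialIrr : IrrCharacter G).2).1
  rw [triv_apply] at h
  exact_mod_cast h.symm

/-- The degree as an integer. -/
noncomputable def dg (χ : IrrCharacter G) : ℤ := charDegree (χ : G → ℂ)

theorem ne_const {χ : IrrCharacter G} (h : χ ≠ trivialIrr) : (χ : G → ℂ) ≠ fun _ => 1 :=
  fun e => h (Subtype.ext e)

namespace Spec

variable [IsSimpleGroup G] (S : Spec G) (hn : ¬ (Nat.card G).Prime)

include hn in
theorem hna : ∃ x y : G, x * y ≠ y * x := by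
  by_contra h
  push Not at h
  exact H36.not_comm_of_simple hn (H36.isMulCommutative_of_forall h)

include hn in
/-- Values at an involution. -/
theorem exists_values {J : G} (hJ : orderOf J = 2) :
    ∃ v : IrrCharacter G → ℤ, (∀ χ : IrrCharacter G, (χ : G → ℂ) J = v χ) ∧ v trivialIrr = 1 ∧
      ∀ χ : IrrCharacter G, χ ≠ trivialIrr → (4 : ℤ) ∣ dg χ - v χ ∧ v χ * v χ < dg χ * dg χ := by
  classical
  have h : ∀ χ : IrrCharacter G, ∃ a : ℤ, (χ : G → ℂ) J = a ∧
      (χ ≠ trivialIrr → (4 : ℤ) ∣ dg χ - a ∧ a * a < dg χ * dg χ) := by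
    intro χ
    rcases eq_or_ne χ trivialIrr with rfl | hne
    · exact ⟨1, by rw [triv_apply, Int.cast_one], fun h => absurd rfl h⟩
    · obtain ⟨a, ha, h4, h1, h2⟩ := invol_value (hna hn) (ne_const hne) rfl hJ
      exact ⟨a, ha, fun _ => ⟨h4, by unfold dg; nlinarith⟩⟩
  choose v hv hv' using h
  refine ⟨v, hv, ?_, hv'⟩
  have := hv trivialIrr
  rw [triv_apply] at this
  exact_mod_cast this.symm

variable [Fact (Nat.Prime 7)]

omit [Fintype G] [IsSimpleGroup G] in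
theorem not_seven_two {s : G} (hs : orderOf s = 2) : ¬ 7 ∣ orderOf s := by rw [hs]; norm_num

include S in
omit [IsSimpleGroup G] in
theorem centralizer_invol {s : G} (hs : orderOf s = 2) {m : ℕ} (hm : Nat.card G = 7 * m) :
    Nat.card (centralizer ({s} : Set G)) ∣ m := by
  have h7 : ¬ 7 ∣ Nat.card (centralizer ({s} : Set G)) := by
    intro h
    obtain ⟨⟨y, hy⟩, hyo⟩ := exists_prime_orderOf_dvd_card' (G := centralizer ({s} : Set G)) 7 h
    rw [Subgroup.orderOf_mk] at hyo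
    have hs' : s ∈ centralizer ({y} : Set G) :=
      mem_centralizer_singleton_iff.2 (mem_centralizer_singleton_iff.1 hy).symm
    rw [S.centralizer_elt hyo] at hs'
    have := Subgroup.orderOf_dvd_natCard _ hs'
    rw [hs, Nat.card_zpowers, hyo] at this
    norm_num at this
  have hd : Nat.card (centralizer ({s} : Set G)) ∣ 7 * m := hm ▸ card_subgroup_dvd_card _
  exact (Nat.Coprime.dvd_of_dvd_mul_left
    (((Nat.Prime.coprime_iff_not_dvd (by norm_num)).2 h7).symm) hd)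

end Spec

namespace PBlock

variable {r : ℕ} (B : PBlock G 7 r)

open Classical in
/-- The nontrivial characters of the nonexceptional part. -/
noncomputable def X' : Finset (IrrCharacter G) := B.X.erase trivialIrr

theorem mem_X' {χ : IrrCharacter G} : χ ∈ B.X' ↔ χ ≠ trivialIrr ∧ χ ∈ B.X := by
  classical
  exact Finset.mem_erase

theorem card_X' : B.X'.card = r - 1 := by
  classical
  rw [X', Finset.card_erase_of_mem B.triv, B.cardX]

theorem sum_X {M : Type*} [AddCommMonoid M] (f : IrrCharacter G → M) :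
    ∑ χ ∈ B.X, f χ = f trivialIrr + ∑ χ ∈ B.X', f χ := by
  classical
  exact (Finset.add_sum_erase _ _ B.triv).symm

theorem deg_sum : 1 + ∑ χ ∈ B.X', B.s χ * dg χ = B.ε * dg B.θ := by
  have h := B.rel 1 (by rw [orderOf_one, Nat.dvd_one]; norm_num)
  simp only [(H83.charDegree_eq (χ := ((_ : IrrCharacter G) : G → ℂ)) (Subtype.prop _)).1] at h
  have h' : ∑ χ ∈ B.X, B.s χ * dg χ = B.ε * dg B.θ := by
    unfold dg; exact_mod_cast h.symm
  rw [B.sum_X, B.s_triv] at h'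
  simpa [dg, deg_triv] using h'

theorem deg_bound : 1 + ∑ χ ∈ B.X', dg χ * dg χ + ((7 - 1) / r : ℕ) * (dg B.θ * dg B.θ) ≤
    Nat.card G := by
  have h := B.deg_le (by norm_num)
  rw [B.sum_X] at h
  simpa [dg, deg_triv, sq] using h

variable [IsSimpleGroup G] (hn : ¬ (Nat.card G).Prime)

include hn in
theorem deg_X' {χ : IrrCharacter G} (h : χ ∈ B.X') :
    2 ≤ charDegree (χ : G → ℂ) ∧ charDegree (χ : G → ℂ) ∣ Nat.card G ∧
      charDegree (χ : G → ℂ) * charDegree (χ : G → ℂ) < Nat.card G ∧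
      ((B.s χ = 1 ∧ charDegree (χ : G → ℂ) % 7 = 1) ∨
        (B.s χ = -1 ∧ charDegree (χ : G → ℂ) % 7 = 6)) := by
  obtain ⟨hne, hX⟩ := B.mem_X'.1 h
  refine ⟨H81.SimpleDegree.two_le_charDegree (Spec.hna hn) (ne_const hne),
    H83.charDegree_dvd_card χ.2, ?_, ?_⟩
  · have hb := B.deg_bound
    have h1 := Finset.single_le_sum (f := fun ψ => dg ψ * dg ψ)
      (fun ψ _ => mul_self_nonneg _) h
    have h2 : (0 : ℤ) ≤ ((7 - 1) / r : ℕ) * (dg B.θ * dg B.θ) :=
      mul_nonneg (Nat.cast_nonneg _) (mul_self_nonneg _)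
    have h3 : dg χ * dg χ < (Nat.card G : ℤ) := by omega
    unfold dg at h3
    exact_mod_cast h3
  · have hm := B.s_mod χ hX
    rcases B.s_sign χ hX with hs | hs <;> rw [hs, Int.modEq_iff_dvd] at hm
    · exact Or.inl ⟨hs, by omega⟩
    · exact Or.inr ⟨hs, by omega⟩

include hn in
theorem deg_θ (hr : 0 < r) (hr7 : r < 7) :
    2 ≤ charDegree (B.θ : G → ℂ) ∧ charDegree (B.θ : G → ℂ) ∣ Nat.card G ∧
      charDegree (B.θ : G → ℂ) * charDegree (B.θ : G → ℂ) < Nat.card G ∧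
      ((B.ε = 1 ∧ charDegree (B.θ : G → ℂ) % 7 = r) ∨
        (B.ε = -1 ∧ charDegree (B.θ : G → ℂ) % 7 = 7 - r)) := by
  refine ⟨H81.SimpleDegree.two_le_charDegree (Spec.hna hn) (ne_const B.θ_ne_triv),
    H83.charDegree_dvd_card B.θ.2, ?_, ?_⟩
  · have hb := B.deg_bound
    have h1 : 0 ≤ ∑ χ ∈ B.X', dg χ * dg χ := Finset.sum_nonneg fun ψ _ => mul_self_nonneg _
    have hk : (1 : ℤ) ≤ ((7 - 1) / r : ℕ) := by
      exact_mod_cast Nat.div_pos (by omega) hr
    have h2 : dg B.θ * dg B.θ ≤ ((7 - 1) / r : ℕ) * (dg B.θ * dg B.θ) :=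
      le_mul_of_one_le_left (mul_self_nonneg _) hk
    have h3 : dg B.θ * dg B.θ < (Nat.card G : ℤ) := by omega
    unfold dg at h3
    exact_mod_cast h3
  · have hm := B.ε_mod
    rcases B.ε_sign with hs | hs <;> rw [hs, Int.modEq_iff_dvd] at hm
    · exact Or.inl ⟨hs, by omega⟩
    · exact Or.inr ⟨hs, by omega⟩

omit [IsSimpleGroup G] in
theorem eqs [Fact (Nat.Prime 7)] {s t : G} (hs : orderOf s = 2) (v w : IrrCharacter G → ℤ)
    (hv : ∀ χ : IrrCharacter G, (χ : G → ℂ) s = v χ)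
    (hw : ∀ χ : IrrCharacter G, (χ : G → ℂ) t = w χ)
    (hv1 : v trivialIrr = 1) (hw1 : w trivialIrr = 1) (c : ℕ)
    (hc : ∀ g : G, 7 ∣ orderOf g → PBlock.cnt s t g = (c : ℂ)) :
    1 + ∑ χ ∈ B.X', B.s χ * v χ = B.ε * v B.θ ∧
      ((centralizer ({s} : Set G)).index : ℚ) * ((centralizer ({t} : Set G)).index : ℚ) *
        (1 + ∑ χ ∈ B.X', (B.s χ : ℚ) * ((v χ : ℚ) * w χ / (dg χ : ℚ)) -
          (B.ε : ℚ) * ((v B.θ : ℚ) * w B.θ / (dg B.θ : ℚ))) = (c : ℚ) * Nat.card G ∧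
      1 + ∑ χ ∈ B.X', v χ * v χ + ((7 - 1) / r : ℕ) * (v B.θ * v B.θ) ≤
        Nat.card (centralizer ({s} : Set G)) := by
  obtain ⟨h1, h2, h3⟩ := B.int_eqs (Spec.not_seven_two hs) v w (fun χ _ => hv χ) (fun χ _ => hw χ) c hc
  rw [B.sum_X, B.s_triv, hv1, one_mul] at h1
  rw [B.sum_X, B.s_triv, hv1, hw1, deg_triv] at h2
  rw [B.sum_X, hv1] at h3
  refine ⟨h1, ?_, by simpa [sq] using h3⟩
  simpa [dg] using h2

end PBlock

end Cfsg.Agent.Compute.G22
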