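import Cfsg.Agent.Compute.G22.Cosets

/-!
Sylow `3`-subgroups of a simple group of order `6048`.
-/

set_option autoImplicit false

namespace Cfsg.Agent.Compute.G22

open Cfsg Subgroup Cfsg.Agent.BlockBasic Cfsg.Agent.CharBasic
open scoped ComplexConjugate

variable {G : Type*} [Group G] [Fintype G] [IsSimpleGroup G] (S : Spec G) (hc : Nat.card G = 6048)

include S hc

/-- There are `28` or `112` Sylow `3`-subgroups. -/
theorem card_sylow_three_cases (P : Sylow 3 G) :
    (Nat.card (Sylow 3 G) = 28 ∧ Nat.card (normalizer ((P : Subgroup G) : Set G)) = 216) ∨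
      (Nat.card (Sylow 3 G) = 112 ∧ Nat.card (normalizer ((P : Subgroup G) : Set G)) = 54) := by
  classical
  haveI := Fact.mk Nat.prime_three
  haveI : Fact (Nat.Prime 7) := ⟨by norm_num⟩
  obtain ⟨hd, hmod⟩ := H36.card_sylow_dvd (p := 3) (a := 3) hc (m := 224) (by norm_num) (by norm_num)
  have hmul := H36.card_sylow_mul_normalizer P
  rw [hc] at hmul
  have hne : normalizer ((P : Subgroup G) : Set G) ≠ ⊤ :=
    H36.normalizer_sylow_ne_top P (by rw [hc]; norm_num) (fun k h => by
      rw [hc] at h
      have h7 := (by norm_num : Nat.Prime 7).dvd_of_dvd_pow (h ▸ (by norm_num) : 7 ∣ 3 ^ k)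
      norm_num at h7)
  have hidx : (normalizer ((P : Subgroup G) : Set G)).index = Nat.card (Sylow 3 G) :=
    (P.card_eq_index_normalizer).symm
  have hfac := H36.card_dvd_factorial hne
  rw [hidx, hc] at hfac
  have hne16 : Nat.card (Sylow 3 G) ≠ 16 := by
    intro h
    rw [h] at hmul
    have h7 : 7 ∣ Nat.card (normalizer ((P : Subgroup G) : Set G)) := by omega
    obtain ⟨⟨y, hy⟩, hyo⟩ := exists_prime_orderOf_dvd_card'
      (G := normalizer ((P : Subgroup G) : Set G)) 7 h7
    rw [Subgroup.orderOf_mk] at hyo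
    have hmem : ∀ u ∈ zpowers y, u ∈ normalizer ((P : Subgroup G) : Set G) :=
      fun u hu => (zpowers_le.2 hy) hu
    letI : MulAction (zpowers y) (P : Subgroup G) :=
      { smul := fun u a => ⟨u * a * (u : G)⁻¹, (mem_normalizer_iff.1 (hmem u u.2) a).1 a.2⟩
        one_smul := fun a => Subtype.ext (show (1 : G) * a * 1⁻¹ = a by simp)
        mul_smul := fun u v a => Subtype.ext (show ((u : G) * v) * a * ((u : G) * v)⁻¹ =
          u * (v * a * (v : G)⁻¹) * (u : G)⁻¹ by group) }
    have hp : IsPGroup 7 (zpowers y) :=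
      IsPGroup.of_card (n := 1) (by rw [Nat.card_zpowers, hyo, pow_one])
    have hfix := hp.card_modEq_card_fixedPoints (P : Subgroup G)
    have hone : Nat.card (MulAction.fixedPoints (zpowers y) (P : Subgroup G)) = 1 := by
      rw [Nat.card_eq_one_iff_unique]
      refine ⟨⟨fun a b => ?_⟩, ⟨⟨1, fun g => Subtype.ext (show (g : G) * 1 * (g : G)⁻¹ = 1 by
        rw [mul_one, mul_inv_cancel])⟩⟩⟩
      suffices h : ∀ a : MulAction.fixedPoints (zpowers y) (P : Subgroup G), (a.1 : G) = 1 by
        exact Subtype.ext (Subtype.ext ((h a).trans (h b).symm))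
      rintro ⟨⟨a, haP⟩, ha⟩
      have hay : y * a * y⁻¹ = a := congrArg Subtype.val (ha ⟨y, mem_zpowers y⟩)
      have hc' : a ∈ centralizer ({y} : Set G) :=
        mem_centralizer_singleton_iff.2 (mul_inv_eq_iff_eq_mul.1 hay).symm
      rw [S.centralizer_elt hyo] at hc'
      by_contra hne1
      have ho := Subgroup.orderOf_dvd_natCard _ hc'
      rw [Nat.card_zpowers, hyo, orderOf_eq_three S P (card_sylow_three hc P).dvd haP hne1] at ho
      norm_num at ho
    rw [hone, card_sylow_three hc P] at hfix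
    exact absurd hfix (by decide)
  have key : ∀ n ∈ List.range 225, n ∣ 224 → n % 3 = 1 → n = 1 ∨ n = 4 ∨ n = 7 ∨ n = 16 ∨
      n = 28 ∨ n = 112 := by decide +kernel
  rcases key _ (List.mem_range.2 (by have := Nat.le_of_dvd (by norm_num) hd; omega)) hd hmod with
    h | h | h | h | h | h
  · rw [h] at hfac; exact absurd hfac (by decide)
  · rw [h] at hfac; exact absurd hfac (by decide)
  · rw [h] at hfac; exact absurd hfac (by decide)
  · exact absurd h hne16
  · left; rw [h] at hmul; omega
  · right; rw [h] at hmul; omega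

/-- Values of `χ6` at elements of order three. -/
theorem three_values (C : Chars G) {g : G} (hg : orderOf g = 3) :
    (C.χ6 : G → ℂ) g = 3 ∨ (C.χ6 : G → ℂ) g = 0 ∨ (C.χ6 : G → ℂ) g = -3 := by
  have hne : (C.χ6 : G → ℂ) ≠ fun _ => 1 := fun h => by
    have h1 := (H83.charDegree_eq C.χ6.2).1
    rw [congrFun h 1, C.d6] at h1
    norm_num at h1
  obtain ⟨k, h1, h2, hk⟩ := real_three_value (Spec.hna (by rw [hc]; norm_num)) hne C.d6 hg
    (C.real6 g)
  have : k ≤ 3 := by omega
  interval_cases k <;> rw [hk] <;> norm_num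

/-- `χ6` fixes no vector under a Sylow `3`-subgroup. -/
theorem fixDim_six (C : Chars G) (P : Sylow 3 G) :
    fixDim (C.χ6 : G → ℂ) (P : Subgroup G) = 0 := by
  classical
  haveI := Fact.mk Nat.prime_three
  obtain ⟨f, hf, hanti⟩ := exists_fixDim (IsIrr.isCharacter C.χ6.2)
  rw [hf]
  by_contra hf0
  have hf0' : f (P : Subgroup G) ≠ 0 := fun h => hf0 (by rw [h, Nat.cast_zero])
  have hc27 := card_sylow_three hc P
  set v : ↥(P : Subgroup G) → ℤ := fun q => if q = 1 then 6 else
    if (C.χ6 : G → ℂ) q = 3 then 3 else 0 with hv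
  have hval : ∀ q : (P : Subgroup G), (C.χ6 : G → ℂ) q = v q := by
    intro q
    by_cases h1 : q = 1
    · subst h1
      simp only [hv, if_pos, OneMemClass.coe_one]
      rw [(H83.charDegree_eq C.χ6.2).1, C.d6]; norm_num
    have ho : orderOf (q : G) = 3 := orderOf_eq_three S P hc27.dvd q.2 fun h => h1 (Subtype.ext h)
    simp only [hv, if_neg h1]
    rcases three_values S hc C ho with h | h | h
    · rw [if_pos h, h]; norm_num
    · rw [if_neg (by rw [h]; norm_num), h]; norm_num
    · exfalso
      have hle := hanti (zpowers (q : G)) (P : Subgroup G) (zpowers_le.2 q.2)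
      have hb : fixDim (C.χ6 : G → ℂ) (zpowers (q : G)) = 0 := by
        rw [fixDim_eq]
        have hval' : ∀ u : zpowers (q : G), (u : G) ≠ 1 → (C.χ6 : G → ℂ) (u : G) = -3 := by
          intro u hu
          obtain ⟨k, hk⟩ := mem_zpowers_iff.1 u.2
          have hk' : (q : G) ^ k = (q : G) ∨ (q : G) ^ k = (q : G)⁻¹ := by
            rw [← zpow_mod_orderOf, ho]
            have h3 : (q : G) ^ (3 : ℕ) = 1 := by
              have h' := pow_orderOf_eq_one (q : G)
              rwa [ho] at h'
            have : k % (3 : ℕ) = 0 ∨ k % (3 : ℕ) = 1 ∨ k % (3 : ℕ) = 2 := by omega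
            rcases this with e | e | e <;> rw [e]
            · exfalso; apply hu
              rw [← hk, ← zpow_mod_orderOf, ho, e, zpow_zero]
            · left; rw [zpow_one]
            · right
              refine eq_inv_of_mul_eq_one_left ?_
              rw [show (2 : ℤ) = ((2 : ℕ) : ℤ) from rfl, zpow_natCast, ← pow_succ, h3]
          rw [← hk]
          rcases hk' with e | e <;> rw [e]
          · exact h
          · rw [IsChar.inv_apply (IsIrr.isCharacter C.χ6.2), C.real6, h]
        rw [← Finset.add_sum_erase _ _ (Finset.mem_univ (1 : zpowers (q : G))),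
          Finset.sum_congr rfl (fun u hu => hval' u fun e =>
            (Finset.mem_erase.1 hu).1 (Subtype.ext e)),
          Finset.sum_const, Finset.card_erase_of_mem (Finset.mem_univ _), Finset.card_univ,
          ← Nat.card_eq_fintype_card, Nat.card_zpowers, ho, OneMemClass.coe_one,
          (H83.charDegree_eq C.χ6.2).1, C.d6]
        norm_num
      rw [hf] at hb
      have hb' : f (zpowers (q : G)) = 0 := by exact_mod_cast hb
      omega
  set n1 := (Finset.univ.filter fun q : (P : Subgroup G) => v q = 3).card with hn1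
  have hsum : ∀ φ : ℤ → ℤ, φ 0 = 0 → ∑ q : (P : Subgroup G), φ (v q) = φ 6 + n1 * φ 3 := by
    intro φ h0
    have e : ∀ q : (P : Subgroup G),
        φ (v q) = (if q = 1 then φ 6 else 0) + if v q = 3 then φ 3 else 0 := by
      intro q
      rcases eq_or_ne q 1 with hq | hq
      · have e6 : v q = 6 := by simp only [hv, if_pos hq]
        rw [if_pos hq, e6, if_neg (by norm_num), add_zero]
      · rw [if_neg hq, zero_add]
        rcases (by simp only [hv, if_neg hq]; split <;> simp : v q = 3 ∨ v q = 0) with e3 | e3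
        · rw [if_pos e3, e3]
        · rw [if_neg (by rw [e3]; norm_num), e3, h0]
    rw [Finset.sum_congr rfl fun q _ => e q, Finset.sum_add_distrib, Finset.sum_ite_eq',
      if_pos (Finset.mem_univ _), ← Finset.sum_filter, Finset.sum_const, nsmul_eq_mul, hn1]
  have e1 : 6 + (n1 : ℤ) * 3 = 27 * (f (P : Subgroup G)) := by
    have h := hf (P : Subgroup G)
    rw [fixDim_eq, Finset.sum_congr rfl fun q _ => hval q, hc27, inv_mul_eq_iff_eq_mul₀
      (by norm_num)] at h
    have h' : ∑ q : (P : Subgroup G), v q = 27 * (f (P : Subgroup G) : ℤ) := by exact_mod_cast h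
    rw [← h']; exact (hsum id rfl).symm
  obtain ⟨m, hm⟩ := fixDim_nat (H83.isCharacter_mul (IsIrr.isCharacter C.χ6.2)
    (IsIrr.isCharacter C.χ6.2)) (P : Subgroup G)
  have e2 : 36 + (n1 : ℤ) * 9 = 27 * m := by
    rw [fixDim_eq, Finset.sum_congr rfl fun (q : ↥(P : Subgroup G)) _ => show ((C.χ6 : G → ℂ) * (C.χ6 : G → ℂ)) (q : G) =
      ((v q * v q : ℤ) : ℂ) by rw [Pi.mul_apply, hval q]; push_cast; rfl, hc27,
      inv_mul_eq_iff_eq_mul₀ (by norm_num)] at hm
    have h' : ∑ q : (P : Subgroup G), v q * v q = 27 * (m : ℤ) := by exact_mod_cast hm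
    rw [← h']; exact (hsum (fun z => z * z) rfl).symm
  omega

end Cfsg.Agent.Compute.G22
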