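import Cfsg.Agent.Compute.G22.Seven
import Cfsg.Agent.Compute.G22.Char

/-!
Equations for the values of the principal block at involutions.
-/

set_option autoImplicit false

namespace Cfsg.Agent.Compute.G22

open Cfsg Subgroup Cfsg.Agent.BlockBasic
open scoped ComplexConjugate

variable {G : Type*} [Group G] [Fintype G] [Fact (Nat.Prime 7)]

omit [Fintype G] [Fact (Nat.Prime 7)] in
theorem orderOf_conj_eq (c a : G) : orderOf (c * a * c⁻¹) = orderOf a :=
  MulEquiv.orderOf_eq (MulAut.conj c) a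

namespace Spec

variable (S : Spec G)

include S

omit [Fact (Nat.Prime 7)] in
theorem orderOf_of_mem {s t y a : G} (hs : orderOf s = 2) (ht : orderOf t = 2)
    (ha : IsConj s a ∧ IsConj t (a⁻¹ * y)) :
    orderOf a = 2 ∧ orderOf (a⁻¹ * y) = 2 ∧ a * y * a⁻¹ = y⁻¹ := by
  obtain ⟨c, hc⟩ := isConj_iff.1 ha.1
  obtain ⟨d, hd⟩ := isConj_iff.1 ha.2
  have h1 : orderOf a = 2 := by rw [← hc, orderOf_conj_eq, hs]
  have h2 : orderOf (a⁻¹ * y) = 2 := by rw [← hd, orderOf_conj_eq, ht]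
  refine ⟨h1, h2, ?_⟩
  have hi : a⁻¹ = a := inv_eq_of_mul_eq_one_right (by rw [← pow_two, ← h1, pow_orderOf_eq_one])
  have h3 : a⁻¹ * y * (a⁻¹ * y) = 1 := by rw [← pow_two, ← h2, pow_orderOf_eq_one]
  rw [hi] at h3 ⊢
  exact eq_inv_of_mul_eq_one_left (by simpa [mul_assoc] using h3)

/-- No element of order seven is inverted when `|N(P)|` is odd. -/
theorem cnt_eq_zero_of_odd (P : Sylow 7 G)
    (h2 : ¬ 2 ∣ Nat.card (normalizer ((P : Subgroup G) : Set G))) {s t : G} (hs : orderOf s = 2)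
    (ht : orderOf t = 2) (y : G) (hy : 7 ∣ orderOf y) : PBlock.cnt s t y = ((0 : ℕ) : ℂ) := by
  rw [PBlock.cnt, Nat.cast_inj, Nat.card_eq_zero]
  refine Or.inl ⟨fun a => ?_⟩
  obtain ⟨a, ha⟩ := a
  obtain ⟨ha2, -, hay⟩ := S.orderOf_of_mem hs ht ha
  have hy7 := S.orderOf_seven hy
  obtain ⟨Q, hQ⟩ : ∃ Q : Sylow 7 G, zpowers y ≤ (Q : Subgroup G) :=
    (IsPGroup.of_card (n := 1) (by rw [Nat.card_zpowers, hy7, pow_one])).exists_le_sylow
  have hQe : zpowers y = (Q : Subgroup G) :=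
    eq_of_le_of_card_ge hQ (by rw [Nat.card_zpowers, hy7, S.card_sylow Q])
  have haN : a ∈ normalizer ((Q : Subgroup G) : Set G) := by
    rw [← hQe, mem_normalizer_iff_map_conj_eq, MonoidHom.map_zpowers]
    simp [MulAut.conj_apply, hay]
  have hcard : Nat.card (normalizer ((Q : Subgroup G) : Set G)) =
      Nat.card (normalizer ((P : Subgroup G) : Set G)) := by
    have h := H36.card_sylow_mul_normalizer Q
    rw [← H36.card_sylow_mul_normalizer P] at h
    exact Nat.eq_of_mul_eq_mul_left Nat.card_pos h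
  have := Subgroup.orderOf_dvd_natCard _ haN
  rw [ha2, hcard] at this
  exact h2 this

/-- When `|N(P)|` is even, the involutions inverting elements of order seven form one class. -/
theorem exists_class (P : Sylow 7 G)
    (h2 : 2 ∣ Nat.card (normalizer ((P : Subgroup G) : Set G))) :
    ∃ x : G, orderOf x = 2 ∧
      (∀ y : G, 7 ∣ orderOf y → PBlock.cnt x x y = ((7 : ℕ) : ℂ)) ∧
      ∀ s t : G, orderOf s = 2 → orderOf t = 2 → ¬ IsConj x s →
        ∀ y : G, 7 ∣ orderOf y → PBlock.cnt s t y = ((0 : ℕ) : ℂ) := by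
  obtain ⟨g, hg, hP⟩ := S.exists_gen P
  obtain ⟨x, hx, hxg⟩ := S.exists_inverter P h2 hg
  have hall : ∀ y : G, orderOf y = 7 → ∀ a : G, orderOf a = 2 → a * y * a⁻¹ = y⁻¹ → IsConj x a := by
    intro y hy a ha hay
    obtain ⟨Q, hQ⟩ : ∃ Q : Sylow 7 G, zpowers y ≤ (Q : Subgroup G) :=
      (IsPGroup.of_card (n := 1) (by rw [Nat.card_zpowers, hy, pow_one])).exists_le_sylow
    obtain ⟨c, hc⟩ := MulAction.exists_smul_eq G P Q
    have hy' : y ∈ (c • P : Sylow 7 G).toSubgroup := by rw [hc]; exact hQ (mem_zpowers y)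
    rw [Sylow.coe_subgroup_smul, ← hP] at hy'
    obtain ⟨z, hz, hzy⟩ := hy'
    obtain ⟨k, rfl⟩ := mem_zpowers_iff.1 hz
    have hzy' : c * g ^ k * c⁻¹ = y := hzy
    have hxy : (c * x * c⁻¹) * y * (c * x * c⁻¹)⁻¹ = y⁻¹ := by
      have h1 : x * g ^ k * x⁻¹ = (g ^ k)⁻¹ := by rw [← conj_zpow, hxg, inv_zpow]
      rw [← hzy']
      calc c * x * c⁻¹ * (c * g ^ k * c⁻¹) * (c * x * c⁻¹)⁻¹
          = c * (x * g ^ k * x⁻¹) * c⁻¹ := by group
        _ = (c * g ^ k * c⁻¹)⁻¹ := by rw [h1]; group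
    exact (isConj_iff.2 ⟨c, rfl⟩).trans
      (S.inverter_isConj hy (by rw [orderOf_conj_eq, hx]) ha hxy hay)
  refine ⟨x, hx, fun y hy => ?_, fun s t hs ht hns y hy => ?_⟩
  · have hy7 := S.orderOf_seven hy
    obtain ⟨a, ha, hay⟩ := S.exists_inverter P h2 hy7
    have hai : a⁻¹ = a := inv_eq_of_mul_eq_one_right (by rw [← pow_two, ← ha, pow_orderOf_eq_one])
    have hok : ∀ k : ℕ, orderOf (a * y ^ k) = 2 ∧ a * y ^ k * y * (a * y ^ k)⁻¹ = y⁻¹ := by
      intro k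
      refine ⟨orderOf_eq_prime ?_ ?_, ?_⟩
      · have h1 : a * y ^ k * a⁻¹ = (y ^ k)⁻¹ := by rw [← conj_pow, hay, inv_pow]
        rw [hai] at h1
        rw [pow_two, ← mul_assoc, h1, inv_mul_cancel]
      · intro h
        have hm : a ∈ zpowers y := by
          rw [mul_eq_one_iff_eq_inv] at h
          exact h ▸ inv_mem (pow_mem (mem_zpowers y) k)
        have := Subgroup.orderOf_dvd_natCard _ hm
        rw [ha, Nat.card_zpowers, hy7] at this
        norm_num at this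
      · calc a * y ^ k * y * (a * y ^ k)⁻¹ = a * y * a⁻¹ := by group
          _ = y⁻¹ := hay
    have hok' : ∀ k : ℕ, IsConj x (a * y ^ k) ∧ IsConj x ((a * y ^ k)⁻¹ * y) := by
      intro k
      refine ⟨hall y hy7 _ (hok k).1 (hok k).2, ?_⟩
      have hinv : (a * y ^ k)⁻¹ = a * y ^ k :=
        inv_eq_of_mul_eq_one_right (by rw [← pow_two, ← (hok k).1, pow_orderOf_eq_one])
      rw [hinv, mul_assoc, ← pow_succ]
      exact hall y hy7 _ (hok (k + 1)).1 (hok (k + 1)).2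
    rw [PBlock.cnt, Nat.cast_inj, Nat.card_congr (Equiv.ofBijective
      (fun k : Fin 7 => (⟨a * y ^ (k : ℕ), hok' k⟩ :
        {b : G // IsConj x b ∧ IsConj x (b⁻¹ * y)})) ⟨?_, ?_⟩).symm, Nat.card_fin]
    · intro i j h
      exact Fin.ext (pow_injOn_Iio_orderOf (show _ < orderOf y by rw [hy7]; exact i.2)
        (show _ < orderOf y by rw [hy7]; exact j.2)
        (mul_left_cancel (congrArg Subtype.val h)))
    · rintro ⟨b, hb⟩
      obtain ⟨hb2, -, hby⟩ := S.orderOf_of_mem hx hx hb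
      obtain ⟨k, hk, rfl⟩ := S.inverter_eq hy7 ha hb2 hay hby
      exact ⟨⟨k, hk⟩, rfl⟩
  · rw [PBlock.cnt, Nat.cast_inj, Nat.card_eq_zero]
    refine Or.inl ⟨fun a => ?_⟩
    obtain ⟨a, ha⟩ := a
    obtain ⟨ha2, -, hay⟩ := S.orderOf_of_mem hs ht ha
    exact hns ((hall y (S.orderOf_seven hy) a ha2 hay).trans ha.1.symm)

end Spec

/-- The equations with integer values. -/
theorem PBlock.int_eqs {r : ℕ} (B : PBlock G 7 r) {s t : G} (hs : ¬ 7 ∣ orderOf s)
    (v w : IrrCharacter G → ℤ) (hv : ∀ χ ∈ B.X ∪ B.Y, (χ : G → ℂ) s = v χ)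
    (hw : ∀ χ ∈ B.X ∪ B.Y, (χ : G → ℂ) t = w χ) (c : ℕ)
    (hc : ∀ g : G, 7 ∣ orderOf g → PBlock.cnt s t g = (c : ℂ)) :
    ∑ χ ∈ B.X, B.s χ * v χ = B.ε * v B.θ ∧
      ((centralizer ({s} : Set G)).index : ℚ) * ((centralizer ({t} : Set G)).index : ℚ) *
        (∑ χ ∈ B.X, (B.s χ : ℚ) * ((v χ : ℚ) * w χ / charDegree (χ : G → ℂ)) -
          (B.ε : ℚ) * ((v B.θ : ℚ) * w B.θ / charDegree (B.θ : G → ℂ))) =
        (c : ℚ) * Nat.card G ∧
      ∑ χ ∈ B.X, v χ ^ 2 + ((7 - 1) / r : ℕ) * v B.θ ^ 2 ≤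
        Nat.card (centralizer ({s} : Set G)) := by
  classical
  have hθ : B.θ ∈ B.X ∪ B.Y := Finset.mem_union_right _ B.mem
  have hX : ∀ {χ}, χ ∈ B.X → χ ∈ B.X ∪ B.Y := fun h => Finset.mem_union_left _ h
  refine ⟨?_, ?_, ?_⟩
  · have h := B.rel s hs
    rw [hv _ hθ, Finset.sum_congr rfl fun χ hχ => by rw [hv χ (hX hχ)]] at h
    exact_mod_cast h.symm
  · have h := B.cnt_eq s t c hc
    rw [hv _ hθ, hw _ hθ, Finset.sum_congr rfl fun χ hχ => by
      rw [hv χ (hX hχ), hw χ (hX hχ)]] at h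
    simp only [map_intCast, (H83.charDegree_eq (χ := ((_ : IrrCharacter G) : G → ℂ))
      (Subtype.prop _)).1] at h
    apply (algebraMap ℚ ℂ).injective
    simpa [map_sum, map_mul, map_div₀, map_sub] using h
  · have h := B.centralizer_ge s hs
    rw [hv _ hθ, Finset.sum_congr rfl fun χ hχ => by rw [hv χ (hX hχ)]] at h
    simp only [Complex.norm_intCast, sq_abs] at h
    apply (Int.cast_le (R := ℝ)).1
    push_cast
    exact h

end Cfsg.Agent.Compute.G22
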