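import Cfsg.Agent.Compute.G22.Model
import Cfsg.Agent.Compute.G22.Data

/-!
The search for the involution exchanging the two points.
-/

set_option autoImplicit false

namespace Cfsg.Agent.Compute.G22

/-- The product of two of the eight elements, as an index. -/
def hMul (L : List ℕ) (i j : ℕ) : ℕ := L.idxOf (compT (L.getD i 0) (L.getD j 0))

/-- The map of indices with given images of the two generators. -/
def sigmaOf (L : List ℕ) (sa sb : ℕ) : List ℕ :=
  let s2 := hMul L sa sa
  let s3 := hMul L sa s2
  [0, sa, s2, s3, hMul L 0 sb, hMul L sa sb, hMul L s2 sb, hMul L s3 sb]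

/-- An involutive automorphism of the eight elements. -/
def sigmaB (L s : List ℕ) : Bool :=
  ((List.range 8).all fun i => s.getD (s.getD i 8) 8 == i) &&
    (List.range 8).all fun i => (List.range 8).all fun j =>
      s.getD (hMul L i j) 8 == hMul L (s.getD i 8) (s.getD j 8)

/-- Fill in a value, stored as successor. -/
def setV (T i y : ℕ) : Option ℕ :=
  if getT T i == 0 then some (T + (y + 1) * 32 ^ i) else if getT T i == y + 1 then some T else none

/-- Fill in a list of values. -/
def setL : List (ℕ × ℕ) → ℕ → Option ℕ
  | [], T => some T
  | p :: ps, T =>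
    match setV T p.1 p.2 with
    | none => none
    | some T' => setL ps T'

/-- The values forced by one of them. -/
def forced (L s : List ℕ) (x y : ℕ) : List (ℕ × ℕ) :=
  (List.range 8).flatMap fun i =>
    let p := getT (L.getD i 0) x
    let q := getT (L.getD (s.getD i 8) 0) y
    [(p, q), (q, p)]

/-- The point map of a completed table. -/
def wFun (T x : ℕ) : ℕ := if x == 27 then 0 else if x == 0 then 27 else getT T x - 1

/-- Translations on `28` points. -/
def actC (k g x : ℕ) : ℕ := if x == 27 then 27 else mulC k g x

/-- The product that has to lie in the stabiliser. -/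
def prodC (k : ℕ) (W : ℕ → ℕ) (u x : ℕ) : ℕ := W (actC k (invC k (W u)) (W (actC k u (W x))))

/-- All these products lie in the stabiliser. -/
def leafB (k : ℕ) (L : List ℕ) (T : ℕ) : Bool :=
  (List.range 26).all fun u =>
    L.any fun H => [9, 3, 1].all (fun x =>
        prodC k (wFun T) (u + 1) x == mulC k (prodC k (wFun T) (u + 1) 0) (getT H x)) &&
      (List.range 27).all fun x =>
        prodC k (wFun T) (u + 1) x == mulC k (prodC k (wFun T) (u + 1) 0) (getT H x)

/-- Membership in a list of solutions. -/
def inFound (F : List ℕ) (T : ℕ) : Bool :=
  F.any fun w => (List.range 26).all fun x => getT w (x + 1) + 1 == getT T (x + 1)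

/-- The search. -/
def dfsW (k : ℕ) (L s F : List ℕ) : ℕ → ℕ → Bool
  | 0, _ => false
  | n + 1, T =>
    match (List.range 26).find? (fun x => getT T (x + 1) == 0) with
    | none => !(leafB k L T) || inFound F T
    | some x => (List.range 26).all fun y =>
        match setL (forced L s (x + 1) (y + 1)) T with
        | none => true
        | some T' => dfsW k L s F n T'

/-- The search for given images of the two generators. -/
def searchB (r sa sb : ℕ) (F : List ℕ) : Bool :=
  let L := reps.getD r []
  !(sigmaB L (sigmaOf L sa sb)) || dfsW (if r < 5 then 0 else 1) L (sigmaOf L sa sb) F 27 0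

/-- The search for a given image of the first generator. -/
def searchRow (r sa : ℕ) (F : List ℕ) : Bool := (List.range 8).all fun sb => searchB r sa sb F

end Cfsg.Agent.Compute.G22
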